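import Cfsg.Agent.Lib.O83.BasB

/-! The conjugates of the quaternion group. -/

set_option autoImplicit false
set_option linter.unusedSectionVars false

namespace H12.O83

open Subgroup H20.L43 H69

variable {G : Type*} [Group G] [Finite G] {f : V4 → G}

namespace St
variable {l : Bool} {s : M4 → G} {i : G} (h : St l f s i) {M N : M4}
include h

/-- rigidity of `i` -/
theorem i_uniq {k k' : G} (hk : k ∈ Bq f i) (k4 : k' ^ 4 = 1) (hz : Commute k' (f vz))
    (he : Commute k' (f e4)) (ht : Commute k' (s mT)) (hw : Commute k' (s mO))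
    (hr : k' * f vr * k'⁻¹ = k * f vr * k⁻¹) : k' = k := by
  have c1 : Commute (k⁻¹ * k') (f vz) := (show Commute k _ from h.Bz hk).inv_left.mul_left hz
  have c2 : Commute (k⁻¹ * k') (f e4) := (show Commute k _ from h.Be hk).inv_left.mul_left he
  have c3 : Commute (k⁻¹ * k') (s mT) := (show Commute k _ from h.Bt hk).inv_left.mul_left ht
  have c4 : Commute (k⁻¹ * k') (s mO) := (show Commute k _ from h.Bw hk).inv_left.mul_left hw
  have c5 : Commute (k⁻¹ * k') (f vr) := by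
    calc _ = k⁻¹ * (k' * f vr * k'⁻¹) * k' := by group
      _ = _ := by rw [hr]; group
  obtain ⟨x, M, hM, e⟩ := h.dec _ (h.cz (p := vz) (x := vr) (by decide) c1 c5)
  rw [e] at c1 c2 c3 c4 c5
  obtain rfl := forall_orth (P := fun M => mv M vz = vz → mv M e4 = e4 → mv M vr = vr → M = 1)
    (by decide +kernel) M hM.1 ((h.com_f hM).1 c1) ((h.com_f hM).1 c2) ((h.com_f hM).1 c5)
  obtain ⟨c, rfl⟩ := (by decide +kernel : ∀ x, mv mT x = x → mv mO x = x → ∃ c : ZMod 3,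
    x = c • vz + (0 : ZMod 3) • e4) x ((h.com_s hM W_mT).1 c3).1 ((h.com_s hM W_mO).1 c4).1
  rw [h.s1, mul_one, inv_mul_eq_iff_eq_mul] at e
  rw [e, Commute.mul_pow (h.Bπ hk _ _), h.B4 hk, one_mul, pow_succ, h.f3, one_mul] at k4
  rw [e, k4, mul_one]

theorem cj_i (hM : W l M) (hz : mv M vz = vz ∨ mv M vz = -vz) (he : mv M e4 = -e4) (M2 : M * M = 1)
    (ht : M * mT = mT * M) (hb : M * mB = mB * M) (hw : M * mO = mO * M ∨ M * mO = tr mO * M)
    {k : G} (hk : k ∈ Bq f i) (hr : mv M vr = vr ∧ k = i ∨ mv M vr = -vr ∧ k = i⁻¹) :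
    s M * i * (s M)⁻¹ = k := by
  have m : (s M)⁻¹ = s M := inv_eq_of_mul_eq_one_right (h.ssq hM M2)
  have c : ∀ {g}, Commute i (s M * g * (s M)⁻¹) → Commute (s M * i * (s M)⁻¹) g := fun {g} e => by
    calc _ = s M * (i * ((s M)⁻¹ * g * s M)) * (s M)⁻¹ := by group
      _ = _ := by rw [m] at e ⊢; rw [e]; simp [← mul_assoc, h.ssq hM M2]
  have iz : Commute i (f vz) := h.iz
  have ie : Commute i (f e4) := h.ie
  have iw : Commute i (s mO) := h.iw
  refine h.i_uniq hk (by rw [conj_pow, h.B4 h.iB]; simp) (c ?_) (c ?_) (c ?_) (c ?_) ?_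
  · rcases hz with e | e <;> rw [h.act M hM, e]
    exacts [iz, h.fneg _ ▸ iz.inv_right]
  · rw [h.act M hM, he, h.fneg]; exact ie.inv_right
  · rw [h.scomm hM W_mT ht, mul_inv_cancel_right]; exact h.it
  · rcases hw with e | e <;> rw [← h.mul _ _ hM W_mO, e]
    · rw [h.mul _ _ W_mO hM, mul_inv_cancel_right]; exact iw
    · rw [h.mul _ _ W_mO.tr hM, mul_inv_cancel_right, h.sinv W_mO]; exact iw.inv_right
  · have e1 : s M * i * (s M)⁻¹ * f vr * (s M * i * (s M)⁻¹)⁻¹ =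
        s M * (i * f (mv M vr) * i⁻¹) * (s M)⁻¹ := by
      rw [← h.act M hM, m]; simp [mul_assoc, m]
    have e2 : s M * s mB * (s M)⁻¹ = s mB := by rw [h.scomm hM W_mB hb, mul_inv_cancel_right]
    rcases hr with ⟨e, rfl⟩ | ⟨e, rfl⟩ <;> rw [e1, e]
    · rw [h.ir, e2]
    · rw [h.fneg, ← conj_inv, h.ir, ← conj_inv, e2, ← h.ir]
      nth_rewrite 2 3 [h.iinv]
      calc _ = i * (f vr)⁻¹ * i⁻¹ := by group
        _ = i * (s mT * f vr * (s mT)⁻¹) * i⁻¹ := by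
          rw [h.act _ W_mT, show mv mT vr = -vr by decide, h.fneg]
        _ = _ := by group

theorem si : s (-1) * i * (s (-1))⁻¹ = i⁻¹ := h.cj_i W.one.neg (by decide) (by decide) (by decide)
  (by decide) (by decide) (by decide) (inv_mem h.iB) (.inr ⟨by decide, rfl⟩)
theorem sj : s (-1) * jj f i * (s (-1))⁻¹ = (i * jj f i)⁻¹ := by
  have e : s (-1) * f v1 * (s (-1))⁻¹ = (f v1)⁻¹ := by
    rw [h.act _ W.one.neg, mv_negm, mv_one, h.fneg]
  rw [jj, ← conj_mul, ← conj_mul, ← conj_inv, e, h.si, ← jj]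
  nth_rewrite 1 [← h.yk]
  group
theorem uB (hl : l = true) {b : G} (hb : b ∈ Bq f i) : s u4 * b = b * s u4 := by
  have w : W l u4 := ⟨by decide, .inl hl⟩
  have e : Commute (s u4) i := mul_inv_eq_iff_eq_mul.1 (h.cj_i w (by decide) (by decide)
    (by decide) (by decide) (by decide) (by decide) h.iB (.inl ⟨by decide, rfl⟩))
  have y : Commute (s u4) (f v1) := h.sfc w (by decide)
  exact (h.Bc e.symm ((y.mul_right e).mul_right y.inv_right).symm hb).symm

/-- `N(Z) ∩ C(t)` normalizes `B` -/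
theorem nB {g : G} (hz : g * f vz * g⁻¹ ∈ zpowers (f vz)) (ht : g * s mT = s mT * g) {b : G}
    (hb : b ∈ Bq f i) : g * b * g⁻¹ ∈ Bq f i := by
  obtain ⟨k, hk, n⟩ := h.nz g hz
  refine conj_mem ((mul_mem_cancel_right (le_normalizer hk)).1 ?_) hb
  have c1 : g * k * f vz * (g * k)⁻¹ ∈ zpowers (f vz) := by
    rwa [mul_assoc g, h.Bz hk, mul_inv_rev, ← mul_assoc, ← mul_assoc, mul_inv_cancel_right]
  have c2 : Commute (g * k) (s mT) := Commute.mul_left ht (h.Bt hk)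
  obtain ⟨x, M, hM, e⟩ := h.dec _ n
  rw [e] at c1 c2 ⊢
  obtain ⟨hx, c2⟩ := (h.com_s hM W_mT).1 c2
  obtain ⟨c, c1⟩ := h.mem_zp.1 (h.fs_cj hM _ _ ▸ c1)
  obtain ⟨a, b, c, d, e1, e2⟩ := forall_orth (P := fun M => (∃ c : ZMod 3, c • vz = mv M vz) →
    M * mT = mT * M → ∃ a c d : Fin 2, ∃ b : Fin 3, (sg M = 1 → d.1 = 0) ∧
      M = mT ^ a.1 * (-1) ^ c.1 * u4 ^ d.1 * mO ^ b.1) (by decide +kernel) M hM.1 ⟨c, h.finj c1⟩ c2
  have n0 : ∀ {g : G}, (∀ b ∈ Bq f i, g * b = b * g) → g ∈ 𝐍(Bq f i) := fun e =>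
    mem_norm fun b hb => by rwa [e b hb, mul_inv_cancel_right]
  have u : W l (u4 ^ c.1) ∧ s (u4 ^ c.1) ∈ 𝐍(Bq f i) := by
    rcases hM.2 with k | k
    · have w : W l u4 := ⟨by decide, .inl k⟩
      exact ⟨w.pow _, h.spow w _ ▸ pow_mem (n0 fun _ => h.uB k) _⟩
    · rw [e1 k, pow_zero, h.s1]; exact ⟨W.one, one_mem _⟩
  have w1 : W l (mT ^ a.1) := W_mT.pow _
  have w2 : W l ((-1) ^ b.1) := W.one.neg.pow _
  rw [e2, h.mul _ _ ((w1.mul w2).mul u.1) (W_mO.pow _), h.mul _ _ (w1.mul w2) u.1, h.mul _ _ w1 w2,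
    h.spow W_mT, h.spow W.one.neg, h.spow W_mO]
  refine mul_mem (mem_norm fun _ => h.xBm hx) (mul_mem (mul_mem (mul_mem
    (pow_mem (le_normalizer h.tB) _) (pow_mem (mem_norm fun b hb => ?_) _)) u.2)
    (pow_mem (n0 fun _ hb => (h.Bw hb).symm) _))
  obtain ⟨m, n, rfl⟩ := h.mem_B.1 hb
  rw [← conj_mul, ← conj_pow, ← conj_pow, h.si, h.sj]
  exact mul_mem (pow_mem (inv_mem h.iB) m) (pow_mem (inv_mem (mul_mem h.iB h.jB)) n)

theorem Bcj (hM : W l M) (hN : W l N) (MT : M * mT = mT * M) (NT : N * mT = mT * N)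
    (e : mv M vz = mv N vz ∨ mv M vz = -mv N vz) : Bq f i ^ᶜ s M = Bq f i ^ᶜ s N := by
  rw [cj_eq_iff, cj_cj, eq_comm]
  refine cj_eq_of_mem_normalizer (mem_norm fun b => h.nB ?_ (Commute.mul_left
    (show Commute (s M) _ from h.scomm hM W_mT MT).inv_left (h.scomm hN W_mT NT)))
  rw [← h.sinv hM, ← h.mul _ _ hM.tr hN, h.act _ (hM.tr.mul hN), mv_mul, h.mem_zp]
  rcases e with e | e
  · exact ⟨1, by rw [← e, hM.1.tr_mv, one_smul]⟩
  · exact ⟨-1, by rw [← neg_neg (mv N vz), ← e, mv_neg, hM.1.tr_mv, neg_one_smul]⟩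

set_option synthInstance.maxSize 1000 in
theorem BE (hM : W l M) (MT : M * mT = mT * M) : Bq f i ^ᶜ s M ≤ Eg f s i := by
  have hx : mv mT (mv M vz) = mv M vz := by rw [← mv_mul, ← MT, mv_mul]; rfl
  obtain ⟨N, hN, e⟩ := (by decide +kernel : ∀ x, mv mT x = x → dt x x = dt vz vz → x ≠ 0 →
    ∃ N ∈ [1, p1, p2, p3], x = mv N vz ∨ x = -mv N vz) _ hx (hM.1.dt _ _)
    (fun e => absurd ((hM.1.tr_mv vz).symm.trans (by rw [e, mv_zero])) (by decide : vz ≠ 0))
  simp only [List.mem_cons, List.not_mem_nil, or_false] at hN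
  rcases hN with rfl | rfl | rfl | rfl
  · rw [h.Bcj hM W.one MT (by decide) e, h.s1, cj_one]
    exact le_sup_of_le_left (le_sup_of_le_left le_sup_left)
  · exact h.Bcj hM W_p1 MT (by decide) e ▸ le_sup_of_le_left (le_sup_of_le_left le_sup_right)
  · exact h.Bcj hM W_p2 MT (by decide) e ▸ le_sup_of_le_left le_sup_right
  · exact h.Bcj hM W_p3 MT (by decide) e ▸ le_sup_right

theorem nE {g : G} (hg : g ∈ NJ f) (ht : g * s mT = s mT * g) {a : G} (ha : a ∈ Eg f s i) :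
    g * a * g⁻¹ ∈ Eg f s i := by
  obtain ⟨x, M, hM, rfl⟩ := h.dec g hg
  obtain ⟨hx, MT⟩ := (h.com_s hM W_mT).1 ht
  have k : ∀ {N}, W l N → N * mT = mT * N → (Bq f i ^ᶜ s N) ^ᶜ (f x * s M) ≤ Eg f s i :=
    fun {N} hN NT => by
      have w := hM.mul hN
      have c : M * N * mT = mT * (M * N) := by rw [mul_assoc, NT, ← mul_assoc, MT, mul_assoc]
      rw [cj_cj, mul_assoc, ← h.mul _ _ hM hN, ← w.1.mv_tr x, ← h.sf w, ← cj_cj,
        cj_eq_of_mem_normalizer (mem_norm fun _ => h.xBm (by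
          rw [← mv_mul, show mT = tr mT from rfl, ← tr_mul, c, tr_mul, mv_mul]
          exact congrArg _ hx))]
      exact h.BE w c
  refine (show Eg f s i ^ᶜ (f x * s M) ≤ Eg f s i from ?_) (cj_mem _ ha)
  nth_rewrite 1 [Eg]
  rw [cj_sup, cj_sup, cj_sup]
  exact sup_le (sup_le (sup_le (by simpa only [h.s1, cj_one] using k W.one (by decide))
    (k W_p1 (by decide))) (k W_p2 (by decide))) (k W_p3 (by decide))

end St

end H12.O83
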