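import Cfsg.Agent.Lib.O83.Lin
import Cfsg.Agent.Lib.P3L.Tools
import Cfsg.Agent.Lib.LocStruct.SylowIn

/-! Weak closure of `J` and control of fusion. -/

set_option autoImplicit false
set_option linter.unusedSectionVars false

namespace H12.O83

open Subgroup H20.L43 H69

variable {G : Type*} [Group G] [Finite G] {f : V4 → G}

namespace Pre
variable {a b : G} (h : Pre f a b)
include h

theorem f0 : f 0 = 1 := by simpa using h.add 0 0
theorem fneg (x : V4) : f (-x) = (f x)⁻¹ :=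
  eq_inv_of_mul_eq_one_left (by rw [← h.add, neg_add_cancel, h.f0])
theorem fsub (x y : V4) : f (x - y) = f x * (f y)⁻¹ := by rw [sub_eq_add_neg, h.add, h.fneg]
theorem f3 (x : V4) : f x ^ 3 = 1 := by
  rw [pow_three, ← h.add, ← h.add, (by decide +kernel : ∀ x : V4, x + (x + x) = 0) x, h.f0]
theorem fcomm (x y : V4) : f x * f y = f y * f x := by rw [← h.add, ← h.add, add_comm]
theorem fsmul (c : ZMod 3) (x : V4) : f (c • x) = f x ^ c.val := by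
  change _ = pw (f x) c
  rcases zm3 c with rfl | rfl | rfl
  · simp [h.f0]
  · simp
  · rw [pw_neg_one (h.f3 x), neg_one_smul, h.fneg]
theorem finj {x y : V4} (e : f x = f y) : x = y :=
  sub_eq_zero.1 (h.inj _ (by rw [h.fsub, e, mul_inv_cancel]))
theorem mem_cl {S : Set V4} (h0 : 0 ∈ S) (ha : ∀ x ∈ S, ∀ y ∈ S, x + y ∈ S) (hn : ∀ x ∈ S, -x ∈ S)
    {g : G} : g ∈ closure (f '' S) ↔ ∃ x, x ∈ S ∧ f x = g := by
  refine ⟨fun hg => ?_, fun hg => subset_closure hg⟩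
  induction hg using closure_induction with
  | mem x hx => exact hx
  | one => exact ⟨0, h0, h.f0⟩
  | mul _ _ _ _ p q =>
    obtain ⟨x, hx, rfl⟩ := p
    obtain ⟨y, hy, rfl⟩ := q
    exact ⟨_, ha x hx y hy, h.add x y⟩
  | inv _ _ p =>
    obtain ⟨x, hx, rfl⟩ := p
    exact ⟨_, hn x hx, h.fneg x⟩
theorem mem_J {g : G} : g ∈ Jg f ↔ ∃ x, f x = g := by
  rw [Jg, ← Set.image_univ, h.mem_cl (S := Set.univ) trivial (fun _ _ _ _ => trivial) fun _ _ => trivial]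
  simp
theorem mem_zp {g : G} {v : V4} : g ∈ zpowers (f v) ↔ ∃ c : ZMod 3, f (c • v) = g := by
  simp only [H20.L43.mem_zp (h.f3 v), h.fsmul, pw]
theorem mem_Ac {Θ : M4} {g : G} : g ∈ Ac f Θ ↔ ∃ x, mv Θ x = x ∧ f x = g :=
  h.mem_cl (S := {x | mv Θ x = x}) (mv_zero Θ)
    (fun x hx y hy => (mv_add Θ x y).trans (congrArg₂ _ hx hy))
    fun x hx => (mv_neg Θ x).trans (congrArg _ hx)
theorem mem_NJ {g : G} : g ∈ NJ f ↔ ∀ x, ∃ y, g * f x * g⁻¹ = f y :=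
  ⟨fun hg x => (h.mem_J.1 (conj_mem hg (h.mem_J.2 ⟨x, rfl⟩))).imp fun _ => Eq.symm,
    fun hg => mem_norm fun a ha => by
      obtain ⟨x, rfl⟩ := h.mem_J.1 ha
      exact h.mem_J.2 ((hg x).imp fun _ => Eq.symm)⟩
theorem fN (x : V4) : f x ∈ NJ f := le_normalizer (h.mem_J.2 ⟨x, rfl⟩)
theorem mat {g : G} (hg : g ∈ NJ f) : ∃ M, ∀ x, g * f x * g⁻¹ = f (mv M x) := by
  choose μ hμ using h.mem_NJ.1 hg
  have ad : ∀ x y, μ (x + y) = μ x + μ y := fun x y =>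
    h.finj (by rw [h.add, ← hμ, ← hμ, ← hμ, h.add, conj_mul])
  have sm : ∀ (c : ZMod 3) x, μ (c • x) = c • μ x := fun c x =>
    h.finj (by rw [h.fsmul, ← hμ, ← hμ, h.fsmul, conj_pow])
  refine ⟨cols (μ e1) (μ e2) (μ e3) (μ e4), fun x => ?_⟩
  rw [hμ, (by decide +kernel : ∀ x : V4, x = x.1 • e1 + x.2.1 • e2 + x.2.2.1 • e3 + x.2.2.2 • e4) x,
    ad, ad, ad, sm, sm, sm, sm]
  congr 1
  simp only [mv, cols, e1, e2, e3, e4, Prod.ext_iff]
  simp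
  refine ⟨?_, ?_, ?_, ?_⟩ <;> ring

omit h in
theorem pow_act {g : G} {M : M4} (e : ∀ x, g * f x * g⁻¹ = f (mv M x)) (n : ℕ) (x : V4) :
    g ^ n * f x * (g ^ n)⁻¹ = f (mv (M ^ n) x) := by
  induction n generalizing x with
  | zero => simp [mv_one]
  | succ n ih => rw [pow_succ M, mv_mul, ← ih, ← e, pow_succ]; group

theorem S_act (x y : V4) (m n : ℕ) : f x * (a ^ m * b ^ n) * f y * (f x * (a ^ m * b ^ n))⁻¹ =
    f (mv (mO ^ m * mB ^ n) y) := by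
  calc _ = f x * (a ^ m * (b ^ n * f y * (b ^ n)⁻¹) * (a ^ m)⁻¹) * (f x)⁻¹ := by group
    _ = _ := by rw [pow_act h.bB, pow_act h.aO, h.fcomm, mul_inv_cancel_right, mv_mul]

theorem wcS {g : G} (hg : ∀ x, ∃ y, ∃ m n : ℕ, g * f x * g⁻¹ = f y * (a ^ m * b ^ n)) : g ∈ NJ f := by
  classical
  let U : ZMod 3 × ZMod 3 → M4 := fun c => mO ^ c.1.val * mB ^ c.2.val
  have hg' : ∀ x, ∃ y, ∃ c : ZMod 3 × ZMod 3, g * f x * g⁻¹ = f y * (a ^ c.1.val * b ^ c.2.val) :=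
    fun x => by
      obtain ⟨y, m, n, e⟩ := hg x
      exact ⟨y, (m, n), by rw [e, ZMod.val_natCast, ZMod.val_natCast, ← pow_eq_pow_mod _ h.a3,
        ← pow_eq_pow_mod _ h.b3]⟩
  choose ν μ e using hg'
  have act : ∀ x y, g * f x * g⁻¹ * f y * (g * f x * g⁻¹)⁻¹ = f (mv (U (μ x)) y) := fun x y => by
    rw [e, h.S_act]
  have ad : ∀ x y, μ (x + y) = μ x + μ y := fun x y =>
    (by decide +kernel : ∀ c d e : ZMod 3 × ZMod 3, mv (mO ^ c.1.val * mB ^ c.2.val) z2 =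
      mv (mO ^ d.1.val * mB ^ d.2.val) (mv (mO ^ e.1.val * mB ^ e.2.val) z2) → c = d + e) _ _ _
      (h.finj (by rw [← act, ← act, ← act, h.add]; group))
  let φ : V4 →+ ZMod 3 × ZMod 3 := AddMonoidHom.mk' μ ad
  have kJ : ∀ x, μ x = 0 → g * f x * g⁻¹ = f (ν x) := fun x hx => by rw [e, hx]; simp
  have kf : ∀ x, μ x = 0 → ∀ y, mv (U (μ y)) (ν x) = ν x := fun x hx y => h.finj (by
    rw [← act, ← kJ x hx, conj_mul, h.fcomm]; group)
  have cd : ∀ T : Finset V4, (∀ x, μ x = 0 → ν x ∈ T) → Nat.card φ.ker ≤ T.card := fun T hT => by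
    rw [← Nat.card_eq_finsetCard]
    refine Nat.card_le_card_of_injective (fun x => ⟨ν x, hT x x.2⟩) fun x y k => Subtype.ext ?_
    have := congrArg (fun t : T => f t) k
    simp only [← kJ _ x.2, ← kJ _ y.2, mul_left_inj, mul_right_inj] at this
    exact h.finj this
  have c81 : 81 = Nat.card φ.range * Nat.card φ.ker := by
    rw [← Nat.card_congr (QuotientAddGroup.quotientKerEquivRange φ).toEquiv,
      ← AddSubgroup.card_eq_card_quotient_mul_card_addSubgroup]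
    simp
  have c9 : Nat.card (ZMod 3 × ZMod 3) = 9 := by simp
  refine h.mem_NJ.2 fun x => ⟨_, kJ x (by_contra fun hx => ?_)⟩
  have k1 := cd (Finset.univ.filter fun v => mv (U (μ x)) v = v) fun y hy => by simpa using kf y hy x
  have k2 := (by decide +kernel : ∀ c : ZMod 3 × ZMod 3, c ≠ 0 →
    (Finset.univ.filter fun v => mv (mO ^ c.1.val * mB ^ c.2.val) v = v).card = 9) _ hx
  have k3 : φ.range = ⊤ := AddSubgroup.eq_top_of_le_card _ (by rw [c9]; by_contra; nlinarith)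
  obtain ⟨x1, r1⟩ : (1, 0) ∈ φ.range := k3 ▸ trivial
  obtain ⟨x2, r2⟩ : (0, 1) ∈ φ.range := k3 ▸ trivial
  have k4 := cd (Finset.univ.filter fun v => mv (U (1, 0)) v = v ∧ mv (U (0, 1)) v = v)
    fun y hy => by simpa using ⟨r1 ▸ kf y hy x1, r2 ▸ kf y hy x2⟩
  rw [show (Finset.univ.filter fun v => mv (U (1, 0)) v = v ∧ mv (U (0, 1)) v = v).card = 3 by
    decide +kernel] at k4
  rw [k3, AddSubgroup.card_top, c9] at c81
  omega

theorem pJ : IsPGroup 3 (Jg f) := pg3 (n := 1) fun x hx => by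
  obtain ⟨x, rfl⟩ := h.mem_J.1 hx
  exact h.f3 x

theorem SN (x : V4) (m n : ℕ) : f x * (a ^ m * b ^ n) ∈ NJ f :=
  h.mem_NJ.2 fun y => ⟨_, h.S_act x y m n⟩

theorem p3 {P : Subgroup G} (hP : IsPGroup 3 P) (hJ : ∀ x, f x ∈ P) : P ≤ NJ f := fun g hg => by
  obtain ⟨k, hk⟩ := h.syl P hP
  have kN := h.wcS fun x => hk _ (hJ x)
  obtain ⟨x, m, n, e⟩ := hk g hg
  have := mul_mem (mul_mem (inv_mem kN) (h.SN x m n)) kN
  rw [← e] at this
  simpa [mul_assoc] using this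

/-- weak closure of `J` -/
theorem wc {g : G} (hg : ∀ x, g * f x * g⁻¹ ∈ NJ f) : g ∈ NJ f := by
  have hP : IsPGroup 3 (Jg f ^ᶜ g ⊔ Jg f : Subgroup G) :=
    IsPGroup.to_sup_of_normal_right' (isPGroup_cj h.pJ g) h.pJ fun y hy => by
      obtain ⟨y, hy', rfl⟩ := mem_cj'.1 hy
      obtain ⟨x, rfl⟩ := h.mem_J.1 hy'
      exact hg x
  obtain ⟨k, hk⟩ := h.syl _ hP
  have kN := h.wcS fun x => hk _ (mem_sup_right (h.mem_J.2 ⟨x, rfl⟩))
  exact (mul_mem_cancel_left kN).1 (h.wcS fun x => by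
    simpa [mul_assoc] using hk _ (mem_sup_left (cj_mem g (h.mem_J.2 ⟨x, rfl⟩))))

/-- `N(J)` controls fusion in `J` -/
theorem fus {g : G} {A : Set V4} (hg : ∀ x ∈ A, ∃ y, g * f x * g⁻¹ = f y) :
    ∃ n ∈ NJ f, ∀ x ∈ A, n * f x * n⁻¹ = g * f x * g⁻¹ := by
  obtain ⟨P, hP, l⟩ := exists_isSylowIn_le h.pJ (L := centralizer (f '' A)) fun y hy => by
    obtain ⟨y, rfl⟩ := h.mem_J.1 hy
    rintro _ ⟨x, -, rfl⟩
    exact h.fcomm x y
  obtain ⟨c, hc, l2⟩ := hP.exists_cj_le (isPGroup_cj h.pJ g⁻¹) fun y hy => by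
    obtain ⟨y, hy', rfl⟩ := mem_cj'.1 hy
    obtain ⟨y, rfl⟩ := h.mem_J.1 hy'
    rintro _ ⟨x, hx, rfl⟩
    obtain ⟨x', e⟩ := hg x hx
    calc _ = g⁻¹ * (g * f x * g⁻¹ * f y) * g := by group
      _ = _ := by rw [e, h.fcomm, ← e]; group
  have n := h.wc (g := c * g⁻¹) fun x => h.p3 hP.isP (fun x => l (h.mem_J.2 ⟨x, rfl⟩))
    (l2 (by rw [cj_cj]; exact cj_mem _ (h.mem_J.2 ⟨x, rfl⟩)))
  refine ⟨_, inv_mem n, fun x hx => ?_⟩
  calc _ = g * (c⁻¹ * (f x * c)) * g⁻¹ := by group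
    _ = _ := by rw [hc _ ⟨x, hx, rfl⟩]; group

theorem NA {g : G} {A : Set V4} (hC : ∀ c, (∀ x ∈ A, c * f x = f x * c) → c ∈ NJ f)
    (hg : ∀ x ∈ A, ∃ y, g * f x * g⁻¹ = f y) : g ∈ NJ f := by
  obtain ⟨n, hn, e⟩ := h.fus hg
  refine (mul_mem_cancel_left (inv_mem hn)).1 (hC _ fun x hx => ?_)
  calc _ = n⁻¹ * (g * f x * g⁻¹) * g := by group
    _ = _ := by rw [← e x hx]; group

end Pre

end H12.O83
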