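import Cfsg.Agent.Lib.O83.BasA

/-! The normalizer of `J` and the quaternion group. -/

set_option autoImplicit false
set_option linter.unusedSectionVars false
set_option linter.unusedSimpArgs false

namespace H12.O83

open Subgroup H20.L43 H69

variable {G : Type*} [Group G] [Finite G] {f : V4 → G}

namespace St
variable {l : Bool} {s : M4 → G} {i : G} (h : St l f s i) {M N : M4}
include h

theorem s1 : s 1 = 1 := by simpa using h.mul 1 1 W.one W.one
theorem sinv (hM : W l M) : s (tr M) = (s M)⁻¹ :=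
  eq_inv_of_mul_eq_one_left (by rw [← h.mul _ _ hM.tr hM, hM.1, h.s1])
theorem spow (hM : W l M) (n : ℕ) : s (M ^ n) = s M ^ n := by
  induction n with
  | zero => simpa using h.s1
  | succ n ih => rw [pow_succ, h.mul _ _ (hM.pow n) hM, ih, pow_succ]
theorem scj (hM : W l M) (hN : W l N) : s M * s N * (s M)⁻¹ = s (M * N * tr M) := by
  rw [h.mul _ _ (hM.mul hN) hM.tr, h.mul _ _ hM hN, h.sinv hM]
theorem sf (hM : W l M) (x : V4) : s M * f x = f (mv M x) * s M := by rw [← h.act M hM]; group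
theorem sN (hM : W l M) : s M ∈ NJ f := h.mem_NJ.2 fun x => ⟨_, h.act M hM x⟩
theorem ssq (hM : W l M) (e : M * M = 1) : s M * s M = 1 := by rw [← h.mul _ _ hM hM, e, h.s1]
theorem scomm (hM : W l M) (hN : W l N) (e : M * N = N * M) : s M * s N = s N * s M := by
  rw [← h.mul _ _ hM hN, e, h.mul _ _ hN hM]
theorem sfc (hM : W l M) {x : V4} (e : mv M x = x) : s M * f x = f x * s M := by rw [h.sf hM, e]
theorem fs_mul (hM : W l M) (hN : W l N) (x y : V4) :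
    f x * s M * (f y * s N) = f (x + mv M y) * s (M * N) := by
  rw [h.add, h.mul _ _ hM hN, ← h.act M hM]; group
theorem fs_cj (hM : W l M) (x y : V4) : f x * s M * f y * (f x * s M)⁻¹ = f (mv M y) := by
  calc _ = f x * (s M * f y * (s M)⁻¹) * (f x)⁻¹ := by group
    _ = _ := by rw [h.act M hM, h.fcomm, mul_inv_cancel_right]
theorem uniq (hM : W l M) (hN : W l N) {x y : V4} (e : f x * s M = f y * s N) : x = y ∧ M = N := by
  obtain rfl : M = N := mv_ext fun v => h.finj (by rw [← h.fs_cj hM x, e, h.fs_cj hN])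
  exact ⟨h.finj (mul_right_cancel e), rfl⟩
theorem sinj (hM : W l M) (hN : W l N) (e : s M = s N) : M = N :=
  (h.uniq hM hN (x := 0) (y := 0) (by rw [e])).2
theorem com_f (hM : W l M) {x v : V4} : f x * s M * f v = f v * (f x * s M) ↔ mv M v = v := by
  rw [← mul_inv_eq_iff_eq_mul, h.fs_cj hM]
  exact ⟨h.finj, congrArg f⟩
theorem com_s (hM : W l M) (hN : W l N) {x : V4} :
    f x * s M * s N = s N * (f x * s M) ↔ mv N x = x ∧ M * N = N * M := by
  rw [mul_assoc, ← h.mul _ _ hM hN, ← mul_assoc, h.sf hN, mul_assoc, ← h.mul _ _ hN hM]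
  exact ⟨fun e => (h.uniq (hM.mul hN) (hN.mul hM) e).imp_left Eq.symm, fun e => by rw [e.1, e.2]⟩
theorem fs_pow (hM : W l M) (x : V4) (n : ℕ) : ∃ y, (f x * s M) ^ n = f y * s (M ^ n) := by
  induction n with
  | zero => exact ⟨0, by simp [h.f0, h.s1]⟩
  | succ n ih =>
    obtain ⟨y, e⟩ := ih
    exact ⟨_, by rw [pow_succ, e, h.fs_mul (hM.pow n) hM, pow_succ]⟩
theorem cJ {g : G} (hg : ∀ x, g * f x = f x * g) : ∃ x, f x = g := by
  obtain ⟨x, M, hM, rfl⟩ := h.dec g (h.mem_NJ.2 fun x => ⟨x, by rw [hg]; group⟩)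
  obtain rfl : M = 1 := mv_ext fun v => by rw [mv_one, (h.com_f hM).1 (hg v)]
  exact ⟨x, by rw [h.s1, mul_one]⟩
/-- fusion of vectors -/
theorem fusW {g : G} {A : Set V4} (hg : ∀ x ∈ A, ∃ y, g * f x * g⁻¹ = f y) :
    ∃ M, W l M ∧ ∀ x ∈ A, g * f x * g⁻¹ = f (mv M x) := by
  obtain ⟨n, hn, e⟩ := h.fus hg
  obtain ⟨x, M, hM, rfl⟩ := h.dec n hn
  exact ⟨M, hM, fun y hy => by rw [← e y hy, h.fs_cj hM]⟩
theorem fus_dt {g : G} {x y : V4} (e : g * f x * g⁻¹ = f y) : dt x x = dt y y := by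
  obtain ⟨M, hM, k⟩ := h.fusW (g := g) (A := {x}) (by rintro _ rfl; exact ⟨y, e⟩)
  rw [h.finj (e.symm.trans (k x rfl)), hM.1.dt]

theorem t2 : s mT * s mT = 1 := h.ssq W_mT (by decide)
theorem t1 : s mT ≠ 1 := fun e => absurd (h.sinj W_mT W.one (e.trans h.s1.symm)) (by decide)
theorem ti : (s mT)⁻¹ = s mT := inv_eq_of_mul_eq_one_right h.t2
theorem ty : s mT * f v1 = f v1 * s mT := h.sfc W_mT (by decide)
theorem j2 : jj f i * jj f i = s mT := by rw [jj, conj_mul, h.i2, ← h.ty]; group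
theorem iB : i ∈ Bq f i := subset_closure (.inl rfl)
theorem jB : jj f i ∈ Bq f i := subset_closure (.inr rfl)
theorem tB : s mT ∈ Bq f i := h.i2 ▸ mul_mem h.iB h.iB
theorem it : i * s mT = s mT * i := by rw [← h.i2, mul_assoc]
theorem jt : jj f i * s mT = s mT * jj f i := by rw [← h.j2, mul_assoc]
theorem iinv : i⁻¹ = i * s mT := inv_eq_of_mul_eq_one_right (by rw [← mul_assoc, h.i2, h.t2])
theorem jinv : (jj f i)⁻¹ = jj f i * s mT :=
  inv_eq_of_mul_eq_one_right (by rw [← mul_assoc, h.j2, h.t2])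
theorem ji : jj f i * i = i * (jj f i * s mT) := by
  have := h.ij
  rw [mul_inv_eq_iff_eq_mul, h.jinv] at this
  rw [← mul_assoc, this, mul_assoc, mul_assoc, h.it, ← mul_assoc (s mT), h.t2, one_mul]

theorem Bc {g b : G} (h1 : i * g = g * i) (h2 : jj f i * g = g * jj f i) (hb : b ∈ Bq f i) :
    b * g = g * b := mem_centralizer_singleton_iff.1 ((closure_le (centralizer {g})).2 (by
  rintro _ (rfl | rfl) <;> exact mem_centralizer_singleton_iff.2 ‹_›) hb)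

theorem B8 {b : G} (hb : b ∈ Bq f i) : (b = 1 ∨ b = s mT) ∨ (b = i ∨ b = i * s mT) ∨
    (b = jj f i ∨ b = jj f i * s mT) ∨ b = i * jj f i ∨ b = i * (jj f i * s mT) := by
  have a : ∀ {p q r : G}, p * q = r → ∀ x, p * (q * x) = r * x := fun e x => by rw [← mul_assoc, e]
  have := h.iinv
  have := h.jinv
  induction hb using closure_induction_left with
  | one => simp
  | mul_left x hx y _ ih =>
    rcases hx with rfl | rfl <;> rcases ih with (e | e) | (e | e) | (e | e) | e | e <;>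
      simp only [e, mul_one, one_mul, mul_assoc, h.i2, h.j2, h.t2, h.ji, ← h.it, ← h.jt, a h.i2,
        a h.j2, a h.t2, a h.ji, a h.it.symm, a h.jt.symm, true_or, or_true]
  | inv_mul_cancel x hx y _ ih =>
    rcases hx with rfl | rfl <;> rcases ih with (e | e) | (e | e) | (e | e) | e | e <;>
      simp only [e, h.iinv, h.jinv, mul_one, one_mul, mul_assoc, h.i2, h.j2, h.t2, h.ji, ← h.it,
        ← h.jt, a h.i2, a h.j2, a h.t2, a h.ji, a h.it.symm, a h.jt.symm, true_or, or_true]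

theorem mem_B {b : G} : b ∈ Bq f i ↔ ∃ m n : ℕ, b = i ^ m * jj f i ^ n := by
  refine ⟨fun hb => ?_, fun ⟨m, n, e⟩ => e ▸ mul_mem (pow_mem h.iB m) (pow_mem h.jB n)⟩
  rcases h.B8 hb with (e | e) | (e | e) | (e | e) | e | e
  exacts [⟨0, 0, by simp [e]⟩, ⟨2, 0, by simp [e, sq, h.i2]⟩, ⟨1, 0, by simp [e]⟩,
    ⟨3, 0, by simp [e, pow_three, h.i2]⟩, ⟨0, 1, by simp [e]⟩, ⟨0, 3, by simp [e, pow_three, h.j2]⟩,
    ⟨1, 1, by simp [e]⟩, ⟨1, 3, by simp [e, pow_three, h.j2]⟩]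
theorem Bt {b : G} (hb : b ∈ Bq f i) : b * s mT = s mT * b := h.Bc h.it h.jt hb
theorem Bsq {b : G} (hb : b ∈ Bq f i) : b * b = s mT ∨ b = 1 ∨ b = s mT := by
  have a : ∀ {p q r : G}, p * q = r → ∀ x, p * (q * x) = r * x := fun e x => by rw [← mul_assoc, e]
  rcases h.B8 hb with e | (e | e) | (e | e) | e | e
  · exact .inr e
  all_goals simp only [e, mul_one, one_mul, mul_assoc, h.i2, h.j2, h.t2, h.ji, ← h.it, ← h.jt,
    a h.i2, a h.j2, a h.t2, a h.ji, a h.it.symm, a h.jt.symm, true_or]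
theorem B4 {b : G} (hb : b ∈ Bq f i) : b ^ 4 = 1 := by
  rw [show 4 = 2 * 2 from rfl, pow_mul, sq, sq]
  rcases h.Bsq hb with e | e | e <;> simp [e, h.t2]
theorem jc {x : V4} (e : i * f x = f x * i) : jj f i * f x = f x * jj f i :=
  ((show Commute (f v1) (f x) from h.fcomm _ _).mul_left e).mul_left
    (show Commute (f v1) (f x) from h.fcomm _ _).inv_left
theorem Bz {b : G} (hb : b ∈ Bq f i) : b * f vz = f vz * b := h.Bc h.iz (h.jc h.iz) hb
theorem Be {b : G} (hb : b ∈ Bq f i) : b * f e4 = f e4 * b := h.Bc h.ie (h.jc h.ie) hb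
theorem Bπ {b : G} (hb : b ∈ Bq f i) (c d : ZMod 3) :
    b * f (c • vz + d • e4) = f (c • vz + d • e4) * b := by
  rw [h.add, h.fsmul, h.fsmul]
  exact ((show Commute b _ from h.Bz hb).pow_right _).mul_right
    ((show Commute b _ from h.Be hb).pow_right _)
theorem Bw {b : G} (hb : b ∈ Bq f i) : b * s mO = s mO * b := h.Bc h.iw (by
  have e : s mO * f v1 * (s mO)⁻¹ = f ((-1 : ZMod 3) • vz + (1 : ZMod 3) • e4) * f v1 := by
    rw [h.aO, ← h.add]; congr 1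
  rw [eq_comm, ← mul_inv_eq_iff_eq_mul]
  calc _ = (s mO * f v1 * (s mO)⁻¹) * (s mO * i * (s mO)⁻¹) * (s mO * f v1 * (s mO)⁻¹)⁻¹ := by
        rw [jj]; group
    _ = _ := by
      rw [e, ← h.iw, mul_inv_cancel_right, mul_inv_rev, ← mul_assoc, mul_inv_eq_iff_eq_mul,
        h.Bπ h.jB, jj]; group) hb
theorem ijn : i * jj f i ≠ jj f i * i := fun e => h.t1 (by simpa [h.ji] using e.symm)
theorem Bcen {b : G} (hb : b ∈ Bq f i) (e : ∀ c ∈ Bq f i, b * c = c * b) : b = 1 ∨ b = s mT := by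
  have ci : Commute b i := e i h.iB
  have cj : Commute b (jj f i) := e _ h.jB
  have ti : Commute (s mT) i := h.it.symm
  have tj : Commute (s mT) (jj f i) := h.jt.symm
  rcases h.B8 hb with e | (rfl | rfl) | (rfl | rfl) | rfl | rfl
  · exact e
  all_goals refine (h.ijn ?_).elim
  · exact cj
  · simpa [h.t2, mul_assoc] using (cj.mul_left tj).eq
  · exact ci.symm
  · simpa [h.t2, mul_assoc] using (ci.mul_left ti).eq.symm
  · simpa [mul_assoc] using ci.eq.symm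
  · simpa [h.t2, mul_assoc] using (ci.mul_left ti).eq.symm
theorem Bcom {b c : G} (hb : b ∈ Bq f i) (hc : c ∈ Bq f i) :
    b * c = c * b ∨ b * c = c * b * s mT := by
  have a : ∀ {p q r : G}, p * q = r → ∀ x, p * (q * x) = r * x := fun e x => by rw [← mul_assoc, e]
  rcases h.B8 hb with (e | e) | (e | e) | (e | e) | e | e <;>
    rcases h.B8 hc with (k | k) | (k | k) | (k | k) | k | k <;>
    simp only [e, k, mul_one, one_mul, mul_assoc, h.i2, h.j2, h.t2, h.ji, ← h.it, ← h.jt,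
      a h.i2, a h.j2, a h.t2, a h.ji, a h.it.symm, a h.jt.symm, true_or, or_true]

theorem Br {b : G} (hb : b ∈ Bq f i) : (b = 1 ∨ b = s mT) ∨ ∃ x,
    b * f vr * b⁻¹ = f x * s mB ∨ b * f vr * b⁻¹ = (f x * s mB)⁻¹ := by
  have y : ∀ {b x}, b * f vr * b⁻¹ = f x * s mB →
      ∃ x, f v1 * b * (f v1)⁻¹ * f vr * (f v1 * b * (f v1)⁻¹)⁻¹ = f x * s mB := fun {b x} e => ⟨_, by
    calc _ = f v1 * (b * ((f v1)⁻¹ * (f vr * f v1)) * b⁻¹) * (f v1)⁻¹ := by group
      _ = f v1 * f x * (s mB * f (-v1)) := by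
        rw [h.fcomm vr, inv_mul_cancel_left, e, h.fneg]; group
      _ = f (v1 + x + mv mB (-v1)) * s mB := by rw [h.sf W_mB, h.add, h.add]; group⟩
  have t : ∀ {b x}, b * f vr * b⁻¹ = f x * s mB →
      b * s mT * f vr * (b * s mT)⁻¹ = (f x * s mB)⁻¹ := fun {b x} e => by
    calc _ = b * (s mT * f vr * (s mT)⁻¹) * b⁻¹ := by group
      _ = _ := by rw [h.act _ W_mT, show mv mT vr = -vr by decide, h.fneg, ← e]; group
  have e1 : i * f vr * i⁻¹ = f 0 * s mB := by rw [h.f0, one_mul, h.ir]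
  obtain ⟨x2, e2⟩ := y e1
  rw [← jj] at e2
  obtain ⟨x3, e3⟩ := y e2
  rw [h.yj] at e3
  rcases h.B8 hb with e | (rfl | rfl) | (rfl | rfl) | rfl | rfl
  exacts [.inl e, .inr ⟨_, .inl e1⟩, .inr ⟨_, .inr (t e1)⟩, .inr ⟨_, .inl e2⟩, .inr ⟨_, .inr (t e2)⟩,
    .inr ⟨_, .inl e3⟩, .inr ⟨_, .inr (mul_assoc i _ _ ▸ t e3)⟩]
/-- an element of `B` moving a vector inside `J` -/
theorem BJ {b : G} (hb : b ∈ Bq f i) {x y : V4} (e : b * f x * b⁻¹ = f y) :
    (b = 1 ∨ b = s mT) ∨ mv mB x = x := by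
  have c : Commute (b⁻¹ * f vr * b⁻¹⁻¹) (f x) := by
    calc _ = b⁻¹ * (f vr * (b * f x * b⁻¹)) * b := by group
      _ = _ := by rw [e, h.fcomm, ← e]; group
  rcases h.Br (inv_mem hb) with (k | k) | ⟨u, k | k⟩
  · exact .inl (.inl (inv_eq_one.1 k))
  · exact .inl (.inr (by rw [← h.ti, ← k, inv_inv]))
  · exact .inr ((h.com_f W_mB).1 (k ▸ c))
  · exact .inr ((h.com_f W_mB).1 (Commute.inv_left_iff.1 (k ▸ c)))
theorem BN {b : G} (hb : b ∈ Bq f i) (e : b ∈ NJ f) : b = 1 ∨ b = s mT := by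
  obtain ⟨y, e⟩ := h.mem_NJ.1 e vr
  exact (h.BJ hb e).resolve_right (by decide)
/-- the action of `J₀` on `B` is a power of the action of `f v1` -/
theorem xB {x : V4} (hx : mv mT x = x) {b : G} (hb : b ∈ Bq f i) :
    f x * b * (f x)⁻¹ = f v1 ^ (-dt x vz).val * b * (f v1 ^ (-dt x vz).val)⁻¹ := by
  obtain ⟨c, d, e⟩ := (by decide +kernel : ∀ x : V4, mv mT x = x → ∃ c d : ZMod 3,
    x = (-dt x vz) • v1 + (c • vz + d • e4)) x hx
  rw [← h.fsmul]
  generalize -dt x vz = m at e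
  rw [e, h.add]
  calc _ = f (m • v1) * (f (c • vz + d • e4) * b) * (f (c • vz + d • e4))⁻¹ * (f (m • v1))⁻¹ := by
        group
    _ = _ := by rw [← h.Bπ hb]; group
theorem yB {b : G} (hb : b ∈ Bq f i) : f v1 * b * (f v1)⁻¹ ∈ Bq f i := by
  obtain ⟨m, n, rfl⟩ := h.mem_B.1 hb
  rw [← conj_mul, ← conj_pow, ← conj_pow, h.yj]
  exact mul_mem (pow_mem h.jB m) (pow_mem (mul_mem h.iB h.jB) n)
theorem xBm {x : V4} (hx : mv mT x = x) {b : G} (hb : b ∈ Bq f i) : f x * b * (f x)⁻¹ ∈ Bq f i :=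
  h.xB hx hb ▸ conj_mem (pow_mem (mem_norm fun _ => h.yB) _) hb
theorem yk : f v1 * (i * jj f i) * (f v1)⁻¹ = i := by
  rw [← h.yj, jj]
  calc _ = f v1 ^ 3 * i * (f v1 ^ 3)⁻¹ := by simp only [pow_three]; group
    _ = _ := by rw [h.f3]; group
theorem yfp {b : G} (hb : b ∈ Bq f i) (e : f v1 * b * (f v1)⁻¹ * b⁻¹ ∈ zpowers (s mT)) :
    b = 1 ∨ b = s mT := by
  have n : ∀ {b}, b ∈ Bq f i → f v1 * b * (f v1)⁻¹ * b⁻¹ ∈ zpowers (s mT) →
      f v1 * b * (f v1)⁻¹ * b = b * (f v1 * b * (f v1)⁻¹) := fun {b} hb e => by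
    rcases (H95.mem_zpowers_iff_of_sq h.t2).1 e with e | e <;> rw [mul_inv_eq_iff_eq_mul] at e <;>
      rw [e]
    · simp
    · rw [← h.Bt hb, mul_assoc, ← h.Bt hb]
  have t : ∀ {b}, f v1 * (b * s mT) * (f v1)⁻¹ * (b * s mT)⁻¹ = f v1 * b * (f v1)⁻¹ * b⁻¹ :=
    fun {b} => by
      calc _ = f v1 * b * (f v1)⁻¹ * (f v1 * s mT) * (f v1)⁻¹ * (s mT)⁻¹ * b⁻¹ := by group
        _ = _ := by rw [← h.ty, mul_assoc (f v1 * b * (f v1)⁻¹), mul_inv_cancel_right]; group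
  have k1 : f v1 * i * (f v1)⁻¹ * i⁻¹ ∉ zpowers (s mT) := fun e => h.ijn (n h.iB e).symm
  have k2 : f v1 * jj f i * (f v1)⁻¹ * (jj f i)⁻¹ ∉ zpowers (s mT) := fun e => h.ijn (by
    simpa [h.yj, ← mul_assoc] using n h.jB e)
  have k3 : f v1 * (i * jj f i) * (f v1)⁻¹ * (i * jj f i)⁻¹ ∉ zpowers (s mT) := fun e => h.ijn (by
    simpa [h.yk, mul_assoc] using n (mul_mem h.iB h.jB) e)
  rcases h.B8 hb with e | (rfl | rfl) | (rfl | rfl) | rfl | rfl
  exacts [e, (k1 e).elim, (k1 (t ▸ e)).elim, (k2 e).elim, (k2 (t ▸ e)).elim, (k3 e).elim,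
    (k3 (by rwa [← mul_assoc i, t] at e)).elim]
theorem Bfp {x : V4} (hx : mv mT x = x) (h0 : dt x vz ≠ 0) {b : G} (hb : b ∈ Bq f i)
    (e : f x * b * (f x)⁻¹ * b⁻¹ ∈ zpowers (s mT)) : b = 1 ∨ b = s mT := by
  rw [h.xB hx hb] at e
  rcases zm3 (-dt x vz) with k | k | k <;> rw [k] at e
  · exact (h0 (neg_eq_zero.1 k)).elim
  · exact h.yfp hb (by simpa [ZMod.val_one] using e)
  · change pw _ _ * b * (pw _ _)⁻¹ * b⁻¹ ∈ _ at e
    rw [pw_neg_one (h.f3 _)] at e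
    refine h.yfp hb ?_
    have := inv_mem (conj_mem (R := zpowers (s mT)) (centralizer_le_normalizer _
      (centralizer_zpowers (s mT) ▸ mem_centralizer_singleton_iff.2 h.ty.symm)) e)
    simpa [mul_assoc] using this
theorem Bcm {x : V4} (hx : mv mT x = x) (h0 : dt x vz ≠ 0) {b : G} (hb : b ∈ Bq f i) :
    ∃ c ∈ Bq f i, b = c * f x * c⁻¹ * (f x)⁻¹ ∨ b = c * f x * c⁻¹ * (f x)⁻¹ * s mT := by
  have a : ∀ {p q r : G}, p * q = r → ∀ x, p * (q * x) = r * x := fun e x => by rw [← mul_assoc, e]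
  have k : ∀ v ∈ [i, jj f i, i * jj f i], ∃ c ∈ Bq f i, c * (f x * c * (f x)⁻¹)⁻¹ = v ∨
      c * (f x * c * (f x)⁻¹)⁻¹ = v * s mT := by
    have m := mul_mem h.iB h.jB
    have y1 : ∀ {c d : G}, f v1 * c * (f v1)⁻¹ = d → (f v1)⁻¹ * d * (f v1)⁻¹⁻¹ = c := fun e => by
      rw [← e]; group
    have e1 := h.xB hx h.iB
    have e2 := h.xB hx h.jB
    have e3 := h.xB hx m
    simp only [List.mem_cons, List.not_mem_nil, or_false, forall_eq_or_imp, forall_eq]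
    rcases zm3 (-dt x vz) with k | k | k <;> rw [k, ← pw] at e1 e2 e3
    · exact (h0 (neg_eq_zero.1 k)).elim
    · rw [pw_one] at e1 e2 e3
      refine ⟨⟨_, h.jB, .inr ?_⟩, ⟨_, m, .inr ?_⟩, _, h.iB, .inr ?_⟩
      · rw [e2, h.yj, ← h.iinv]; group
      · rw [e3, h.yk, h.ij, h.jinv]
      · rw [e1, ← jj, h.jinv, mul_assoc]
    · rw [pw_neg_one (h.f3 _)] at e1 e2 e3
      refine ⟨⟨_, m, .inl ?_⟩, ⟨_, h.iB, .inl ?_⟩, _, h.jB, .inl ?_⟩
      · rw [e3, y1 h.yj]; group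
      · rw [e1, y1 h.yk, mul_inv_rev, ← mul_assoc, ← conj_inv, h.ij, inv_inv]
      · rw [e2, y1 (c := i) (d := jj f i) rfl, h.iinv, ← mul_assoc, h.ji, mul_assoc, mul_assoc, h.t2,
          mul_one]
  have k2 : ∀ v ∈ [i, jj f i, i * jj f i], b = v ∨ b = v * s mT → ∃ c ∈ Bq f i,
      b = c * f x * c⁻¹ * (f x)⁻¹ ∨ b = c * f x * c⁻¹ * (f x)⁻¹ * s mT := fun v hv e => by
    obtain ⟨c, hc, e'⟩ := k v hv
    refine ⟨c, hc, ?_⟩
    rw [show c * f x * c⁻¹ * (f x)⁻¹ = c * (f x * c * (f x)⁻¹)⁻¹ by group]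
    rcases e with e | e <;> rcases e' with e' | e' <;> rw [e, e'] <;> simp [mul_assoc, h.t2]
  rcases h.B8 hb with e | e | e | e
  exacts [⟨1, one_mem _, by simpa using e⟩, k2 _ (by simp) e, k2 _ (by simp) e,
    k2 (i * jj f i) (by simp) (by simpa only [mul_assoc] using e)]

theorem cz0 {p x : V4} (hp : Good p x) (e : p = vz) {g : G} (h1 : g * f p = f p * g)
    (h2 : g * f x = f x * g) : g ∈ NJ f := by
  subst e
  obtain ⟨b, hb, n⟩ := h.nz g (by rw [h1]; simp)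
  obtain ⟨y, e⟩ := h.mem_NJ.1 (inv_mem n) x
  rcases h.BJ (inv_mem hb) (x := x) (y := y) (by
    calc _ = b⁻¹ * (g⁻¹ * (g * f x)) * b := by group
      _ = _ := by rw [← e, h2]; group) with (k | k) | k
  · simpa [inv_eq_one.1 k] using n
  · exact (mul_mem_cancel_right (inv_mem_iff.1 (k ▸ h.sN W_mT))).1 n
  · exact absurd hp ((by decide +kernel : ∀ x, mv mB x = x → ¬Good vz x) x k)

theorem cz {p x : V4} (hp : Good p x) {g : G} (h1 : g * f p = f p * g) (h2 : g * f x = f x * g) :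
    g ∈ NJ f := by
  obtain ⟨M, hM, rfl⟩ := W0_sing hp.1 hp.2.1
  have w : W l M := hM.w
  obtain ⟨x, rfl⟩ : ∃ y, x = mv M y := ⟨_, (hM.1.mv_tr x).symm⟩
  have c : ∀ {x}, g * f (mv M x) = f (mv M x) * g →
      (s M)⁻¹ * g * s M * f x = f x * ((s M)⁻¹ * g * s M) := fun {x} e => by
    rw [mul_assoc, h.sf w, ← mul_assoc, mul_assoc _ g, e, ← h.act M w]; group
  have := h.cz0 (p := vz) (x := x) ⟨by decide, by decide, fun e => hp.2.2.1 (by rw [e, mv_zero]),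
    fun e => hp.2.2.2.1 (by rw [e]), fun e => hp.2.2.2.2.1 (by rw [e, mv_neg]),
    by simpa only [hM.1.dt] using hp.2.2.2.2.2⟩ rfl (c h1) (c h2)
  rwa [mul_mem_cancel_right (h.sN w), mul_mem_cancel_left (inv_mem (h.sN w))] at this

theorem xn_cj (hX : XN f) (hM : W l M) {g : G} (h1 : g * f (mv M e3) = f (mv M e3) * g)
    (h2 : g * f (mv M e4) = f (mv M e4) * g) : g ∈ NJ f := by
  have c : ∀ {x}, g * f (mv M x) = f (mv M x) * g →
      (s M)⁻¹ * g * s M * f x = f x * ((s M)⁻¹ * g * s M) := fun {x} e => by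
    rw [mul_assoc, h.sf hM, ← mul_assoc, mul_assoc _ g, e, ← h.act M hM]; group
  have := hX _ (c h1) (c h2)
  rwa [mul_mem_cancel_right (h.sN hM), mul_mem_cancel_left (inv_mem (h.sN hM))] at this

/-- the centralizer of `J₀` -/
theorem cJ0 {g : G} (hg : ∀ x, mv mT x = x → g * f x = f x * g) :
    ∃ x, g = f x ∨ g = f x * s mT := by
  obtain ⟨x, M, hM, rfl⟩ := h.dec g (h.cz (p := vz) (x := v1) (by decide) (hg _ (by decide))
    (hg _ (by decide)))
  rcases forall_orth (P := fun M => mv M e3 = e3 → mv M e4 = e4 → mv M v1 = v1 → M = 1 ∨ M = mT)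
    (by decide +kernel) M hM.1 ((h.com_f hM).1 (hg _ (by decide)))
    ((h.com_f hM).1 (hg _ (by decide))) ((h.com_f hM).1 (hg _ (by decide))) with rfl | rfl
  exacts [⟨x, .inl (by rw [h.s1, mul_one])⟩, ⟨x, .inr rfl⟩]

end St

end H12.O83
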