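import Cfsg.Agent.Lib.U63.G9

/-! The symmetric group of degree six as a section (package E2). -/

set_option autoImplicit false

namespace H12.O83

open Subgroup H87.U6

namespace E2'

open Equiv Equiv.Perm H58 H58.Cd H87.Mc H87.U6.G9s H53.Odd

/-- generators of the largest normal 2-subgroups of the centralisers of the reflections -/
def LF : List (P6 × P6 × P6) := [
  (swap 0 1, swap 2 3 * swap 4 5, swap 2 4 * swap 3 5), (swap 0 2, swap 1 3 * swap 4 5, swap 1 4 * swap 3 5),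
  (swap 1 2, swap 0 3 * swap 4 5, swap 0 4 * swap 3 5), (swap 3 4, swap 0 1 * swap 2 5, swap 0 2 * swap 1 5),
  (swap 3 5, swap 0 1 * swap 2 4, swap 0 2 * swap 1 4), (swap 4 5, swap 0 1 * swap 2 3, swap 0 2 * swap 1 3),
  (tt 0 3 1 4 2 5, swap 0 3, swap 1 4), (tt 0 3 1 5 2 4, swap 0 3, swap 1 5),
  (tt 0 4 1 3 2 5, swap 0 4, swap 1 3), (tt 0 4 1 5 2 3, swap 0 4, swap 1 5),
  (tt 0 5 1 3 2 4, swap 0 5, swap 1 3), (tt 0 5 1 4 2 3, swap 0 5, swap 1 4)]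

/-- the eight products -/
def el (t : P6 × P6 × P6) : List P6 :=
  [1, t.1, t.2.1, t.1 * t.2.1, t.2.2, t.1 * t.2.2, t.2.1 * t.2.2, t.1 * t.2.1 * t.2.2]

/-- the codes -/
def LC : List (ℕ × List ℕ) := [
  (5517825, [5517840, 5517825, 4530960, 4530945, 3298320, 3298305, 2311440, 2311425]),
  (5517330, [5517840, 5517330, 4526640, 4526130, 3232320, 3231810, 1262160, 1261650]),
  (5517600, [5517840, 5517600, 4522515, 4522275, 3166740, 3166500, 213525, 213285]),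
  (5456400, [5517840, 5456400, 2372865, 2311425, 1323090, 1261650, 274725, 213285]),
  (3428880, [5517840, 3428880, 5387265, 3298305, 5320770, 3231810, 5255460, 3166500]),
  (4534800, [5517840, 4534800, 5513985, 4530945, 5509170, 4526130, 5505315, 4522275]),
  (2164035, [5517840, 2164035, 5505555, 2176320, 5321280, 2360595, 5308995, 2372880]),
  (1180755, [5517840, 1180755, 5505555, 1193040, 1323600, 5374995, 1311315, 5387280]),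
  (2102580, [5517840, 2102580, 5255700, 2364720, 5509680, 2110740, 5247540, 2372880]),
  (1057620, [5517840, 1057620, 5255700, 1319760, 1323600, 5251860, 1061460, 5514000]),
  (136245, [5517840, 136245, 274965, 5379120, 5509680, 144405, 266805, 5387280]),
  (74565, [5517840, 74565, 274965, 5317440, 5321280, 271125, 78405, 5514000])]

theorem f0 : code (1 : P6) = 5517840 := by decide +kernel

theorem f1a : LA.map code = LC.map Prod.fst := by decide +kernel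

theorem f1b : (LF.map fun t => (el t).map code) = LC.map Prod.snd := by decide +kernel

theorem f1 (q : P6) (hq : q ∈ LA) : ∃ T ∈ LC, T.1 = code q ∧ ∃ t ∈ LF, (el t).map code = T.2 := by
  obtain ⟨T, hT, e⟩ := List.mem_map.1 (f1a ▸ List.mem_map_of_mem (f := code) hq)
  exact ⟨T, hT, e, List.mem_map.1 (f1b ▸ List.mem_map_of_mem (f := Prod.snd) hT)⟩

set_option synthInstance.maxSize 4000 in
theorem f2 : ∀ T ∈ LC, T.2.Nodup ∧ T.2.length = 8 ∧ T.1 ∈ T.2 ∧ 5517840 ∈ T.2 ∧ (∀ a ∈ T.2,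
    (cm 6 a a = 5517840 ∧ cm 6 a T.1 = cm 6 T.1 a) ∧ ∀ b ∈ T.2, cm 6 a b ∈ T.2) ∧
    ∀ q ∈ LC.map Prod.fst, ∃ a ∈ T.2, supp 6 q = supp 6 a := by
  decide +kernel

/-- membership in the normaliser, on codes -/
def nr (c : ℕ) : Prop := ∀ d ∈ [5517345, 3490320], ∀ e ∈ [5517345, 3490320],
  cm 6 (cm 6 (cm 6 c d) (ci 6 c)) e = cm 6 e (cm 6 (cm 6 c d) (ci 6 c))

instance (c : ℕ) : Decidable (nr c) := List.decidableBAll _ _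

theorem mem_of_nr {g : P6} (h : nr (code g)) : g ∈ normalizer (P9 : Set P6) := by
  simp only [memN, memP, Cd.eq_iff (n := 6), code_mul, code_inv, (by decide +kernel : code c1 = 5517345),
    (by decide +kernel : code c2 = 3490320)]
  simpa only [nr, List.forall_mem_cons, List.not_mem_nil, false_imp_iff, implies_true, and_true] using h

set_option synthInstance.maxSize 4000 in
theorem f3 (g : P6) : ∀ T ∈ LC, cm 6 (code g) T.1 = cm 6 T.1 (code g) →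
    (∀ a ∈ T.2, cm 6 (cm 6 (code g) a) (ci 6 (code g)) ∈ T.2) ∧ ∃ a ∈ T.2, nr (cm 6 a (code g)) := by
  refine fp 6 (code g) ⟨g, rfl⟩ ?_
  decide +kernel

set_option synthInstance.maxSize 4000 in
theorem f4 : ∀ k l : ZMod 3, ¬ (k = 0 ∧ l = 0) → ∀ y ∈ [code (p6 k l)], ∀ T ∈ LC,
    cm 6 (cm 6 (cm 6 T.1 y) (ci 6 T.1)) (ci 6 y) = 5517840 → ∀ a ∈ T.2,
    (cm 6 (cm 6 (cm 6 y a) (ci 6 y)) (ci 6 a) = 5517840 ∨
      cm 6 (cm 6 (cm 6 (cm 6 y a) (ci 6 y)) (ci 6 a)) T.1 = 5517840) → a = 5517840 ∨ cm 6 a T.1 = 5517840 := by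
  decide +kernel

theorem refl' {w y a : P6} (hw : w ∈ P9) (hy : y ∈ P9) (w1 : w ≠ 1) (y1 : y ≠ 1) (a2 : a * a = 1)
    (aw : a * w * a⁻¹ * w = 1) (ay : a * y * a⁻¹ * y⁻¹ = 1) : a ∈ LA := by
  obtain ⟨i, j, rfl⟩ := memP'.1 hw
  obtain ⟨k, l, rfl⟩ := memP'.1 hy
  obtain ⟨a, ha, rfl⟩ := refl_mem a a2 i j (by rintro ⟨rfl, rfl⟩; exact w1 p6_zero) aw k l
    (by rintro ⟨rfl, rfl⟩; exact y1 p6_zero) ay
  exact ha

theorem six {y σ τ : P6} (hy : y ∈ P9) (y1 : y ≠ 1) (hσ : σ ∈ LA) (hτ : τ ∈ LA) (τ2 : τ * τ = 1)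
    (σy : σ * y * σ⁻¹ * y⁻¹ = 1) : ∃ F : Subgroup P6, σ ∈ F ∧ Nat.card F = 8 ∧
      (∀ φ ∈ F, φ * φ = 1 ∧ φ * σ = σ * φ) ∧
      (∀ g, g * σ = σ * g → (∀ φ ∈ F, g * φ * g⁻¹ ∈ F) ∧ ∃ φ ∈ F, φ * g ∈ normalizer (P9 : Set P6)) ∧
      (∀ φ ∈ F, (y * φ * y⁻¹ * φ⁻¹ = 1 ∨ y * φ * y⁻¹ * φ⁻¹ * σ = 1) → φ = 1 ∨ φ * σ = 1) ∧
      ∃ φ ∈ F, ∃ k, k * τ * k⁻¹ * φ = 1 := by
  obtain ⟨T, hT, e1, t, -, e2⟩ := f1 σ hσ
  obtain ⟨i, j, rfl⟩ := memP'.1 hy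
  obtain ⟨a1, a2, a3, a4, a5, a6⟩ := f2 T hT
  have b1 : ∀ a : P6, code a ∈ T.2 → a * a = 1 ∧ a * σ = σ * a := fun a ha => by
    simpa only [Cd.eq_iff (n := 6), code_mul, f0, ← e1] using (a5 _ ha).1
  have b2 : ∀ c ∈ T.2, ∃ a : P6, code a = c := fun c hc => by
    obtain ⟨a, -, e⟩ := List.mem_map.1 (e2 ▸ hc)
    exact ⟨a, e⟩
  let F : Subgroup P6 :=
    { carrier := {a | code a ∈ T.2}
      mul_mem' := fun {a b} ha hb => (code_mul a b ▸ (a5 _ ha).2 _ hb : code (a * b) ∈ T.2)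
      one_mem' := (f0 ▸ a4 : code (1 : P6) ∈ T.2)
      inv_mem' := fun {a} ha => by rwa [inv_eq_of_mul_eq_one_right (b1 a ha).1] }
  refine ⟨F, (e1 ▸ a3 : code σ ∈ T.2), ?_, b1, fun g e => ?_, fun a ha => ?_, ?_⟩
  · change Nat.card {a : P6 | code a ∈ T.2} = 8
    rw [Nat.card_coe_set_eq, ← Set.ncard_image_of_injective _ fun _ _ => code_inj.1, ← a2,
      ← List.toFinset_card_of_nodup a1, ← Set.ncard_coe_finset, List.coe_toFinset]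
    congr 1
    ext c
    refine ⟨by rintro ⟨a, ha, rfl⟩; exact ha, fun hc => ?_⟩
    obtain ⟨a, rfl⟩ := b2 c hc
    exact ⟨a, hc, rfl⟩
  · obtain ⟨d1, c, hc, d2⟩ := f3 g T hT (by rw [e1, ← code_mul, ← code_mul, e])
    obtain ⟨a, rfl⟩ := b2 c hc
    refine ⟨fun a ha => ?_, a, hc, mem_of_nr (code_mul a g ▸ d2)⟩
    have := d1 _ ha
    rwa [← code_inv, ← code_mul, ← code_mul] at this
  · simpa only [Cd.eq_iff (n := 6), code_mul, code_inv, f0, ← e1] using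
      f4 i j (by rintro ⟨rfl, rfl⟩; exact y1 p6_zero) _ List.mem_cons_self T hT
        (by simpa only [Cd.eq_iff (n := 6), code_mul, code_inv, f0, ← e1] using σy) _ ha
  · obtain ⟨c, hc, e⟩ := a6 _ (f1a ▸ List.mem_map_of_mem hτ)
    obtain ⟨a, rfl⟩ := b2 c hc
    obtain ⟨k, hk⟩ := isConj_iff.1 (H58.S8.isConj_of_invol τ2 (b1 a hc).1 (by rwa [card_support, card_support]))
    exact ⟨a, hc, k, by rw [hk, (b1 a hc).1]⟩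

theorem eight1 {Γ : Type*} [Group Γ] [Finite Γ] (P : Sylow 3 Γ) {w y σ ρ : Γ} (hA : AH (f9 w y))
    (inj : ∀ u, f9 w y u = 1 → u = 0) (hT : ∀ g, g ∈ (P : Subgroup Γ) ↔ ∃ u, f9 w y u = g)
    (σw : σ * w * σ⁻¹ = w⁻¹) (σy : σ * y * σ⁻¹ = y) (ρw : ρ * w * ρ⁻¹ = y) (ρy : ρ * y * ρ⁻¹ = w⁻¹)
    (hm : ∀ g ∈ normalizer ((P : Subgroup Γ) : Set Γ), ∃ u : V9, (u.1 = 0 ∨ u.2 = 0) ∧
      g * w * g⁻¹ = f9 w y u)
    (hC : ∀ g, g * w = w * g → g * y = y * g → g ∈ (P : Subgroup Γ))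
    (hv : ∀ v ∈ (P : Subgroup Γ), v ≠ 1 → ∀ g, g * v = v * g →
      g ∈ normalizer ((P : Subgroup Γ) : Set Γ)) :
    (P : Subgroup Γ).Normal ∨ ∃ e : Γ ≃* P6, (∀ g, g ∈ (P : Subgroup Γ) ↔ e g ∈ P9) ∧
      ∀ g, g ∈ normalizer ((P : Subgroup Γ) : Set Γ) ↔ e g ∈ normalizer (P9 : Set P6) := by
  have wP : w ∈ (P : Subgroup Γ) := (hT _).2 ⟨_, f9_10 w y⟩
  have yP : y ∈ (P : Subgroup Γ) := (hT _).2 ⟨_, f9_01 w y⟩
  have h9 : Nat.card (P : Subgroup Γ) = 9 := (Nat.card_congr (Equiv.ofBijective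
    (fun u : V9 => (⟨_, (hT _).2 ⟨u, rfl⟩⟩ : (P : Subgroup Γ))) ⟨fun u v e =>
      hA.inj inj (congrArg Subtype.val e), fun g => by
        obtain ⟨u, e⟩ := (hT _).1 g.2
        exact ⟨u, Subtype.ext e⟩⟩)).symm.trans (by simp)
  have hc : centralizer ((P : Subgroup Γ) : Set Γ) = P := by
    refine le_antisymm (fun g hg => hC g (hg w wP).symm (hg y yP).symm) fun g hg k hk => ?_
    obtain ⟨u, rfl⟩ := (hT g).1 hg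
    obtain ⟨v, rfl⟩ := (hT k).1 hk
    rw [← hA, ← hA, add_comm]
  obtain ⟨eN⟩ := exists_D4 P hA inj hT σw σy ρw ρy hm hc
  refine (Cfsg.Agent.S3333.result P P rfl h9 hc eN fun x hx x1 g hg =>
    hv x hx x1 g (mem_centralizer_singleton_iff.1 hg)).imp_right fun ⟨e⟩ => ?_
  obtain ⟨e, he⟩ := exists_e P h9 e
  refine ⟨e, he, fun g => ?_⟩
  rw [show (P : Subgroup Γ) = P9.comap e.toMonoidHom from Subgroup.ext he,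
    ← comap_normalizer_eq_of_surjective P9 e.surjective]
  rfl

variable {G : Type*} [Group G] [Finite G] {L U A H : Subgroup G} {w y : G}

theorem i0 {Γ : Type*} [Group Γ] {π : L →* Γ} (p : Pr L U π) {a b c : L} :
    π a * π b * (π a)⁻¹ * π c = 1 ↔ (a : G) * b * (a : G)⁻¹ * c ∈ U := by
  rw [← map_inv, ← map_mul, ← map_mul, ← map_mul, p.one]; rfl

theorem i1 {Γ : Type*} [Group Γ] {π : L →* Γ} (p : Pr L U π) {a b c : L} :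
    π a * π b * (π a)⁻¹ * (π c)⁻¹ = 1 ↔ (a : G) * b * (a : G)⁻¹ * (c : G)⁻¹ ∈ U := by
  rw [← map_inv π c, i0 p]; rfl

theorem i2 {Γ : Type*} [Group Γ] {π : L →* Γ} (p : Pr L U π) {a b : L} :
    π a * π b = 1 ↔ (a : G) * b ∈ U := by
  rw [← map_mul, p.one]; rfl

theorem ex6 (h : G9 L U A H w y) {σ ρ : G} (σL : σ ∈ L) (ρL : ρ ∈ L)
    (σw : σ * w * σ⁻¹ * w ∈ U) (σy : σ * y * σ⁻¹ * y⁻¹ ∈ U)
    (ρw : ρ * w * ρ⁻¹ * y⁻¹ ∈ U) (ρy : ρ * y * ρ⁻¹ * w ∈ U)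
    (hm : ∀ g ∈ H, g ∈ L → (∀ a ∈ A, ∃ b ∈ A, b⁻¹ * (g * a * g⁻¹) ∈ U) ∧
      ∃ u : H53.Odd.V9, (u.1 = 0 ∨ u.2 = 0) ∧ (H53.Odd.f9 w y u)⁻¹ * (g * w * g⁻¹) ∈ U)
    (hC : ∀ g ∈ L, g * w * g⁻¹ * w⁻¹ ∈ U → g * y * g⁻¹ * y⁻¹ ∈ U → ∃ a ∈ A, a⁻¹ * g ∈ U)
    (hv : ∀ v ∈ A, v ∉ U → ∀ g ∈ L, g * v * g⁻¹ * v⁻¹ ∈ U → g ∈ H) :
    L ≤ H ∨ ∃ π : L →* P6, Pr L U π ∧ (∀ u, π ⟨f9 w y u, h.le (mA h u)⟩ ∈ P9) ∧
      ∀ g : L, π g ∈ normalizer (P9 : Set P6) → (g : G) ∈ H := by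
  obtain ⟨_, p⟩ := exists_pr h.UL h.nU
  generalize QuotientGroup.mk' (U.subgroupOf L) = π at p
  obtain ⟨P, hP, hN, hT⟩ := exists_P h p
  have NH : ∀ g : L, π g ∈ normalizer (P.1 : Set (L ⧸ U.subgroupOf L)) ↔ (g : G) ∈ H := fun g =>
    ⟨fun hg => (p.mem_im' h.UH).1 (hN hg), fun hg => mem_normalizer_fintype fun a ha => by
      rw [hP] at ha ⊢
      obtain ⟨a, ha, rfl⟩ := ha
      rw [← map_inv, ← map_mul, ← map_mul]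
      exact p.mem_im.2 ((hm g hg g.2).1 a ha)⟩
  rcases eight1 P (σ := π ⟨σ, σL⟩) (ρ := π ⟨ρ, ρL⟩) (ah h) (inj' h p) hT
    (mul_eq_one_iff_eq_inv.1 ((i0 p).2 σw)) (mul_inv_eq_one.1 ((i1 p).2 σy)) (mul_inv_eq_one.1 ((i1 p).2 ρw))
    (mul_eq_one_iff_eq_inv.1 ((i0 p).2 ρy)) (fun g hg => by
      obtain ⟨g, rfl⟩ := p.sj g
      obtain ⟨u, hu, e⟩ := (hm g ((NH g).1 hg) g.2).2
      refine ⟨u, hu, ?_⟩
      rw [f9_mk h, ← map_inv, ← map_mul, ← map_mul, eq_comm, p.eq]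
      exact e) (fun g e1 e2 => by
      obtain ⟨g, rfl⟩ := p.sj g
      exact hP ▸ p.mem_im.2 (hC g g.2 (p.comm.1 e1) (p.comm.1 e2))) (fun v hv' v1 g e => by
      obtain ⟨g, rfl⟩ := p.sj g
      rw [hP] at hv'
      obtain ⟨v, hv', rfl⟩ := hv'
      exact (NH g).2 (hv v hv' (mt (p.one v).2 v1) g g.2 (p.comm.1 e))) with n | ⟨e, h1, h2⟩
  · exact Or.inl fun g hg => (NH ⟨g, hg⟩).1 (by rw [normalizer_eq_top]; trivial)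
  exact Or.inr ⟨e.toMonoidHom.comp π, ⟨h.UL, e.surjective.comp p.sj, fun g => e.map_eq_one_iff.trans (p.one g)⟩,
    fun u => (h1 _).1 ((hT _).2 ⟨u, f9_mk h u⟩), fun g hg => (NH g).1 ((h2 _).2 hg)⟩

end E2'

open E2' H87.U6.G9s H87.Mc H53.Odd

theorem eight2 {G : Type*} [Group G] [Finite G] {L U A H : Subgroup G} {w y : G}
    (h : G9 L U A H w y) {σ ρ : G} (σL : σ ∈ L) (ρL : ρ ∈ L) (σ2 : σ * σ ∈ U)
    (σρ : σ * ρ * (σ * ρ) ∈ U) (σw : σ * w * σ⁻¹ * w ∈ U) (σy : σ * y * σ⁻¹ * y⁻¹ ∈ U)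
    (ρw : ρ * w * ρ⁻¹ * y⁻¹ ∈ U) (ρy : ρ * y * ρ⁻¹ * w ∈ U)
    (hm : ∀ g ∈ H, g ∈ L → (∀ a ∈ A, ∃ b ∈ A, b⁻¹ * (g * a * g⁻¹) ∈ U) ∧
      ∃ u : H53.Odd.V9, (u.1 = 0 ∨ u.2 = 0) ∧ (H53.Odd.f9 w y u)⁻¹ * (g * w * g⁻¹) ∈ U)
    (hC : ∀ g ∈ L, g * w * g⁻¹ * w⁻¹ ∈ U → g * y * g⁻¹ * y⁻¹ ∈ U → ∃ a ∈ A, a⁻¹ * g ∈ U)
    (hv : ∀ v ∈ A, v ∉ U → ∀ g ∈ L, g * v * g⁻¹ * v⁻¹ ∈ U → g ∈ H) :
    L ≤ H ∨ (Nat.card L = 720 * Nat.card U ∧ ∃ F ≤ L, U ≤ F ∧ σ ∈ F ∧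
      Nat.card F = 8 * Nat.card U ∧ (∀ φ ∈ F, φ * φ ∈ U ∧ φ * σ * φ⁻¹ * σ⁻¹ ∈ U) ∧
      (∀ g ∈ L, g * σ * g⁻¹ * σ⁻¹ ∈ U → (∀ φ ∈ F, g * φ * g⁻¹ ∈ F) ∧ ∃ φ ∈ F, φ * g ∈ H) ∧
      (∀ φ ∈ F, (y * φ * y⁻¹ * φ⁻¹ ∈ U ∨ y * φ * y⁻¹ * φ⁻¹ * σ ∈ U) → φ ∈ U ∨ φ * σ ∈ U) ∧
      ∃ φ ∈ F, ∃ k ∈ L, k * (σ * ρ) * k⁻¹ * φ ∈ U) := by
  refine (ex6 h σL ρL σw σy ρw ρy hm hC hv).imp_right fun ⟨π, p, hP, hN⟩ => ?_
  have cd : ∀ X : Subgroup P6, Nat.card ((X.comap π).map L.subtype) = Nat.card X * Nat.card U := fun X => by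
    rw [card_map_of_injective (subtype_injective _), H1.card_comap_of_surjective p.sj,
      show π.ker = U.subgroupOf L from Subgroup.ext p.one, H1.card_subgroupOf_of_le h.UL]
  have hA := ah h (π := π)
  have n1 := inj' h p
  simp only [← f9_mk h] at hP
  have a1 := (i0 p (a := ⟨σ, σL⟩) (b := ⟨w, h.le h.hw⟩) (c := ⟨w, h.le h.hw⟩)).2 σw
  have a2 := (i1 p (a := ⟨σ, σL⟩) (b := ⟨y, h.le h.hy⟩) (c := ⟨y, h.le h.hy⟩)).2 σy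
  have a3 := mul_inv_eq_one.1 ((i1 p (a := ⟨ρ, ρL⟩) (b := ⟨w, h.le h.hw⟩) (c := ⟨y, h.le h.hy⟩)).2 ρw)
  have a4 := mul_eq_one_iff_eq_inv.1 ((i0 p (a := ⟨ρ, ρL⟩) (b := ⟨y, h.le h.hy⟩) (c := ⟨w, h.le h.hw⟩)).2 ρy)
  have a5 := (i2 p (a := ⟨σ, σL⟩ * ⟨ρ, ρL⟩) (b := ⟨σ, σL⟩ * ⟨ρ, ρL⟩)).2 σρ
  have b1 : ∀ u, u ≠ 0 → f9 (π ⟨w, h.le h.hw⟩) (π ⟨y, h.le h.hy⟩) u ≠ 1 := fun u hu e => hu (n1 u e)
  have wP := f9_10 (π ⟨w, h.le h.hw⟩) (π ⟨y, h.le h.hy⟩) ▸ hP (1, 0)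
  have yP := f9_01 (π ⟨w, h.le h.hw⟩) (π ⟨y, h.le h.hy⟩) ▸ hP (0, 1)
  have w1 := f9_10 (π ⟨w, h.le h.hw⟩) (π ⟨y, h.le h.hy⟩) ▸ b1 (1, 0) (by decide)
  have y1 := f9_01 (π ⟨w, h.le h.hw⟩) (π ⟨y, h.le h.hy⟩) ▸ b1 (0, 1) (by decide)
  have c := conj_f9 hA (g := π (⟨σ, σL⟩ * ⟨ρ, ρL⟩)) (u := (0, 1)) (v := (1, 0))
    (by rw [f9_01, map_mul, ← mul_inv_eq_one.1 a2, ← a3]; group)
    (by
      rw [f9_10, map_mul, ← inv_inj, ← mul_eq_one_iff_eq_inv.1 a1, ← inv_inv (π ⟨w, h.le h.hw⟩), ← a4]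
      group)
  obtain ⟨F, f1, f2, f3, f4, f5, f6⟩ := six yP y1
    (refl' wP yP w1 y1 ((i2 p).2 σ2) a1 a2)
    (refl' (hP (1, -1)) (hP (1, 1)) (b1 _ (by decide)) (b1 _ (by decide)) a5
      (by rw [c, ← hA, show lin9 ((0, 1), (1, 0)) (1, -1) + (1, -1) = 0 by decide, hA.zero])
      (by rw [c, show lin9 ((0, 1), (1, 0)) (1, 1) = (1, 1) by decide, mul_inv_cancel])) a5 a2
  have m : ∀ g : L, (g : G) ∈ (F.comap π).map L.subtype ↔ π g ∈ F :=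
    fun g => mem_map_iff_mem (subtype_injective _)
  refine ⟨?_, _, map_subtype_le (F.comap π), fun u hu => (m ⟨u, h.UL hu⟩).2
    (((p.one ⟨u, h.UL hu⟩).2 hu).symm ▸ one_mem F), (m ⟨σ, σL⟩).2 f1, by rw [cd, f2], ?_, fun g hg e => ?_, ?_, ?_⟩
  · have := cd ⊤
    rwa [comap_top, ← MonoidHom.range_eq_map, range_subtype, card_top, Nat.card_perm, Nat.card_fin] at this
  · rintro _ ⟨φ, hφ, rfl⟩
    exact ⟨(i2 p).1 (f3 _ hφ).1, (p.comm (b := ⟨σ, σL⟩)).1 (f3 _ hφ).2⟩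
  · obtain ⟨e1, φ, hφ, e2⟩ := f4 _ ((p.comm (a := ⟨g, hg⟩) (b := ⟨σ, σL⟩)).2 e)
    obtain ⟨φ, rfl⟩ := p.sj φ
    refine ⟨?_, φ, (m φ).2 hφ, hN (φ * ⟨g, hg⟩) (by rwa [map_mul])⟩
    rintro _ ⟨k, hk, rfl⟩
    exact (m (⟨g, hg⟩ * k * ⟨g, hg⟩⁻¹)).2 (by simpa only [map_mul, map_inv] using e1 _ hk)
  · rintro _ ⟨φ, hφ, rfl⟩ e
    refine (f5 _ hφ (e.imp (i1 p).2 fun e => ?_)).imp (p.one φ).1 (i2 p (b := ⟨σ, σL⟩)).1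
    rw [← map_inv, ← map_inv, ← map_mul, ← map_mul, ← map_mul, i2 p]
    exact e
  · obtain ⟨φ, hφ, k, e⟩ := f6
    obtain ⟨φ, rfl⟩ := p.sj φ
    obtain ⟨k, rfl⟩ := p.sj k
    exact ⟨φ, (m φ).2 hφ, k, k.2, (i0 p).1 e⟩

theorem eqns_e2 : True := by
  have := @E2'.LF.eq_1
  have := @E2'.el.eq_1
  have := @E2'.LC.eq_1
  have := @E2'.nr.eq_1
  trivial

end H12.O83
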