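import Cfsg.Agent.Lib.O83.Bas

/-! Coordinates on the extraspecial group (package EE). -/

set_option autoImplicit false
set_option linter.unusedSectionVars false

namespace H12.O83

open Subgroup H20.L43 H69

variable {G : Type*} [Group G] [Finite G] {l : Bool} {f : V4 → G} {s : M4 → G} {i : G}

namespace H89

/-- powers of an involution -/
def tp (t : G) (c : ZMod 2) : G := if c = 0 then 1 else t

open Classical in
/-- the commutator form -/
noncomputable def χ (a b : G) : ZMod 2 := if a * b = b * a then 0 else 1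

/-- the elements commuting with `t`, and with `b` up to `t` -/
def Sb (t b : G) (tt : t * t = 1) : Subgroup G where
  carrier := {a | a * t = t * a ∧ (a * b = b * a ∨ a * b = b * a * t)}
  one_mem' := ⟨by simp, Or.inl (by simp)⟩
  mul_mem' := by
    rintro x y ⟨h1, h2⟩ ⟨h3, h4⟩
    refine ⟨by rw [mul_assoc, h3, ← mul_assoc, h1, mul_assoc], ?_⟩
    rw [mul_assoc x y b]
    rcases h2 with h2 | h2 <;> rcases h4 with h4 | h4 <;> rw [h4]
    · left; rw [← mul_assoc, h2, mul_assoc]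
    · right; rw [← mul_assoc, ← mul_assoc, h2, mul_assoc b]
    · right; rw [← mul_assoc, h2, mul_assoc, ← h3]; group
    · left; rw [← mul_assoc, ← mul_assoc, h2, mul_assoc _ t y, ← h3]
      calc b * x * (y * t) * t = b * x * y * (t * t) := by group
        _ = _ := by rw [tt]; group
  inv_mem' := by
    rintro x ⟨h1, h2⟩
    have h3 : x⁻¹ * t = t * x⁻¹ := (Commute.inv_left h1).eq
    refine ⟨h3, h2.imp (fun h => (Commute.inv_left h).eq) fun h => ?_⟩
    calc x⁻¹ * b = x⁻¹ * (b * x * t) * (t * x⁻¹) * (x * t⁻¹ * t⁻¹ * x⁻¹) := by group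
      _ = b * x⁻¹ * t := by
        rw [← h, mul_assoc x, ← mul_inv_rev, tt, ← h3]; group

/-- the generators -/
def eg (f : V4 → G) (s : M4 → G) (i : G) (d : D3) : G := s (dm d) * jj f i * (s (dm d))⁻¹
/-- the blocks -/
def Bd (f : V4 → G) (s : M4 → G) (i : G) (d : D3) : Subgroup G := Bq f i ^ᶜ s (dm d)
/-- the coordinates -/
noncomputable def ph (f : V4 → G) (s : M4 → G) (i : G) (a : G) (d : D3) : ZMod 2 :=
  χ a (eg f s i (d + oo))

theorem eqns_ee : True := by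
  have := @tp.eq_1.{0}; have := @χ.eq_1.{0}; have := @Sb.eq_1.{0}; have := @eg.eq_1.{0}
  have := @Bd.eq_1.{0}; have := @ph.eq_1.{0}
  trivial

theorem tp_add {t : G} (tt : t * t = 1) (c d : ZMod 2) : tp t (c + d) = tp t c * tp t d := by
  have : ∀ x : ZMod 2, x = 0 ∨ x = 1 := by decide
  rcases this c with rfl | rfl <;> rcases this d with rfl | rfl <;>
    simp [tp, tt, show (1 + 1 : ZMod 2) = 0 from rfl]

theorem tp_eq_one {t : G} (t1 : t ≠ 1) {c : ZMod 2} : tp t c = 1 ↔ c = 0 := by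
  unfold tp; split_ifs with h <;> simp [h, t1]

theorem tp_comm {t a : G} (h : a * t = t * a) (c : ZMod 2) : a * tp t c = tp t c * a := by
  unfold tp; split_ifs <;> simp [h]

theorem χ_zero {a b : G} : χ a b = 0 ↔ a * b = b * a := by
  unfold χ; split_ifs with h <;> simp [h]

theorem χ_one {a b : G} (h : a * b ≠ b * a) : χ a b = 1 := if_neg h

theorem χ_congr {a b a' b' : G} (h : a * b = b * a ↔ a' * b' = b' * a') : χ a b = χ a' b' := by
  by_cases e : a * b = b * a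
  · rw [χ_zero.2 e, χ_zero.2 (h.1 e)]
  · rw [χ_one e, χ_one fun e' => e (h.2 e')]

theorem χ_comm (a b : G) : χ a b = χ b a := χ_congr eq_comm

theorem χ_inv (a b : G) : χ a b⁻¹ = χ a b := χ_congr (Commute.inv_right_iff (a := a) (b := b))

theorem χ_cj (g a b : G) : χ (g * a * g⁻¹) (g * b * g⁻¹) = χ a b := χ_congr (by
  rw [conj_mul, conj_mul, mul_left_inj, mul_right_inj])

theorem χ_spec {t a b : G} (h : a * b = b * a ∨ a * b = b * a * t) :
    a * b = b * a * tp t (χ a b) := by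
  by_cases e : a * b = b * a
  · rw [χ_zero.2 e, tp, if_pos rfl, mul_one, e]
  · rw [χ_one e, tp, if_neg one_ne_zero, h.resolve_left e]

theorem χ_eq {t a b : G} (t1 : t ≠ 1) {c : ZMod 2} (h : a * b = b * a * tp t c) : χ a b = c := by
  have : ∀ x : ZMod 2, x ≠ 0 → 1 = x := by decide
  by_cases e : c = 0
  · rw [e, tp, if_pos rfl, mul_one] at h
    rw [e, χ_zero.2 h]
  · rw [χ_one fun e' => e ((tp_eq_one t1).1 (by rwa [e', left_eq_mul] at h)), this c e]

theorem dm_mT : ∀ d : D3, dm d * mT = mT * dm d := by decide +kernel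
theorem dm_z : ∀ d : D3, mv (dm (d + oo)) vz = -mv (dm d) vz := by decide +kernel
theorem dm_w : ∀ d : D3, mO * dm (d.2.2, d.1, d.2.1) = dm d * mO := by decide +kernel
theorem dm_u : ∀ d : D3, u4 * dm (d.1, d.2.2, d.2.1) = dm d * u4 := by decide +kernel
theorem dm_x : ∀ d : D3, ∀ x, mv mT x = x →
    mv mT (mv (dm d) x) = mv (dm d) x ∧ mv (dm (d + oo)) (mv (dm d) x) = -x := by decide +kernel
theorem oo_oo : ∀ d : D3, d + oo + oo = d := by decide

variable (h : St l f s i)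
include h

theorem δm (c d : D3) : s (dm (c + d)) = s (dm c) * s (dm d) := by
  rw [dm_add, h.mul _ _ (W_dm c) (W_dm d)]

theorem δt (d : D3) : s (dm d) * s mT = s mT * s (dm d) := h.scomm (W_dm d) W_mT (dm_mT d)

theorem δ0 : s (dm 0) = 1 := by rw [show dm 0 = 1 by decide +kernel, h.s1]

theorem δ_cj_t (d : D3) : s (dm d) * s mT * (s (dm d))⁻¹ = s mT := by
  rw [δt h, mul_inv_cancel_right]

theorem δ_eg (c d : D3) : s (dm c) * eg f s i d * (s (dm c))⁻¹ = eg f s i (c + d) := by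
  rw [eg, eg, δm h]; group

theorem Bd_oo (d : D3) : Bd f s i (d + oo) = Bd f s i d :=
  h.Bcj (W_dm _) (W_dm _) (dm_mT _) (dm_mT _) (Or.inr (dm_z d))

theorem eg_mem (d : D3) : eg f s i d ∈ Bd f s i d := cj_mem _ h.jB

theorem eg_mem' (d : D3) : eg f s i (d + oo) ∈ Bd f s i d := Bd_oo h d ▸ eg_mem h _

theorem eg_oo (d : D3) : eg f s i (d + oo) = s (dm d) * (i * jj f i)⁻¹ * (s (dm d))⁻¹ := by
  rw [← δ_eg h, ← h.sj, eg, dm_oo, show -mT = -1 * mT by decide +kernel, h.mul _ _ W.one.neg W_mT,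
    mul_assoc (s (-1)), ← h.Bt h.jB]
  group

theorem Bd_le (d : D3) : Bd f s i d ≤ Eg f s i := h.BE (W_dm d) (dm_mT d)

theorem eg_E (d : D3) : eg f s i d ∈ Eg f s i := Bd_le h d (eg_mem h d)

theorem Eg_eq : Eg f s i =
    Bd f s i (0, 0, 0) ⊔ Bd f s i (0, 1, 1) ⊔ Bd f s i (0, 1, 0) ⊔ Bd f s i (0, 0, 1) := by
  rw [← Bd_oo h (0, 1, 1), Bd, Bd, Bd, Bd, show ((0, 0, 0) : D3) = 0 from rfl, δ0 h, cj_one,
    show dm ((0, 1, 1) + oo) = p1 by decide +kernel, show dm (0, 1, 0) = p2 by decide +kernel,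
    show dm (0, 0, 1) = p3 by decide +kernel, Eg]

theorem Bd_t {d : D3} {a : G} (ha : a ∈ Bd f s i d) : a * s mT = s mT * a := by
  obtain ⟨b, hb, rfl⟩ := mem_cj'.1 ha
  rw [← δ_cj_t h d, conj_mul, conj_mul, h.Bt hb]

theorem Bd_sq {d : D3} {a : G} (ha : a ∈ Bd f s i d) : a * a = s mT ∨ a = 1 ∨ a = s mT := by
  obtain ⟨b, hb, rfl⟩ := mem_cj'.1 ha
  rw [← δ_cj_t h d, conj_mul]
  rcases h.Bsq hb with e | e | e <;> simp [e]

theorem Bd_com {d : D3} {a c : G} (ha : a ∈ Bd f s i d) (hc : c ∈ Bd f s i d) :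
    a * c = c * a ∨ a * c = c * a * s mT := by
  obtain ⟨b, hb, rfl⟩ := mem_cj'.1 ha
  obtain ⟨b', hb', rfl⟩ := mem_cj'.1 hc
  rw [← δ_cj_t h d, conj_mul, conj_mul, conj_mul]
  exact (h.Bcom hb hb').imp (fun e => by rw [e]) fun e => by rw [e]

theorem Bd_cen {d : D3} {a : G} (ha : a ∈ Bd f s i d) (h1 : χ a (eg f s i d) = 0)
    (h2 : χ a (eg f s i (d + oo)) = 0) : a = 1 ∨ a = s mT := by
  obtain ⟨b, hb, rfl⟩ := mem_cj'.1 ha
  rw [eg, χ_cj, χ_zero] at h1
  rw [eg_oo h, χ_cj, χ_inv, χ_zero] at h2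
  have h3 : Bq f i ≤ centralizer {b} := by
    rw [Bq, closure_le]
    rintro x (rfl | rfl)
    · exact mem_centralizer_singleton_iff.2 (mul_right_cancel (b := jj f x)
        (by rw [mul_assoc, h1, ← mul_assoc, ← h2, mul_assoc]))
    · exact mem_centralizer_singleton_iff.2 h1.symm
  rw [← δ_cj_t h d]
  rcases h.Bcen hb fun c hc => (mem_centralizer_singleton_iff.1 (h3 hc)).symm with e | e <;> simp [e]

theorem eg_ne (d : D3) : χ (eg f s i d) (eg f s i (d + oo)) = 1 := χ_one fun e => by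
  have := h.t1
  rcases Bd_cen h (eg_mem h d) (χ_zero.2 rfl) (χ_zero.2 e) with e' | e' <;>
  · have h1 : eg f s i d * eg f s i d = s mT := by rw [eg, conj_mul, h.j2, δ_cj_t h]
    rw [e'] at h1
    simp_all [h.t2]

theorem w_eg (d : D3) : s mO * eg f s i (d.2.2, d.1, d.2.1) * (s mO)⁻¹ = eg f s i d := by
  have e := congrArg s (dm_w d)
  rw [h.mul _ _ W_mO (W_dm _), h.mul _ _ (W_dm _) W_mO] at e
  calc _ = (s mO * s (dm (d.2.2, d.1, d.2.1))) * jj f i * (s mO * s (dm (d.2.2, d.1, d.2.1)))⁻¹ := by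
        rw [eg]; group
    _ = _ := by rw [e, mul_assoc (s (dm d)), ← h.Bw h.jB, eg]; group

theorem u_eg (hl : l = true) (d : D3) :
    s u4 * eg f s i (d.1, d.2.2, d.2.1) * (s u4)⁻¹ = eg f s i d := by
  have hu : W l u4 := ⟨by decide +kernel, Or.inl hl⟩
  have e := congrArg s (dm_u d)
  rw [h.mul _ _ hu (W_dm _), h.mul _ _ (W_dm _) hu] at e
  calc _ = (s u4 * s (dm (d.1, d.2.2, d.2.1))) * jj f i * (s u4 * s (dm (d.1, d.2.2, d.2.1)))⁻¹ := by
        rw [eg]; group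
    _ = _ := by rw [e, mul_assoc (s (dm d)), h.uB hl h.jB, eg]; group

variable (cB : ∀ a ∈ Bq f i, ∀ b ∈ Bq f i ^ᶜ s p1, a * b = b * a)
include cB

theorem cm0 (d : D3) (h0 : d ≠ 0) (h1 : d ≠ oo) : ∀ a ∈ Bq f i, ∀ b ∈ Bd f s i d, a * b = b * a := by
  have st : ∀ d : D3, (∀ a ∈ Bq f i, ∀ b ∈ Bd f s i (d.2.2, d.1, d.2.1), a * b = b * a) →
      ∀ a ∈ Bq f i, ∀ b ∈ Bd f s i d, a * b = b * a := fun d hd a ha b hb => by
    obtain ⟨c, hc, rfl⟩ := mem_cj'.1 hb
    have e := congrArg s (dm_w d)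
    rw [h.mul _ _ W_mO (W_dm _), h.mul _ _ (W_dm _) W_mO] at e
    have e1 := hd a ha _ (cj_mem _ hc)
    have e2 : s (dm d) * c * (s (dm d))⁻¹ =
        s mO * (s (dm (d.2.2, d.1, d.2.1)) * c * (s (dm (d.2.2, d.1, d.2.1)))⁻¹) * (s mO)⁻¹ := by
      calc _ = s (dm d) * s mO * c * (s (dm d) * s mO)⁻¹ := by
            rw [mul_assoc (s (dm d)) (s mO), ← h.Bw hc]; group
        _ = _ := by rw [← e]; group
    rw [e2, ← mul_inv_eq_of_eq_mul (h.Bw ha).symm, conj_mul, conj_mul, e1]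
  have a1 : ∀ a ∈ Bq f i, ∀ b ∈ Bd f s i (1, 0, 0), a * b = b * a := by
    rw [Bd, show dm (1, 0, 0) = p1 by decide +kernel]; exact cB
  have a3 := st (0, 0, 1) a1
  have a2 := st (0, 1, 0) a3
  have : ∀ d : D3, d ≠ 0 → d ≠ oo → d = (1, 0, 0) ∨ d = (0, 1, 0) ∨ d = (0, 0, 1) ∨
    d = (1, 0, 0) + oo ∨ d = (0, 1, 0) + oo ∨ d = (0, 0, 1) + oo := by decide
  rcases this d h0 h1 with rfl | rfl | rfl | rfl | rfl | rfl <;> (try rw [Bd_oo h]) <;> assumption

theorem cm {c d : D3} (h0 : c ≠ d) (h1 : c ≠ d + oo) {a b : G} (ha : a ∈ Bd f s i c)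
    (hb : b ∈ Bd f s i d) : a * b = b * a := by
  have : ∀ c d : D3, c ≠ d → c ≠ d + oo → c + d ≠ 0 ∧ c + d ≠ oo ∧ c + (c + d) = d := by decide
  obtain ⟨k0, k1, k2⟩ := this c d h0 h1
  obtain ⟨a', ha', rfl⟩ := mem_cj'.1 ha
  rw [← k2, Bd, δm h, ← cj_cj] at hb
  obtain ⟨b', hb', rfl⟩ := mem_cj'.1 hb
  rw [conj_mul, conj_mul, cm0 h cB _ k0 k1 a' ha' b' hb']

theorem dec {a : G} (ha : a ∈ Eg f s i) : ∃ b0 ∈ Bd f s i (0, 0, 0), ∃ b1 ∈ Bd f s i (0, 1, 1),
    ∃ b2 ∈ Bd f s i (0, 1, 0), ∃ b3 ∈ Bd f s i (0, 0, 1), a = b0 * b1 * b2 * b3 := by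
  have k : ∀ c d : D3, c ≠ d → c ≠ d + oo → Bd f s i c ≤ 𝐍(Bd f s i d) := fun c d h0 h1 =>
    le_normalizer_of_le_centralizer fun a ha b hb => (cm h cB h0 h1 ha hb).symm
  have k1 := k (0, 0, 0) (0, 1, 1) (by decide) (by decide)
  have k2 := sup_le (k (0, 0, 0) (0, 1, 0) (by decide) (by decide))
    (k (0, 1, 1) (0, 1, 0) (by decide) (by decide))
  have k3 := sup_le (sup_le (k (0, 0, 0) (0, 0, 1) (by decide) (by decide))
    (k (0, 1, 1) (0, 0, 1) (by decide) (by decide))) (k (0, 1, 0) (0, 0, 1) (by decide) (by decide))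
  rw [Eg_eq h] at ha
  obtain ⟨x, hx, b3, h3, e3⟩ := (mem_sup_of_le_normalizer_right k3).1 ha
  obtain ⟨y, hy, b2, h2, e2⟩ := (mem_sup_of_le_normalizer_right k2).1 hx
  obtain ⟨b0, h0, b1, h1, e1⟩ := (mem_sup_of_le_normalizer_right k1).1 hy
  exact ⟨b0, h0, b1, h1, b2, h2, b3, h3, by rw [e3, e2, e1]⟩

theorem E_com {a b : G} (ha : a ∈ Eg f s i) (hb : b ∈ Eg f s i) :
    a * s mT = s mT * a ∧ (a * b = b * a ∨ a * b = b * a * s mT) := by
  have k1 : ∀ c d : D3, ∀ b ∈ Bd f s i d, Bd f s i c ≤ Sb (s mT) b h.t2 := fun c d b hb a ha => by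
    refine ⟨Bd_t h ha, ?_⟩
    by_cases h0 : c = d
    · exact Bd_com h ha (h0 ▸ hb)
    by_cases h1 : c = d + oo
    · exact Bd_com h (Bd_oo h d ▸ h1 ▸ ha) hb
    · exact Or.inl (cm h cB h0 h1 ha hb)
  have k2 : ∀ b, (∀ c : D3, Bd f s i c ≤ Sb (s mT) b h.t2) → Eg f s i ≤ Sb (s mT) b h.t2 :=
    fun b k => by rw [Eg_eq h]; exact sup_le (sup_le (sup_le (k _) (k _)) (k _)) (k _)
  refine k2 b (fun c a ha => ⟨Bd_t h ha, (k2 a (fun d => k1 d c a ha) hb).2.imp Eq.symm fun e => ?_⟩) ha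
  rw [e, mul_assoc, h.t2, mul_one]

theorem E_t {a : G} (ha : a ∈ Eg f s i) : a * s mT = s mT * a := (E_com h cB ha ha).1

theorem χ_mul {a b c : G} (ha : a ∈ Eg f s i) (hb : b ∈ Eg f s i) (hc : c ∈ Eg f s i) :
    χ (a * b) c = χ a c + χ b c := χ_eq h.t1 (by
  rw [mul_assoc, χ_spec (E_com h cB hb hc).2, ← mul_assoc, ← mul_assoc,
    χ_spec (E_com h cB ha hc).2, tp_add h.t2, mul_assoc _ _ b, ← tp_comm (E_t h cB hb)]
  group)

theorem χ_mul' {a b c : G} (ha : a ∈ Eg f s i) (hb : b ∈ Eg f s i) (hc : c ∈ Eg f s i) :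
    χ c (a * b) = χ c a + χ c b := by
  rw [χ_comm, χ_mul h cB ha hb hc, χ_comm a, χ_comm b]

theorem ph_mul {a b : G} (ha : a ∈ Eg f s i) (hb : b ∈ Eg f s i) :
    ph f s i (a * b) = ph f s i a + ph f s i b := funext fun _ => χ_mul h cB ha hb (eg_E h _)

theorem ph_off {c d : D3} (h0 : c ≠ d) (h1 : c ≠ d + oo) {a : G} (ha : a ∈ Bd f s i c) :
    ph f s i a d = 0 ∧ ph f s i a (d + oo) = 0 :=
  ⟨χ_zero.2 (cm h cB h0 h1 ha (eg_mem' h d)),
    χ_zero.2 (by rw [oo_oo]; exact cm h cB h0 h1 ha (eg_mem h d))⟩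

theorem ph_eg (c d : D3) : ph f s i (eg f s i c) d = if d = c then 1 else 0 := by
  split_ifs with h0
  · rw [h0]; exact eg_ne h c
  by_cases h1 : c = d + oo
  · rw [h1]; exact χ_zero.2 rfl
  · exact (ph_off h cB (Ne.symm h0) h1 (eg_mem h c)).1

omit cB in
theorem Bd_qb {d : D3} {a : G} (ha : a ∈ Bd f s i d) : a * a = tp (s mT) (qb (ph f s i a) d) := by
  have k : ∀ x y : ZMod 2, x + y + x * y = 0 ↔ x = 0 ∧ y = 0 := by decide
  have k2 : a = 1 ∨ a = s mT → a * a = 1 ∧ qb (ph f s i a) d = 0 := by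
    rintro (rfl | rfl)
    · exact ⟨mul_one _, (k _ _).2 ⟨χ_zero.2 (by simp), χ_zero.2 (by simp)⟩⟩
    · exact ⟨h.t2, (k _ _).2 ⟨χ_zero.2 (Bd_t h (eg_mem h _)).symm,
        χ_zero.2 (Bd_t h (eg_mem h _)).symm⟩⟩
  by_cases e : qb (ph f s i a) d = 0
  · obtain ⟨e1, e2⟩ := (k _ _).1 e
    rw [ph, oo_oo] at e2
    rw [e, (k2 (Bd_cen h ha e2 e1)).1, tp, if_pos rfl]
  · rw [tp, if_neg e]
    exact (Bd_sq h ha).resolve_right fun e' => e (k2 e').2

theorem E_sq {a : G} (ha : a ∈ Eg f s i) : a * a = tp (s mT) (Qe (ph f s i a)) ∧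
    (ph f s i a = 0 → a = 1 ∨ a = s mT) := by
  obtain ⟨b0, h0, b1, h1, b2, h2, b3, h3, rfl⟩ := dec h cB ha
  have m0 := Bd_le h _ h0
  have m1 := Bd_le h _ h1
  have m2 := Bd_le h _ h2
  have m3 := Bd_le h _ h3
  have c01 : Commute b0 b1 := cm h cB (by decide) (by decide) h0 h1
  have c02 : Commute b0 b2 := cm h cB (by decide) (by decide) h0 h2
  have c03 : Commute b0 b3 := cm h cB (by decide) (by decide) h0 h3
  have c12 : Commute b1 b2 := cm h cB (by decide) (by decide) h1 h2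
  have c13 : Commute b1 b3 := cm h cB (by decide) (by decide) h1 h3
  have c23 : Commute b2 b3 := cm h cB (by decide) (by decide) h2 h3
  have z01 := ph_off h cB (d := (0, 1, 1)) (by decide) (by decide) h0
  have z02 := ph_off h cB (d := (0, 1, 0)) (by decide) (by decide) h0
  have z03 := ph_off h cB (d := (0, 0, 1)) (by decide) (by decide) h0
  have z10 := ph_off h cB (d := (0, 0, 0)) (by decide) (by decide) h1
  have z12 := ph_off h cB (d := (0, 1, 0)) (by decide) (by decide) h1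
  have z13 := ph_off h cB (d := (0, 0, 1)) (by decide) (by decide) h1
  have z20 := ph_off h cB (d := (0, 0, 0)) (by decide) (by decide) h2
  have z21 := ph_off h cB (d := (0, 1, 1)) (by decide) (by decide) h2
  have z23 := ph_off h cB (d := (0, 0, 1)) (by decide) (by decide) h2
  have z30 := ph_off h cB (d := (0, 0, 0)) (by decide) (by decide) h3
  have z31 := ph_off h cB (d := (0, 1, 1)) (by decide) (by decide) h3
  have z32 := ph_off h cB (d := (0, 1, 0)) (by decide) (by decide) h3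
  rw [ph_mul h cB (mul_mem (mul_mem m0 m1) m2) m3, ph_mul h cB (mul_mem m0 m1) m2,
    ph_mul h cB m0 m1]
  constructor
  · rw [← sq, ((c03.mul_left c13).mul_left c23).mul_pow, (c02.mul_left c12).mul_pow, c01.mul_pow,
      sq, sq, sq, sq, Bd_qb h h0, Bd_qb h h1, Bd_qb h h2, Bd_qb h h3, ← tp_add h.t2,
      ← tp_add h.t2, ← tp_add h.t2]
    congr 1
    simp only [Qe, qb, Pi.add_apply, z01, z02, z03, z10, z12, z13, z20, z21, z23, z30, z31, z32,
      add_zero, zero_add]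
    ring
  · intro e
    have e' := fun d : D3 => congrFun e (d + oo)
    have k : ∀ {d : D3} {b : G}, b ∈ Bd f s i d → ph f s i b d = 0 → ph f s i b (d + oo) = 0 →
        b ∈ zpowers (s mT) := fun hb e1 e2 => by
      rw [ph, oo_oo] at e2
      exact (H95.mem_zpowers_iff_of_sq h.t2).2 (Bd_cen h hb e2 e1)
    refine (H95.mem_zpowers_iff_of_sq h.t2).1 (mul_mem (mul_mem (mul_mem
      (k h0 ?_ ?_) (k h1 ?_ ?_)) (k h2 ?_ ?_)) (k h3 ?_ ?_))
    · simpa only [Pi.add_apply, Pi.zero_apply, add_zero, zero_add, z10, z20, z30] using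
        congrFun e (0, 0, 0)
    · simpa only [Pi.add_apply, Pi.zero_apply, add_zero, zero_add, z10, z20, z30] using
        e' (0, 0, 0)
    · simpa only [Pi.add_apply, Pi.zero_apply, add_zero, zero_add, z01, z21, z31] using
        congrFun e (0, 1, 1)
    · simpa only [Pi.add_apply, Pi.zero_apply, add_zero, zero_add, z01, z21, z31] using
        e' (0, 1, 1)
    · simpa only [Pi.add_apply, Pi.zero_apply, add_zero, zero_add, z02, z12, z32] using
        congrFun e (0, 1, 0)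
    · simpa only [Pi.add_apply, Pi.zero_apply, add_zero, zero_add, z02, z12, z32] using
        e' (0, 1, 0)
    · simpa only [Pi.add_apply, Pi.zero_apply, add_zero, zero_add, z03, z13, z23] using
        congrFun e (0, 0, 1)
    · simpa only [Pi.add_apply, Pi.zero_apply, add_zero, zero_add, z03, z13, z23] using
        e' (0, 0, 1)

theorem ph_surj (v : D3 → ZMod 2) : ∃ a ∈ Eg f s i, ph f s i a = v := by
  induction v using Pi.single_induction with
  | zero => exact ⟨1, one_mem _, funext fun _ => χ_zero.2 (by simp)⟩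
  | add v w hv hw =>
    obtain ⟨a, ha, rfl⟩ := hv
    obtain ⟨b, hb, rfl⟩ := hw
    exact ⟨_, mul_mem ha hb, ph_mul h cB ha hb⟩
  | single c x =>
    have : ∀ x : ZMod 2, x = 0 ∨ x = 1 := by decide
    rcases this x with rfl | rfl
    · exact ⟨1, one_mem _, funext fun _ => by rw [Pi.single_zero]; exact χ_zero.2 (by simp)⟩
    · exact ⟨_, eg_E h c, funext fun d => by rw [ph_eg h cB, Pi.single_apply]⟩

omit cB in
theorem i_eq (d : D3) :
    s (dm d) * i * (s (dm d))⁻¹ = (eg f s i (d + oo))⁻¹ * (eg f s i d)⁻¹ := by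
  rw [eg_oo h, eg]; group

theorem ph_J {x : V4} (hx : mv mT x = x) {a : G} (ha : a ∈ Eg f s i) :
    ph f s i (f x * a * (f x)⁻¹) = a3 x (ph f s i a) := by
  funext d
  obtain ⟨k1, k2⟩ := dm_x d x hx
  have e1 := h.act _ (W_dm (d + oo)) (mv (dm d) x)
  rw [k2, h.fneg] at e1
  have e2 : eg f s i (d + oo) = f x * (s (dm (d + oo)) * (f (mv (dm d) x) * jj f i *
      (f (mv (dm d) x))⁻¹) * (s (dm (d + oo)))⁻¹) * (f x)⁻¹ := by
    rw [← inv_inv (f x), ← e1, eg]; group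
  rw [ph, e2, χ_cj, h.xB k1 h.jB, a3]
  have : ∀ c : ZMod 3, c ≠ 0 → c ≠ -1 → (-c).val = 2 := by decide
  split_ifs with h0 h1
  · rw [h0, neg_zero, ZMod.val_zero, pow_zero, one_mul, inv_one, mul_one]; rfl
  · rw [h1, neg_neg, show (1 : ZMod 3).val = 1 from rfl, pow_one, h.yj, ← inv_inv (i * jj f i),
      ← conj_inv, ← eg_oo h, χ_inv]; rfl
  · have e3 : f v1 ^ 2 * jj f i * (f v1 ^ 2)⁻¹ = i := by
      calc _ = f v1 ^ 3 * i * (f v1 ^ 3)⁻¹ := by rw [jj]; group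
        _ = i := by rw [h.f3]; group
    rw [this _ h0 h1, e3, i_eq h, χ_mul' h cB (inv_mem (eg_E h _)) (inv_mem (eg_E h _)) ha,
      χ_inv, χ_inv, add_comm]; rfl

theorem E_N {a : G} (ha : a ∈ Eg f s i) (hN : a ∈ NJ f) : a = 1 ∨ a = s mT := by
  have k : ∀ x, f x ∈ Eg f s i → f x = 1 := fun x hx => by
    have e1 := (E_sq h cB hx).1
    have e2 : f x * f x * (f x * f x) = 1 := by rw [e1, ← tp_add h.t2, CharTwo.add_self_eq_zero]; rfl
    calc f x = f x * f x * (f x * f x) * (f x ^ 3)⁻¹ := by group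
      _ = 1 := by rw [e2, h.f3]; group
  obtain ⟨x, e⟩ := h.cJ0 (g := a) fun x hx => by
    obtain ⟨y, hy⟩ := h.mem_NJ.1 hN x
    have m := mul_mem ha (h.nE (h.fN x) (h.sfc W_mT hx).symm (inv_mem ha))
    rw [show a * (f x * a⁻¹ * (f x)⁻¹) = a * f x * a⁻¹ * (f x)⁻¹ by group, hy, ← h.fsub] at m
    have := k _ m
    rw [h.fsub, mul_inv_eq_one, ← hy] at this
    exact mul_inv_eq_iff_eq_mul.1 this
  rcases e with rfl | rfl
  · exact Or.inl (k x ha)
  · have m := mul_mem ha (le_sup_left (a := Bq f i) |>.trans (le_sup_left.trans le_sup_left) h.tB)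
    rw [mul_assoc, h.t2, mul_one] at m
    rw [k x m, one_mul]; exact Or.inr rfl

end H89

open H89 in
theorem St.ee (h : St l f s i) (cB : ∀ a ∈ Bq f i, ∀ b ∈ Bq f i ^ᶜ s p1, a * b = b * a)
    (cK : ∀ x, x ≠ 0 → mv mT x = x → ∀ g, g * s mT = s mT * g → g * f x = f x * g →
      ∃ a ∈ Eg f s i, a * g ∈ NJ f) : ∃ φ, EE l f s i φ := by
  have tE : s mT ∈ Eg f s i := le_sup_left (a := Bq f i) |>.trans (le_sup_left.trans le_sup_left) h.tB
  refine ⟨ph f s i, ⟨h.t1, h.t2, tE, fun a ha => E_t h cB ha, fun a ha b hb => ph_mul h cB ha hb,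
    fun a ha => ⟨(E_sq h cB ha).2, ?_⟩, ph_surj h cB, δt h, δm h,
    fun d a ha => h.nE (h.sN (W_dm d)) (δt h d) ha, fun d a _ => funext fun x => ?_⟩,
    ⟨tE, h.t1, h.t2, fun a ha => E_t h cB ha, fun a ha b hb => (E_com h cB ha hb).2,
      fun a ha e => (E_sq h cB ha).2 (funext fun d => χ_zero.2 (e _ (eg_E h _))),
      _, eg_E h 0, _, eg_E h (0 + oo), fun e => one_ne_zero ((eg_ne h 0).symm.trans (χ_zero.2 e))⟩,
    fun a ha => by rw [(E_sq h cB ha).1, tp_eq_one h.t1], fun g hg ht a ha => h.nE hg ht ha, cK,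
    fun a ha => E_N h cB ha, fun x hx a ha => ph_J h cB hx ha, fun a _ => funext fun d => ?_,
    fun hl a _ => funext fun d => ?_, funext fun d => ?_, cB⟩
  · rintro (rfl | rfl)
    · exact funext fun _ => χ_zero.2 (by simp)
    · exact funext fun _ => χ_zero.2 (E_t h cB (eg_E h _)).symm
  · have : ∀ d x : D3, x + oo = d + (x + d + oo) := by decide
    rw [ph, this d x, ← δ_eg h, χ_cj]; rfl
  · rw [ph, ← w_eg h, χ_cj]; rfl
  · rw [ph, ← u_eg h hl, χ_cj]; rfl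
  · have e := i_eq h 0
    rw [δ0 h, one_mul, inv_one, mul_one] at e
    have k : ∀ a b : G, χ a⁻¹ b = χ a b := fun a b => by rw [χ_comm, χ_inv, χ_comm]
    have : ∀ d : D3, ((if d = 0 + oo then 1 else 0) + (if d = 0 then 1 else 0) : ZMod 2) =
      if d = 0 ∨ d = oo then 1 else 0 := by decide
    rw [ph, ← this, ← ph_eg h cB, ← ph_eg h cB, ph, ph, ← k (eg f s i (0 + oo)), ← k (eg f s i 0),
      ← χ_mul h cB (inv_mem (eg_E h _)) (inv_mem (eg_E h _)) (eg_E h _), ← e]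

end H12.O83
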