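import Cfsg.Agent.Lib.O83.SCa
import Cfsg.Agent.Lib.P3L.Tools

/-! The regular module is normal (package SCB). -/

set_option autoImplicit false
set_option linter.unusedSectionVars false

namespace H12.O83

open Subgroup H20.L43 H69

variable {G : Type*} [Group G] [Finite G]

variable {t : G} {E K A : Subgroup G} {φ : G → D3 → ZMod 2} {δ : D3 → G}

namespace EC

variable (h : EC t E φ δ)
include h

theorem scb_δ0 : δ 0 = 1 := by
  have := h.δm 0 0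
  rw [add_zero] at this
  exact left_eq_mul.1 this

theorem scb_δ2 (d : D3) : δ d * δ d = 1 := by
  rw [← h.δm, show d + d = 0 by revert d; decide, h.scb_δ0]

theorem scb_mz {x : G} : x ∈ zpowers t ↔ x = 1 ∨ x = t := by
  refine ⟨?_, by rintro (rfl | rfl) <;> simp⟩
  rintro ⟨i, rfl⟩
  have : t ^ (2 : ℤ) = 1 := by rw [zpow_two, h.t2]
  rcases Int.even_or_odd' i with ⟨k, rfl | rfl⟩
  · left; simp only; rw [zpow_mul, this, one_zpow]
  · right; simp only; rw [zpow_add, zpow_mul, this, one_zpow, one_mul, zpow_one]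

/-- the 2-group `E δ(D)` -/
theorem scb_T : ∃ T : Subgroup G, IsPGroup 2 T ∧ ∀ x, x ∈ T ↔ ∃ a ∈ E, ∃ d, x = a * δ d := by
  refine ⟨{ carrier := {x | ∃ a ∈ E, ∃ d, x = a * δ d}
            mul_mem' := ?_
            one_mem' := ⟨1, one_mem _, 0, by rw [h.scb_δ0, one_mul]⟩
            inv_mem' := ?_ }, isPGroup_iff_mem.2 ?_, fun _ => Iff.rfl⟩
  · rintro _ _ ⟨a, ha, c, rfl⟩ ⟨b, hb, d, rfl⟩
    exact ⟨_, mul_mem ha (h.δE c b hb), c + d, by rw [h.δm]; group⟩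
  · rintro _ ⟨a, ha, c, rfl⟩
    refine ⟨_, h.δE c _ (inv_mem ha), c, ?_⟩
    rw [mul_inv_rev, inv_mul_cancel_right, inv_eq_of_mul_eq_one_right (h.scb_δ2 c)]
  · rintro _ ⟨a, ha, c, rfl⟩
    obtain ⟨k, e⟩ := isPGroup_iff_mem.1 h.two _ (mul_mem ha (h.δE c a ha))
    refine ⟨k + 1, ?_⟩
    rw [pow_succ', pow_mul, ← e, inv_eq_of_mul_eq_one_right (h.scb_δ2 c), sq]
    simp only [mul_assoc]

/-- the consequence of Goldschmidt's theorem -/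
theorem scb_gold (hK : ∀ g ∈ K, g * t = t * g) (EK : E ≤ K)
    (syl : ∀ P ≤ K ⊓ 𝐍(E), IsPGroup 2 P → ∃ n ∈ K ⊓ 𝐍(E), ∀ x ∈ P, ∃ a ∈ E, ∃ d,
      n * x * n⁻¹ = a * δ d) : ∃ L ≤ K, E ≤ L ∧ (∀ g ∈ K, ∀ x ∈ L, g * x * g⁻¹ ∈ L) ∧
      ∀ r ∈ L, r ∈ 𝐍(E) → r * r = 1 → ∀ x ∈ E, r * x * r⁻¹ * x⁻¹ ∈ zpowers t := by
  haveI : ((zpowers t).subgroupOf K).Normal := normal_subgroupOf_of_le_normalizer fun g hg =>
    centralizer_le_normalizer _ (centralizer_zpowers t ▸ mem_centralizer_singleton_iff.2 (hK g hg))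
  set f := QuotientGroup.mk' ((zpowers t).subgroupOf K)
  have k1 : ∀ x : K, f x = 1 ↔ x.1 ∈ zpowers t := fun x => QuotientGroup.eq_one_iff x
  have kl' : f.ker ≤ E.subgroupOf K := fun x hx => zpowers_le.2 h.tE ((k1 x).1 hx)
  have fs : Function.Surjective f := QuotientGroup.mk'_surjective _
  set W := (E.subgroupOf K).map f
  have c := Gold.ctx (A := W) (H := ⊤) (Gold.ea_of_sq (by
    rintro _ ⟨x, hx, rfl⟩
    rw [← map_mul, k1]
    refine h.scb_mz.2 ((h.ker _ (mul_mem hx hx)).1 ?_)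
    rw [h.add _ hx _ hx]
    funext d
    exact CharTwo.add_self_eq_zero _)) ⟨le_top, by
      rintro Q hQ l g - _ ⟨a, ha, rfl⟩ e
      obtain ⟨g, rfl⟩ := fs g
      rw [← map_inv, ← map_mul, ← map_mul] at e ⊢
      refine mem_map_of_mem f (h.sc hK EK syl _ (inv_mem g.2) _ ⟨(g * a * g⁻¹).2,
        H87.U6.two_le (h.wk hK EK syl) (T := (Q.comap f).map K.subtype)
        ((hQ.comap_of_ker_isPGroup f ((isPGroup_subgroupOf h.two K).to_le kl')).map _)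
        (fun x hx => ⟨⟨x, EK hx⟩, l (mem_map_of_mem f hx), rfl⟩) (map_subtype_le _) ⟨_, e, rfl⟩⟩ ?_)
      simpa [mul_assoc] using mem_subgroupOf.1 ha⟩
  have nl := normal_iff_top_le_normalizer.2 (le_normalizer_ncl W ⊤)
  refine ⟨((ncl W ⊤).comap f).map K.subtype, map_subtype_le _,
    fun x hx => ⟨⟨x, EK hx⟩, le_ncl W ⊤ (mem_map_of_mem f hx), rfl⟩, ?_, ?_⟩
  · rintro g hg _ ⟨x, hx, rfl⟩
    exact ⟨⟨g, hg⟩ * x * ⟨g, hg⟩⁻¹, (nl.comap f).conj_mem x hx _, rfl⟩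
  rintro _ ⟨r, hr, rfl⟩ rN r2 x hx
  have := H55.SylT.inv_cent c hr (mem_normalizer_of_cj_le (by
    rw [← map_cj]
    exact map_mono (by rw [subgroupOf_cj]; exact (congrArg (subgroupOf · K)
      (cj_eq_of_mem_normalizer rN)).le))) (fun C _ => by
      rw [← map_mul, show (r * r : K) = 1 from Subtype.ext r2, map_one]
      exact one_mem _) _ (mem_map_of_mem f (show ⟨x, EK hx⟩ ∈ E.subgroupOf K from hx))
  refine (k1 (r * ⟨x, EK hx⟩ * r⁻¹ * ⟨x, EK hx⟩⁻¹)).1 ?_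
  rw [map_mul, map_mul, map_mul, ← this, map_inv, map_inv, mul_inv_cancel_right, mul_inv_cancel]

/-- a nontrivial shift is nontrivial -/
theorem scb_shift {d : D3} (e : ∀ x ∈ E, δ d * x * (δ d)⁻¹ * x⁻¹ ∈ zpowers t) : d = 0 := by
  obtain ⟨x, hx, ex⟩ := h.surj fun c => if c = 0 then 1 else 0
  have m := mul_mem (h.δE d x hx) (inv_mem hx)
  have := h.add _ m x hx
  rw [(h.ker _ m).2 (h.scb_mz.1 (e x hx)), inv_mul_cancel_right, h.δφ d x hx, ex, zero_add] at this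
  simpa using congrFun this 0

end EC

theorem scb_one {x : G} {k l : ℕ} (h2 : x ^ 2 ^ k = 1) (h3 : x ^ 3 ^ l = 1) : x = 1 := by
  have := pow_gcd_eq_one.2 ⟨h2, h3⟩
  rwa [Nat.Coprime.gcd_eq_one (Nat.Coprime.pow k l (by norm_num)), pow_one] at this

theorem EC.normal (h : EC t E φ δ) (hK : ∀ g ∈ K, g * t = t * g) (EK : E ≤ K) (δK : ∀ d, δ d ∈ K)
    (AK : A ≤ K ⊓ 𝐍(E)) (Ac : ∀ a ∈ A, ∀ b ∈ A, a * b = b * a) (A3 : ∀ a ∈ A, a ^ 3 = 1)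
    (nc : ¬ IsCyclic A) (δA : ∀ d, ∀ a ∈ A, δ d * a * (δ d)⁻¹ ∈ A)
    (dec : ∀ g ∈ K ⊓ 𝐍(E), ∃ e ∈ E, ∃ a ∈ A, ∃ d, g = e * a * δ d)
    (cA : ∀ a ∈ A, a ≠ 1 → ∀ g ∈ K, g * a = a * g → g ∈ 𝐍(E))
    (nA : ∀ g ∈ K, (∀ a ∈ A, g * a * g⁻¹ ∈ A) → g ∈ 𝐍(E)) : K ≤ 𝐍(E) := by
  obtain ⟨T, T2, hT⟩ := h.scb_T
  have p3 : IsPGroup 3 A := pg3 (n := 1) A3
  have AK' : A ≤ K := AK.trans inf_le_left
  have TM : T ≤ K ⊓ 𝐍(E) := fun x hx => by
    obtain ⟨a, ha, d, rfl⟩ := (hT x).1 hx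
    exact mul_mem ⟨EK ha, le_normalizer ha⟩ ⟨δK d, mem_norm (h.δE d)⟩
  have dec' : ∀ g ∈ K ⊓ 𝐍(E), ∃ τ ∈ T, ∃ a ∈ A, g = τ * a := fun g hg => by
    obtain ⟨e, he, a, ha, d, rfl⟩ := dec g hg
    refine ⟨_, (hT _).2 ⟨e, he, d, rfl⟩, _, δA d a ha, ?_⟩
    rw [inv_eq_of_mul_eq_one_right (h.scb_δ2 d), ← mul_assoc, ← mul_assoc, mul_assoc e (δ d),
      h.scb_δ2, mul_one]
  have sT : IsSylowIn 2 T (K ⊓ 𝐍(E)) := ⟨TM, T2, fun S h1 h2 hS => le_antisymm (fun s hs => by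
    obtain ⟨τ, hτ, a, ha, rfl⟩ := dec' s (h2 hs)
    obtain ⟨k, e⟩ := isPGroup_iff_mem.1 hS a ((mul_mem_cancel_left (h1 hτ)).1 hs)
    rwa [scb_one (l := 1) e (A3 a ha), mul_one]) h1⟩
  have sA : IsSylowIn 3 A K := isSylowIn_of_normalizer AK' (IsSylowIn.mono (L := K ⊓ 𝐍(E))
    ⟨AK, p3, fun S h1 h2 hS => le_antisymm (fun s hs => by
      obtain ⟨τ, hτ, a, ha, rfl⟩ := dec' s (h2 hs)
      obtain ⟨k, e⟩ := isPGroup_iff_mem.1 hS τ ((mul_mem_cancel_right (h1 ha)).1 hs)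
      obtain ⟨l, e'⟩ := isPGroup_iff_mem.1 T2 τ hτ
      rwa [scb_one e' e, one_mul]) h1⟩ (le_inf AK' le_normalizer)
    fun g hg => ⟨hg.1, nA g hg.1 fun a ha => conj_mem hg.2 ha⟩)
  obtain ⟨L, LK, EL, nL, gold⟩ := h.scb_gold hK EK fun P h1 h2 => by
    obtain ⟨n, hn, e⟩ := sT.exists_cj_le h2 h1
    refine ⟨n, hn, fun x hx => ?_⟩
    obtain ⟨a, ha, d, e⟩ := (hT _).1 (e (cj_mem n hx))
    exact ⟨a, ha, d, e⟩
  have LN : ∀ g ∈ L, g ∈ 𝐍(E) → ∃ e ∈ E, ∃ a ∈ A, g = e * a := fun g hg gN => by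
    obtain ⟨e, he, a, ha, d, rfl⟩ := dec g ⟨LK hg, gN⟩
    rw [mul_assoc, mul_mem_cancel_left (EL he)] at hg
    have m := mul_mem (mul_mem hg hg) (nL a (AK' ha) _ hg)
    have i := inv_eq_of_mul_eq_one_right (h.scb_δ2 d)
    have c := Ac _ (δA d a ha) a ha
    have : a * δ d * (a * δ d) * (a * (a * δ d) * a⁻¹) = δ d := by
      calc _ = a * (δ d * a * (δ d)⁻¹ * (a * a)) * (δ d * a⁻¹) := by rw [i]; group
        _ = a * a * a * δ d := by rw [(Commute.mul_right c c).eq]; group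
        _ = _ := by rw [← sq, ← pow_succ, A3 a ha, one_mul]
    rw [this] at m
    rw [h.scb_shift (gold _ m (mem_norm (h.δE d)) (h.scb_δ2 d)), h.scb_δ0, mul_one]
    exact ⟨e, he, a, ha, rfl⟩
  have EA : ∀ x ∈ E, x ∈ A → x = 1 := fun x hx xA => by
    obtain ⟨k, e⟩ := isPGroup_iff_mem.1 h.two x hx
    exact scb_one (l := 1) e (A3 x xA)
  obtain ⟨S, hS⟩ := (sA.inf_normal LK fun g hg => mem_norm (nL g hg)).exists_sylow_subgroupOf
  have mS : ∀ x : L, x ∈ (S : Subgroup L) ↔ (x : G) ∈ A := fun x => by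
    rw [hS, mem_subgroupOf]; exact ⟨fun e => e.1, fun e => ⟨e, x.2⟩⟩
  have bu := H4.hasNormalPComplement_of_normalizer_le_centralizer S fun g hg x hx => by
    have gn : ∀ y ∈ A ⊓ L, (g : G) * y * (g : G)⁻¹ ∈ A ⊓ L := fun y hy =>
      ⟨(mS _).1 ((mem_normalizer_iff.1 hg ⟨y, hy.2⟩).1 ((mS _).2 hy.1)), nL g (LK g.2) y hy.2⟩
    have xA := (mS x).1 hx
    by_cases x1 : (x : G) = 1
    · rw [show x = 1 from Subtype.ext x1]; simp
    have AC : A ≤ K ⊓ 𝐂((A ⊓ L : Subgroup G)) := le_inf AK' fun a ha b hb => Ac b hb.1 a ha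
    obtain ⟨c, hc, e⟩ := (sA.mono AC inf_le_left).exists_cj_le (isPGroup_cj p3 g)
      (cj_le_of_mem_normalizer AC (le_normalizer_inf (L := zpowers (g : G))
        (zpowers_le.2 (le_normalizer (LK g.2)))
        (le_normalizer_centralizer (zpowers_le.2 (mem_norm gn))) (mem_zpowers _)))
    have c1 := cA x xA x1 c hc.1 (hc.2 _ ⟨xA, x.2⟩).symm
    have c2 := nA _ (mul_mem hc.1 (LK g.2)) fun a ha => e (cj_cj A g c ▸ cj_mem _ ha)
    obtain ⟨e, he, a, ha, eg⟩ := LN g g.2 ((mul_mem_cancel_left c1).1 c2)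
    have e1 : (g : G) * x * (g : G)⁻¹ * (x : G)⁻¹ = e * (x * e⁻¹ * (x : G)⁻¹) := by
      rw [eg, mul_assoc e a, Ac a ha x xA]; group
    have := EA _ (e1 ▸ mul_mem he (conj_mem (AK xA).2 (inv_mem he)))
      (mul_mem (gn _ ⟨xA, x.2⟩).1 (inv_mem xA))
    exact Subtype.ext (mul_inv_eq_iff_eq_mul.1 (mul_inv_eq_one.1 this)).symm
  have mY : ∀ x, x ∈ (Cfsg.pResidual 3 L).map L.subtype ↔ x ∈ L ∧ (orderOf x).Coprime 3 := fun x =>
    ⟨by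
      rintro ⟨x, hx, rfl⟩
      exact ⟨x.2, by simpa using (H4.mem_pResidual_iff_of_hasNormalPComplement bu).1 hx⟩,
    fun ⟨h1, h2⟩ => ⟨⟨x, h1⟩, (H4.mem_pResidual_iff_of_hasNormalPComplement bu).2 (by simpa), rfl⟩⟩
  have cY := (H4.hasNormalPComplement_iff_card_map L).1 bu
  generalize (Cfsg.pResidual 3 L).map L.subtype = Y at mY cY
  have nY : ∀ g ∈ K, ∀ x ∈ Y, g * x * g⁻¹ ∈ Y := fun g hg x hx =>
    (mY _).2 ⟨nL g hg x ((mY x).1 hx).1, by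
      rw [← MulAut.conj_apply, MulEquiv.orderOf_eq]; exact ((mY x).1 hx).2⟩
  have EY : E ≤ Y := fun x hx => (mY x).2 ⟨EL hx, by
    obtain ⟨k, e⟩ := isPGroup_iff_mem.1 h.two x hx
    exact Nat.Coprime.coprime_dvd_left (orderOf_dvd_of_pow_eq_one e)
      (Nat.Coprime.pow_left k (by norm_num))⟩
  have YN : Y ≤ 𝐍(E) := H2.le_of_forall_centralizer_le (A := A)
    ⟨⟨fun a b => Subtype.ext (Ac _ a.2 _ b.2)⟩⟩ nc (fun a ha => mem_norm (nY a (AK' ha)))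
    (H1.coprime_card_of_isPGroup_of_coprime p3 ((Nat.Prime.coprime_iff_not_dvd Nat.prime_three).2 cY).symm)
    fun a ha a1 g hg => cA a ha a1 g (LK ((mY g).1 hg.1).1) (mem_centralizer_singleton_iff.1 hg.2)
  refine fun g hg => mem_norm fun x hx => ?_
  have m := nY g hg x (EY hx)
  obtain ⟨e, he, a, ha, eg⟩ := LN _ ((mY _).1 m).1 (YN m)
  rw [eg] at m ⊢
  have := ((mY a).1 ((mul_mem_cancel_left (EY he)).1 m)).2
  rwa [orderOf_eq_one_iff.1 (Nat.Coprime.eq_one_of_dvd this (orderOf_dvd_of_pow_eq_one (A3 a ha))),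
    mul_one]

end H12.O83
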