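import Cfsg.Agent.Lib.O83.N3w
import Cfsg.Agent.Lib.O83.SCb

/-! The centralizer of `t` in the subgroup of index three (package FA). -/

set_option autoImplicit false
set_option linter.unusedSectionVars false

namespace H12.O83

open Subgroup H20.L43 H69

variable {G : Type*} [Group G] [Finite G] {l : Bool} {f : V4 → G} {s : M4 → G} {i : G}

variable {φ : G → D3 → ZMod 2}

theorem St.k0 (h : St false f s i) (e : EE false f s i φ) {H : Subgroup G} (hH : G0 f s H) (g : G)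
    (gH : g ∈ H) (gt : g * s mT = s mT * g) :
    ∃ a ∈ Eg f s i, ∃ x d, mv mT x = x ∧ g = a * f x * s (dm d) := by
  have hp := h.toPre
  have nE : ∀ g ∈ NJ f, g * s mT = s mT * g → g ∈ 𝐍(Eg f s i) := fun g hg gt =>
    mem_norm (e.nE g hg gt)
  have EH : Eg f s i ≤ H := fun a ha => by
    have := hH.nm
    obtain ⟨k, hk⟩ := isPGroup_iff_mem.1 e.toEC.two a ha
    have h3 : (a : G ⧸ H) ^ 3 = 1 := (QuotientGroup.eq_one_iff (a ^ 3)).2 (hH.ind ▸ H.pow_index_mem a)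
    have h2 : (a : G ⧸ H) ^ 2 ^ k = 1 := (QuotientGroup.eq_one_iff (a ^ 2 ^ k)).2 (hk ▸ one_mem H)
    have := pow_gcd_eq_one.2 ⟨h2, h3⟩
    rwa [Nat.Coprime.pow_left k (by decide : Nat.Coprime 2 3), pow_one, QuotientGroup.eq_one_iff] at this
  have hK : ∀ {g}, g ∈ centralizer {s mT} ⊓ H → g * s mT = s mT * g := fun hg =>
    mem_centralizer_singleton_iff.1 hg.1
  have := e.toEC.normal (K := centralizer {s mT} ⊓ H) (A := Ac f mT) (fun _ => hK)
    (fun a ha => ⟨mem_centralizer_singleton_iff.2 (e.tc a ha), EH ha⟩)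
    (fun d => ⟨mem_centralizer_singleton_iff.2 (e.δt d), (hH.sH _ (W_dm d)).2 (by revert d; decide)⟩)
    (fun a ha => by
      obtain ⟨x, hx, rfl⟩ := hp.mem_Ac.1 ha
      exact ⟨⟨mem_centralizer_singleton_iff.2 (h.sfc W_mT hx).symm, hH.fH x⟩,
        nE _ (hp.fN x) (h.sfc W_mT hx).symm⟩)
    (fun a ha b hb => by
      obtain ⟨x, -, rfl⟩ := hp.mem_Ac.1 ha
      obtain ⟨y, -, rfl⟩ := hp.mem_Ac.1 hb
      exact hp.fcomm x y)
    (fun a ha => by obtain ⟨x, -, rfl⟩ := hp.mem_Ac.1 ha; exact hp.f3 x)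
    (fun c => by
      obtain ⟨a, ha⟩ := (Subgroup.isCyclic_iff_exists_zpowers_eq_top _).1 c
      obtain ⟨x, -, rfl⟩ := hp.mem_Ac.1 (ha ▸ mem_zpowers a)
      obtain ⟨c1, k1⟩ := hp.mem_zp.1 (ha.ge (hp.mem_Ac.2 ⟨v1, by decide, rfl⟩))
      obtain ⟨c2, k2⟩ := hp.mem_zp.1 (ha.ge (hp.mem_Ac.2 ⟨v2, by decide, rfl⟩))
      exact (by decide +kernel : ∀ (x : V4) (c1 c2 : ZMod 3), c1 • x = v1 → c2 • x ≠ v2) x c1 c2
        (hp.finj k1) (hp.finj k2))
    (fun d a ha => by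
      obtain ⟨x, hx, rfl⟩ := hp.mem_Ac.1 ha
      exact hp.mem_Ac.2 ⟨_, (by decide +kernel : ∀ (d : D3) (x : V4), mv mT x = x →
        mv mT (mv (dm d) x) = mv (dm d) x) d x hx, (h.act _ (W_dm d) x).symm⟩)
    (fun g hg => by
      obtain ⟨a, ha, x, d, hx, k⟩ := h.n3a e hH g hg.1.2 (hK hg.1) hg.2
      exact ⟨a, ha, f x, hp.mem_Ac.2 ⟨x, hx, rfl⟩, d, k⟩)
    (fun a ha a1 g hg k => by
      obtain ⟨x, hx, rfl⟩ := hp.mem_Ac.1 ha
      obtain ⟨b, hb, k1⟩ := e.cK x (by rintro rfl; exact a1 hp.f0) hx g (hK hg) k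
      exact (mul_mem_cancel_left (le_normalizer hb)).1 (nE _ k1 (by
        rw [mul_assoc, hK hg, ← mul_assoc, e.tc b hb, mul_assoc])))
    (fun g hg k => nE g (hp.NA (A := {x | mv mT x = x}) (fun c hc => by
        obtain ⟨x, rfl | rfl⟩ := h.cJ0 hc
        · exact hp.fN x
        · exact mul_mem (hp.fN x) (h.sN W_mT)) fun x hx => by
        obtain ⟨y, -, k1⟩ := hp.mem_Ac.1 (k _ (hp.mem_Ac.2 ⟨x, hx, rfl⟩))
        exact ⟨y, k1.symm⟩) (hK hg))
  exact h.n3a e hH g gH gt (this ⟨mem_centralizer_singleton_iff.2 gt, gH⟩)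

end H12.O83
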