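import Cfsg.Agent.Lib.O83.Defs
import Cfsg.Agent.Lib.U63.SC
import Cfsg.Agent.Lib.P3L.Tools

/-! Weak and strong closure of the regular module (package SCA). -/

set_option autoImplicit false
set_option linter.unusedSectionVars false

namespace H12.O83

open Subgroup H20.L43 H69

variable {G : Type*} [Group G] [Finite G]

variable {t : G} {E K : Subgroup G} {φ : G → D3 → ZMod 2} {δ : D3 → G}

namespace SCA

/-- the counting properties of the regular module -/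
structure Nice (K E : Subgroup G) : Prop where
  le : E ≤ K
  sq : ∀ a ∈ E, a * a = 1
  card : Nat.card E = 256
  fix : ∀ P ≤ K ⊓ 𝐍(E), IsPGroup 2 P → ∃ m n : ℕ, m * n = 8 ∧
    Nat.card P = m * Nat.card (P ⊓ E : Subgroup G) ∧ Nat.card (E ⊓ 𝐂(P) : Subgroup G) ≤ 2 ^ n

namespace Nice

variable (h : Nice K E)
include h

theorem cj {g : G} (hg : g ∈ K) : Nice K (E ^ᶜ g) where
  le := cj_le_of_mem h.le hg
  sq := fun a ha => by
    obtain ⟨a, ha', rfl⟩ := mem_cj'.1 ha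
    rw [conj_mul, h.sq a ha']; simp
  card := by rw [card_cj, h.card]
  fix := fun P hP p => by
    obtain ⟨m, n, e1, e2, e3⟩ := h.fix (P ^ᶜ g⁻¹) (by
      rw [cj_le_iff, inv_inv, cj_inf, cj_eq_of_mem hg, cj_normalizer]; exact hP) (isPGroup_cj p _)
    refine ⟨m, n, e1, ?_, ?_⟩
    · rwa [card_cj, ← card_cj (_ ⊓ E) g, cj_inf, cj_inv_cj] at e2
    · rwa [← card_cj _ g, cj_inf, cj_centralizer, cj_inv_cj] at e3

theorem inv {a : G} (ha : a ∈ E) : a⁻¹ = a := inv_eq_of_mul_eq_one_right (h.sq a ha)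

theorem cm {a b : G} (ha : a ∈ E) (hb : b ∈ E) : a * b = b * a := by
  rw [← h.inv (mul_mem ha hb), mul_inv_rev, h.inv ha, h.inv hb]

theorem two : IsPGroup 2 E := isPGroup_iff_mem.2 fun x hx => ⟨1, by rw [pow_one, pow_two, h.sq x hx]⟩

theorem bd {P C : Subgroup G} (hP : P ≤ K ⊓ 𝐍(E)) (p : IsPGroup 2 P) (hC : C ≤ E ⊓ 𝐂(P)) :
    Nat.card P ≤ 8 * Nat.card (P ⊓ E : Subgroup G) ∧
    (2 < Nat.card C → Nat.card P ≤ 4 * Nat.card (P ⊓ E : Subgroup G)) ∧
    (4 < Nat.card C → Nat.card P ≤ 2 * Nat.card (P ⊓ E : Subgroup G)) ∧ (16 < Nat.card C → P ≤ E) := by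
  obtain ⟨m, n, e1, e2, e3⟩ := h.fix P hP p
  have c := (card_le_of_le hC).trans e3
  have k : ∀ j, 2 ^ j < Nat.card C → j < n := fun j hj =>
    (Nat.pow_lt_pow_iff_right (by norm_num)).1 (hj.trans_le c)
  have n0 : n ≠ 0 := by rintro rfl; simp at e1
  rw [e2]
  refine ⟨Nat.mul_le_mul_right _ (by have := Nat.pos_of_ne_zero n0; nlinarith), fun c =>
    Nat.mul_le_mul_right _ (by have := k 1 c; nlinarith), fun c =>
    Nat.mul_le_mul_right _ (by have := k 2 c; nlinarith), fun c => ?_⟩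
  have : m ≤ 1 := by have := k 4 c; nlinarith
  refine inf_eq_left.1 (eq_of_le_of_card_ge inf_le_left ?_)
  rw [e2]; nlinarith

theorem fix1 {x : G} (hx : x ∈ K ⊓ 𝐍(E)) (x2 : x * x = 1) (xE : x ∉ E) :
    Nat.card (E ⊓ centralizer {x} : Subgroup G) ≤ 16 := by
  by_contra c
  refine xE ((h.bd (P := zpowers x) (zpowers_le.2 hx) (H87.Mc.pgz (k := 1) (by rw [pow_one, pow_two, x2]))
    (by rw [centralizer_zpowers])).2.2.2 (not_le.1 c) (mem_zpowers x))

theorem le_of {E' : Subgroup G} (h' : Nice K E') (l : E' ≤ 𝐍(E)) : E' ≤ E := by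
  have b := h.bd (le_inf h'.le l) h'.two (C := E' ⊓ E) (le_inf inf_le_right fun x hx y hy => h'.cm hy hx.1)
  exact b.2.2.2 (by have := b.1; rw [h'.card] at this; omega)

theorem wk (g : G) (hg : g ∈ K) (e : ∀ a ∈ E, g * a * g⁻¹ ∈ 𝐍(E)) : g ∈ 𝐍(E) :=
  mem_normalizer_of_cj_le (h.le_of (h.cj hg) fun y hy => by
    obtain ⟨y, hy', rfl⟩ := mem_cj'.1 hy
    exact e y hy')

/-- Sylow's theorem and weak closure -/
theorem into {L R T : Subgroup G} (hL : L ≤ K) (hT : T ≤ L) (hT' : IsPGroup 2 T) (hE : E ≤ T)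
    (hR : R ≤ L) (hR' : IsPGroup 2 R) : ∃ l ∈ L, R ^ᶜ l ≤ 𝐍(E) := by
  obtain ⟨P, hP, l1⟩ := exists_isSylowIn_le hT' hT
  obtain ⟨l, hl, l2⟩ := hP.exists_cj_le hR' hR
  exact ⟨l, hl, l2.trans (H87.U6.two_le h.wk hP.isP (hE.trans l1) (hP.le.trans hL))⟩

theorem cmem {x e : G} (hx : x ∈ 𝐍(E)) (x2 : x * x = 1) (he : e ∈ E) :
    e * x * e⁻¹ * x⁻¹ ∈ E ⊓ centralizer {x} := by
  have m := conj_mem_of_mem_normalizer hx (inv_mem he)
  have e1 : e * x * e⁻¹ * x⁻¹ = e * (x * e⁻¹ * x⁻¹) := by group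
  refine ⟨e1 ▸ mul_mem he m, mem_centralizer_singleton_iff.2 ?_⟩
  have xi : x⁻¹ = x := inv_eq_of_mul_eq_one_right x2
  conv_rhs => rw [e1, h.cm he m]
  rw [xi, h.inv he]
  simp only [mul_assoc, x2, mul_one]
  rw [← mul_assoc x x, x2, one_mul]

/-- the kernel of the commutator map -/
theorem big {x : G} (hx : x ∈ 𝐍(E)) (U : Subgroup G) (hU : U ≤ E) (V : Subgroup G)
    (hV : ∀ e ∈ E, e * x * e⁻¹ * x⁻¹ ∈ V) : ∃ E1 ≤ E, (∀ e ∈ E1, e * x * e⁻¹ * x⁻¹ ∈ U) ∧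
      256 * Nat.card (U ⊓ V : Subgroup G) ≤ Nat.card V * Nat.card E1 := by
  have hh : H87.Mc.IsH E fun e => e * x * e⁻¹ * x⁻¹ := fun a ha b hb => by
    have m := conj_mem_of_mem_normalizer hx (inv_mem ha)
    have m' := conj_mem_of_mem_normalizer hx (inv_mem hb)
    calc a * b * x * (a * b)⁻¹ * x⁻¹ = a * (b * (x * b⁻¹ * x⁻¹) * (x * a⁻¹ * x⁻¹)) := by group
      _ = _ := by rw [h.cm (mul_mem hb m') m]; group
  refine ⟨hh.pre U, fun e he => (hh.mem_pre.1 he).1, fun e he => (hh.mem_pre.1 he).2, ?_⟩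
  have iV : hh.im ≤ V := fun y hy => by
    obtain ⟨e, he, rfl⟩ := hh.mem_im.1 hy
    exact hV e he
  rw [hh.card_pre, ← h.card, hh.card_eq]
  have : Nat.card hh.im * Nat.card (U ⊓ V : Subgroup G) ≤ Nat.card V * Nat.card (hh.im ⊓ U : Subgroup G) := by
    have iE : hh.im ≤ E := fun y hy => by
      obtain ⟨e, he, rfl⟩ := hh.mem_im.1 hy
      rw [show e * x * e⁻¹ * x⁻¹ = e * (x * e⁻¹ * x⁻¹) by group]
      exact mul_mem he (conj_mem_of_mem_normalizer hx (inv_mem he))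
    rw [← H1.card_sup_mul_card_inf_of_le_normalizer (N := U ⊓ V) (le_normalizer_of_le_centralizer
      fun y hy u hu => h.cm (hU hu.1) (iE hy))]
    exact Nat.mul_le_mul (card_le_of_le (sup_le iV inf_le_right))
      (card_le_of_le (inf_le_inf_left _ inf_le_left))
  nlinarith

omit h in
theorem dbl {U : Subgroup G} {a : G} (ha : a ∉ U) :
    2 * Nat.card U ≤ Nat.card (U ⊔ zpowers a : Subgroup G) := by
  obtain ⟨k, e⟩ := card_dvd_of_le (le_sup_left : U ≤ U ⊔ zpowers a)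
  have p : 0 < Nat.card (U ⊔ zpowers a : Subgroup G) := Nat.card_pos
  have : k ≠ 1 := by
    rintro rfl
    exact ha (eq_of_le_of_card_ge (le_sup_left : U ≤ U ⊔ zpowers a) (by omega) ▸
      mem_sup_right (mem_zpowers a))
  have : k ≠ 0 := by rintro rfl; omega
  have : 2 ≤ k := by omega
  rw [e]; nlinarith

omit h in
theorem nrm {U F : Subgroup G} {a e : G} (hF : F = U ⊔ zpowers a) (c : ∀ u ∈ U, e * u = u * e)
    (m : e * a * e⁻¹ * a⁻¹ ∈ U) : e ∈ 𝐍(F) := by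
  subst hF
  refine mem_normalizer_of_cj_le ?_
  rw [cj_sup, cj_zpowers, cj_eq_of_mem_centralizer fun u hu => (c u hu).symm]
  exact sup_le le_sup_left (zpowers_le.2 (by simpa using mul_mem_sup m (mem_zpowers a)))

theorem sc0 {E' : Subgroup G} (h' : Nice K E') {a : G} (aN : a ∈ 𝐍(E)) (aE' : a ∈ E')
    (hF : E ⊓ centralizer {a} ≤ 𝐍(E')) : a ∈ E := by
  by_contra aE
  have a2 := h'.sq a aE'
  have c1 := h.fix1 ⟨h'.le aE', aN⟩ a2 aE
  have c2 : 16 ≤ Nat.card (E ⊓ centralizer {a} : Subgroup G) := by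
    obtain ⟨E1, l1, l2, l3⟩ := h.big aN ⊥ bot_le _ fun e he => h.cmem aN a2 he
    have := card_le_of_le (show E1 ≤ E ⊓ centralizer {a} from fun e he => ⟨l1 he,
      mem_centralizer_singleton_iff.2 (by
        have := mem_bot.1 (l2 e he)
        rwa [mul_inv_eq_one, mul_inv_eq_iff_eq_mul] at this)⟩)
    rw [bot_inf_eq, card_bot] at l3
    nlinarith
  have cm := fun e (he : e ∈ E) => h.cmem aN a2 he
  have Fa : ∀ x ∈ E ⊓ centralizer {a}, x * a = a * x := fun x hx => mem_centralizer_singleton_iff.1 hx.2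
  have FE : E ⊓ centralizer {a} ≤ E := inf_le_left
  generalize E ⊓ centralizer {a} = F at *
  have CE : F ⊓ E' ⊔ zpowers a ≤ E' ⊓ 𝐂(F) := sup_le (le_inf inf_le_right fun x hx y hy =>
    h.cm (FE hy) (FE hx.1)) (zpowers_le.2 ⟨aE', Fa⟩)
  have b := h'.bd (le_inf (FE.trans h.le) hF) (h.two.to_le FE) CE
  have d := dbl (U := F ⊓ E') (a := a) fun m => aE (FE m.1)
  have u8 : 8 ≤ Nat.card (F ⊓ E' : Subgroup G) := by
    obtain ⟨b1, b2, b3, -⟩ := b
    omega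
  by_cases FE' : F ≤ E'
  · have FF : F ⊔ zpowers a ≤ E' := sup_le FE' (zpowers_le.2 aE')
    obtain ⟨l, hl, l1⟩ := h'.into (L := K ⊓ 𝐍((F ⊔ zpowers a : Subgroup G))) inf_le_left
      (le_inf h'.le (le_normalizer_of_le_centralizer fun x hx y hy => h'.cm (FF hy) hx)) h'.two le_rfl
      (le_inf h.le fun e he => nrm rfl (fun u hu => h.cm he (FE hu)) (cm e he)) h.two
    have l2 := h'.le_of (h.cj hl.1) l1
    have : E ≤ E ⊓ centralizer {a} := fun e he => ⟨he, mem_centralizer_singleton_iff.2 (by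
      have := h'.cm (l2 (cj_mem l he)) (FF (conj_mem_of_mem_normalizer hl.2 (mem_sup_right (mem_zpowers a))))
      rw [conj_mul, conj_mul] at this
      exact conj_injective this)⟩
    have := (card_le_of_le this).trans (h.fix1 ⟨h'.le aE', aN⟩ a2 aE)
    rw [h.card] at this
    omega
  obtain ⟨y, yF, yE⟩ := SetLike.not_le_iff_exists.1 FE'
  have y2 := h.sq y (FE yF)
  have c3 := h'.fix1 ⟨h.le (FE yF), hF yF⟩ y2 yE
  obtain ⟨E1, l1, l2, l3⟩ := h'.big (hF yF) (F ⊓ E') inf_le_right _ fun e he => h'.cmem (hF yF) y2 he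
  rw [inf_eq_left.2 (le_inf inf_le_right fun x hx => mem_centralizer_singleton_iff.2
    (h.cm (FE hx.1) (FE yF)))] at l3
  have c4 : 128 ≤ Nat.card E1 := by nlinarith
  have eF : F = F ⊓ E' ⊔ zpowers y := (eq_of_le_of_card_ge (sup_le inf_le_left (zpowers_le.2 yF)) (by
    have := dbl (U := F ⊓ E') (a := y) fun m => yE m.2
    omega)).symm
  have EU : E1 ≤ 𝐂((F ⊓ E' : Subgroup G)) := fun e he u hu => h'.cm hu.2 (l1 he)
  obtain ⟨m, hm, m1⟩ := h.into (L := K ⊓ 𝐍(F) ⊓ 𝐂((F ⊓ E' : Subgroup G))) (inf_le_left.trans inf_le_left)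
    (le_inf (le_inf h.le (le_normalizer_of_le_centralizer fun x hx y hy => h.cm (FE hy) hx))
      fun x hx y hy => h.cm (FE hy.1) hx) h.two le_rfl
    (le_inf (le_inf (l1.trans h'.le) fun e he => nrm eF (fun u hu => h'.cm (l1 he) hu.2) (l2 e he)) EU)
    (h'.two.to_le l1)
  have b' := (h.bd (le_inf (cj_le_of_mem (l1.trans h'.le) hm.1.1) m1) (isPGroup_cj (h'.two.to_le l1) m)
    (C := F ⊓ E') (le_inf (inf_le_left.trans FE) (le_centralizer_iff.1 (cj_le_of_mem EU hm.2)))).2.2.1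
    (by omega)
  have : E1 ^ᶜ m ⊓ E ≤ (E' ⊓ centralizer {y}) ^ᶜ m := fun x hx => by
    obtain ⟨e, he, rfl⟩ := mem_cj'.1 hx.1
    refine cj_mem m ⟨l1 he, mem_centralizer_singleton_iff.2 ?_⟩
    have := h.cm hx.2 (FE (conj_mem_of_mem_normalizer hm.1.2 yF))
    rw [conj_mul, conj_mul] at this
    exact conj_injective this
  have := card_le_of_le this
  rw [card_cj] at this b'
  omega

theorem sc (g : G) (hg : g ∈ K) (a : G) (ha : a ∈ K ⊓ 𝐍(E)) (e : g * a * g⁻¹ ∈ E) : a ∈ E := by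
  have h' := h.cj (inv_mem hg)
  have aE : a ∈ E ^ᶜ g⁻¹ := mem_cj.2 (by rwa [inv_inv])
  obtain ⟨l, hl, l1⟩ := h'.into (L := K ⊓ centralizer {a}) (R := E ⊓ centralizer {a}) inf_le_left
    (le_inf h'.le fun x hx => mem_centralizer_singleton_iff.2 (h'.cm hx aE)) h'.two le_rfl
    (inf_le_inf_right _ h.le) (h.two.to_le inf_le_left)
  refine h.sc0 (h'.cj (inv_mem hl.1)) ha.2 (mem_cj.2 ?_) (by rwa [← cj_normalizer, ← cj_le_iff])
  rwa [inv_inv, mem_centralizer_singleton_iff.1 hl.2, mul_inv_cancel_right]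

end Nice

section
variable (h : EC t E φ δ)
include h

theorem mt {x : G} : x ∈ zpowers t ↔ x = 1 ∨ x = t := by
  refine ⟨?_, by rintro (rfl | rfl); exacts [one_mem _, mem_zpowers _]⟩
  rintro ⟨n, rfl⟩
  have h2 : t ^ (2 : ℤ) = 1 := by rw [zpow_two, h.t2]
  rcases Int.emod_two_eq_zero_or_one n with e | e <;> simp only [zpow_eq_zpow_emod n h2, e] <;> simp

theorem ot : orderOf t = 2 := orderOf_eq_prime (by rw [pow_two, h.t2]) h.t1

theorem isH : H87.Mc.IsH E fun a => Multiplicative.ofAdd (φ a) := fun a ha b hb => by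
  simp only [h.add a ha b hb, ofAdd_add]

theorem φcj {a b : G} (ha : a ∈ E) (hb : b ∈ E) : φ (a * b * a⁻¹) = φ b := by
  have := (isH h).conj ha hb
  rw [mul_inv_cancel_comm] at this
  exact Multiplicative.ofAdd.injective this

theorem φδ {a b : G} (ha : a ∈ E) (hb : b ∈ E) (d : D3) :
    φ (a * δ d * b * (a * δ d)⁻¹) = fun x => φ b (x + d) := by
  rw [← h.δφ d b hb, ← φcj h ha (h.δE d b hb)]
  congr 1; group

theorem uniq {a a' : G} (ha : a ∈ E) (ha' : a' ∈ E) {c d : D3} (e : a * δ c = a' * δ d) : c = d := by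
  obtain ⟨b, hb, e'⟩ := h.surj (Pi.single 0 1)
  have := congrFun ((φδ h ha hb c).symm.trans (e ▸ φδ h ha' hb d)) c
  rw [e'] at this
  revert this
  generalize c = c, d = d
  revert c d
  decide

theorem δ0 : δ 0 = 1 := by simpa using h.δm 0 0

theorem EC' : E ≤ Ce t := fun a ha => mem_Ce.2 (h.tc a ha)

theorem pre_im {A : Subgroup G} (hA : A ≤ Ce t) (tA : t ∈ A) : pre t (im t A) = A :=
  Subgroup.ext fun x => by
    rw [mem_pre]
    exact ⟨fun ⟨a, b⟩ => (pr_mem_im tA a).1 b, fun a => ⟨hA a, (pr_mem_im tA (hA a)).2 a⟩⟩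

theorem pr_nm {g : G} (hg : g ∈ Ce t) : H20.L43.pr t g ∈ 𝐍(im t E) ↔ g ∈ 𝐍(E) := by
  refine ⟨fun e => mem_norm fun x hx => ?_, fun e => mem_norm fun x hx => ?_⟩
  · have m := EC' h hx
    rw [← pr_mem_im h.tE (mul_mem (mul_mem hg m) (inv_mem hg)), ← pr_conj hg m]
    exact conj_mem e ((pr_mem_im h.tE m).2 hx)
  · obtain ⟨y, hy, m, rfl⟩ := mem_im.1 hx
    rw [pr_conj hg m, pr_mem_im h.tE (mul_mem (mul_mem hg m) (inv_mem hg))]
    exact conj_mem e hy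

end

end SCA

open SCA

theorem EC.card (h : EC t E φ δ) : Nat.card E = 2 ^ 9 := by
  rw [(isH h).card_eq' (A := ⊤) (K := zpowers t) (fun x => ⟨fun _ => h.surj x.toAdd, fun _ => trivial⟩)
    (fun g => by
      rw [SCA.mt h]
      exact ⟨fun e => by
        have m : g ∈ E := by rcases e with rfl | rfl; exacts [one_mem _, h.tE]
        exact ⟨m, (h.ker g m).2 e⟩, fun e => (h.ker g e.1).1 e.2⟩), Nat.card_zpowers, ot h]
  simp

theorem EC.two (h : EC t E φ δ) : IsPGroup 2 E := IsPGroup.of_card h.card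

namespace SCA

omit [Finite G] in
theorem cnt (A : Subgroup (Multiplicative D3)) (B : Subgroup (Multiplicative (D3 → ZMod 2)))
    (hB : ∀ v ∈ B, ∀ d ∈ A, ∀ x, v.toAdd (x + d.toAdd) = v.toAdd x) : Nat.card B ≤ 2 ^ A.index := by
  have := Nat.card_le_card_of_injective
    (fun (v : B) (q : Multiplicative D3 ⧸ A) => v.1.toAdd q.out.toAdd) fun v w e => by
      refine Subtype.ext (Multiplicative.toAdd.injective (funext fun x => ?_))
      obtain ⟨d, hd⟩ := QuotientGroup.mk_out_eq_mul A (Multiplicative.ofAdd x)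
      have := congrFun e (QuotientGroup.mk (Multiplicative.ofAdd x))
      simp only [hd, toAdd_mul, toAdd_ofAdd] at this
      rwa [hB _ v.2 _ d.2, hB _ w.2 _ d.2] at this
  rwa [Nat.card_fun, Nat.card_zmod] at this

theorem nice (h : EC t E φ δ) (hK : ∀ g ∈ K, g * t = t * g) (EK : E ≤ K)
    (syl : ∀ P ≤ K ⊓ 𝐍(E), IsPGroup 2 P → ∃ n ∈ K ⊓ 𝐍(E), ∀ x ∈ P, ∃ a ∈ E, ∃ d,
      n * x * n⁻¹ = a * δ d) : Nice (im t K) (im t E) where
  le := fun x hx => by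
    obtain ⟨y, hy, m, rfl⟩ := mem_im.1 hx
    exact mem_im.2 ⟨y, EK hy, m, rfl⟩
  sq := fun x hx => by
    obtain ⟨y, hy, m, rfl⟩ := mem_im.1 hx
    rw [← pr_mul m m, pr_eq_one (mul_mem m m), SCA.mt h, ← h.ker _ (mul_mem hy hy), h.add y hy y hy]
    exact funext fun d => CharTwo.add_self_eq_zero _
  card := by
    have := card_pre (im t E)
    rw [pre_im h (EC' h) h.tE, h.card, ot h] at this
    omega
  fix := fun P hP p => by
    classical
    obtain ⟨k, hk⟩ := p.exists_card_eq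
    obtain ⟨n, hn, hs⟩ := syl (pre t P) (fun x hx => by
      obtain ⟨m, hx⟩ := mem_pre.1 hx
      exact ⟨(pr_mem_im (EK h.tE) m).1 (hP hx).1, (pr_nm h m).1 (hP hx).2⟩)
      (IsPGroup.of_card (n := k + 1) (by rw [card_pre, ot h, hk, pow_succ']))
    let ψ : G → Multiplicative D3 := fun x =>
      .ofAdd (if e : ∃ d, ∃ a ∈ E, n * x * n⁻¹ = a * δ d then e.choose else 0)
    have hψ : ∀ {x a d}, a ∈ E → n * x * n⁻¹ = a * δ d → ψ x = .ofAdd d := fun {x a d} ha e => by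
      have e' : ∃ d, ∃ a ∈ E, n * x * n⁻¹ = a * δ d := ⟨d, a, ha, e⟩
      obtain ⟨a', ha', e''⟩ := e'.choose_spec
      simp only [ψ, dif_pos e']
      rw [uniq h ha' ha (e''.symm.trans e)]
    have hH : H87.Mc.IsH (pre t P) ψ := fun x hx y hy => by
      obtain ⟨a, ha, c, e⟩ := hs x hx
      obtain ⟨b, hb, d, e'⟩ := hs y hy
      rw [hψ ha e, hψ hb e', hψ (mul_mem ha (h.δE c b hb)) (d := c + d) (by
        rw [← conj_mul, e, e', h.δm]; group), ofAdd_add]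
    refine ⟨Nat.card hH.im, hH.im.index, by rw [card_mul_index]; simp, ?_, ?_⟩
    · have := hH.card_eq' (A := hH.im) (K := pre t (P ⊓ im t E)) (fun _ => hH.mem_im) fun g => by
        rw [mem_pre, mem_pre, mem_inf]
        refine ⟨fun ⟨a, b, c⟩ => ⟨⟨a, b⟩, hψ (d := 0) (conj_mem hn.2 ((pr_mem_im h.tE a).1 c))
          (by rw [δ0 h, mul_one])⟩, fun ⟨⟨a, b⟩, c⟩ => ⟨a, b, (pr_mem_im h.tE a).2 ?_⟩⟩
        obtain ⟨e, he, d, e'⟩ := hs g (mem_pre.2 ⟨a, b⟩)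
        rw [hψ he e'] at c
        rw [show d = 0 from c, δ0 h, mul_one] at e'
        exact (mem_normalizer_iff.1 hn.2 g).2 (e' ▸ he)
      rw [card_pre, card_pre, ot h] at this
      linarith
    · have CE : pre t (im t E ⊓ 𝐂(P)) ≤ E := fun x hx =>
        (pr_mem_im h.tE (mem_pre.1 hx).1).1 (mem_pre.1 hx).2.1
      have hC : H87.Mc.IsH (pre t (im t E ⊓ 𝐂(P))) fun e => Multiplicative.ofAdd (φ (n * e * n⁻¹)) :=
        fun a ha b hb => by
          beta_reduce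
          rw [← conj_mul, h.add _ (conj_mem hn.2 (CE ha)) _ (conj_mem hn.2 (CE hb)), ofAdd_add]
      have nt : n * t * n⁻¹ = t := by rw [hK n hn.1, mul_inv_cancel_right]
      have c1 := hC.card_eq' (A := hC.im) (K := zpowers t) (fun _ => hC.mem_im) fun g => by
        refine ⟨fun e => ?_, fun ⟨a, b⟩ => ?_⟩
        · have m : g ∈ Ce t := zpowers_le.2 (mem_Ce.2 rfl) e
          have m' : g ∈ pre t (im t E ⊓ 𝐂(P)) := mem_pre.2 ⟨m, (pr_eq_one m).2 e ▸ one_mem _⟩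
          refine ⟨m', (h.ker _ (conj_mem hn.2 (CE m'))).2 ?_⟩
          rcases (SCA.mt h).1 e with rfl | rfl
          exacts [Or.inl (by simp), Or.inr nt]
        · rcases (h.ker _ (conj_mem hn.2 (CE a))).1 b with e | e
          · exact conj_eq_one_iff.1 e ▸ one_mem _
          · exact conj_injective (e.trans nt.symm) ▸ mem_zpowers _
      have c2 := cnt hH.im hC.im fun v hv d hd x => by
        obtain ⟨e, he, rfl⟩ := hC.mem_im.1 hv
        obtain ⟨y, hy, rfl⟩ := hH.mem_im.1 hd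
        obtain ⟨a, ha, d, e'⟩ := hs y hy
        have eE := conj_mem hn.2 (CE he)
        rw [hψ ha e', toAdd_ofAdd, toAdd_ofAdd, ← congrFun (φδ h ha eE d) x, ← e']
        obtain ⟨y1, y2⟩ := mem_pre.1 hy
        obtain ⟨e1, e2⟩ := mem_pre.1 he
        have c : H20.L43.pr t y * H20.L43.pr t e = H20.L43.pr t e * H20.L43.pr t y := e2.2 _ y2
        rw [← mul_inv_eq_iff_eq_mul, pr_conj y1 e1, eq_comm,
          pr_eq_iff e1 (mul_mem (mul_mem y1 e1) (inv_mem y1)), SCA.mt h] at c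
        have e3 : n * y * n⁻¹ * (n * e * n⁻¹) * (n * y * n⁻¹)⁻¹ =
            n * e * n⁻¹ * (n * (e⁻¹ * (y * e * y⁻¹)) * n⁻¹) := by group
        rw [e3]
        rcases c with c | c <;> rw [c]
        · simp
        · rw [nt, h.add _ eE _ h.tE, (h.ker t h.tE).2 (Or.inr rfl), add_zero]
      rw [card_pre, Nat.card_zpowers] at c1
      rw [ot h] at c1
      omega

end SCA

theorem EC.wk (h : EC t E φ δ) (hK : ∀ g ∈ K, g * t = t * g) (EK : E ≤ K)
    (syl : ∀ P ≤ K ⊓ 𝐍(E), IsPGroup 2 P → ∃ n ∈ K ⊓ 𝐍(E), ∀ x ∈ P, ∃ a ∈ E, ∃ d,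
      n * x * n⁻¹ = a * δ d) (g : G) (hg : g ∈ K) (e : ∀ a ∈ E, g * a * g⁻¹ ∈ 𝐍(E)) : g ∈ 𝐍(E) := by
  have m := mem_Ce.2 (hK g hg)
  refine (pr_nm h m).1 ((nice h hK EK syl).wk _ ((pr_mem_im (EK h.tE) m).2 hg) fun a ha => ?_)
  obtain ⟨b, hb, m', rfl⟩ := mem_im.1 ha
  rw [pr_conj m m', pr_nm h (mul_mem (mul_mem m m') (inv_mem m))]
  exact e b hb

theorem EC.sc (h : EC t E φ δ) (hK : ∀ g ∈ K, g * t = t * g) (EK : E ≤ K)
    (syl : ∀ P ≤ K ⊓ 𝐍(E), IsPGroup 2 P → ∃ n ∈ K ⊓ 𝐍(E), ∀ x ∈ P, ∃ a ∈ E, ∃ d,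
      n * x * n⁻¹ = a * δ d) (g : G) (hg : g ∈ K) (a : G) (ha : a ∈ K ⊓ 𝐍(E))
    (e : g * a * g⁻¹ ∈ E) : a ∈ E := by
  have m := mem_Ce.2 (hK g hg)
  have m' := mem_Ce.2 (hK a ha.1)
  refine (pr_mem_im h.tE m').1 ((nice h hK EK syl).sc _ ((pr_mem_im (EK h.tE) m).2 hg) _
    ⟨(pr_mem_im (EK h.tE) m').2 ha.1, (pr_nm h m').2 ha.2⟩ ?_)
  rwa [pr_conj m m', pr_mem_im h.tE (mul_mem (mul_mem m m') (inv_mem m))]

end H12.O83
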