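import Cfsg.Agent.Lib.O83.T3
import Cfsg.Agent.Lib.O83.SCa
import Cfsg.Agent.S3345
import Cfsg.Agent.Lib.Comp.FStar

/-! Identification of the subgroup of index three (package FB). -/

set_option autoImplicit false
set_option linter.unusedSectionVars false

namespace H12.O83

open Subgroup H20.L43 H69

namespace Fb

abbrev S3 := Equiv.Perm (Fin 3)

/-- the translation part of a permutation of three letters -/
def pa (σ : S3) : ZMod 3 := ((σ 0).val : ZMod 3)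
/-- the sign -/
def pb (σ : S3) : ZMod 2 := if (((σ 1).val : ZMod 3) - ((σ 0).val : ZMod 3)) = 1 then 0 else 1
def cmb (u : X3) : V4 := u.1 • v1 + u.2.1 • v2 + u.2.2 • v3
def xx (γ : S3 × S3 × S3) : X3 := (pa γ.1, pa γ.2.1, pa γ.2.2)
def dd (γ : S3 × S3 × S3) : D3 := (pb γ.1, pb γ.2.1, pb γ.2.2)

theorem pa_mul : ∀ σ τ : S3, pa (σ * τ) = pa σ + (-1) ^ (pb σ).val * pa τ := by decide
theorem pb_mul : ∀ σ τ : S3, pb (σ * τ) = pb σ + pb τ := by decide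
theorem p_inj : ∀ σ : S3, pa σ = 0 → pb σ = 0 → σ = 1 := by decide
theorem p_surj : ∀ a b, ∃ σ : S3, pa σ = a ∧ pb σ = b := by decide
theorem com3 : ∀ σ τ : S3, (σ * τ * σ⁻¹ * τ⁻¹) ^ 3 = 1 := by decide +kernel
theorem cen3 : ∀ σ : S3, (∀ τ, σ * τ * σ⁻¹ * τ⁻¹ = 1) → σ = 1 := by decide
theorem cmb_add : ∀ u v : X3, cmb (u + v) = cmb u + cmb v := by decide +kernel
theorem cmb_dm : ∀ (d : D3) (u : X3), mv (dm d) (cmb u) = cmb (sn d u) := by decide +kernel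
theorem cmb_inj : ∀ u : X3, cmb u = 0 → u = 0 := by decide +kernel
theorem cmb_T : ∀ u : X3, mv mT (cmb u) = cmb u := by decide +kernel
theorem cmb_surj : ∀ x : V4, mv mT x = x → ∃ u, cmb u = x := by decide +kernel
theorem dm_inj : ∀ d : D3, dm d = 1 → d = 0 := by decide +kernel
theorem dm_T : ∀ d : D3, dm d * mT = mT * dm d := by decide +kernel
theorem dm_rt : ∀ d : D3, rt (dm d) = 0 := by decide +kernel
theorem dm_zero : dm 0 = 1 := by decide +kernel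
set_option synthInstance.maxSize 2000 in
set_option synthInstance.maxHeartbeats 400000 in
theorem faithful : ∀ x : V4, mv mT x = x → ∀ d : D3,
    (∀ c y : D3, a3 x (fun y => if y + d = c then 1 else 0) y = if y = c then 1 else 0) → x = 0 ∧ d = 0 := by
  decide +kernel

variable {G : Type*} [Group G] [Finite G] {l : Bool} {f : V4 → G} {s : M4 → G} {i : G}

/-- the complement `J₀ D` -/
def ψ (h : St l f s i) : S3 × S3 × S3 →* G :=
  MonoidHom.mk' (fun γ => f (cmb (xx γ)) * s (dm (dd γ))) fun a b => by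
    rw [h.fs_mul (W_dm _) (W_dm _), cmb_dm, ← cmb_add, ← dm_add]
    simp only [xx, dd, sn, Prod.fst_mul, Prod.snd_mul, pa_mul, pb_mul, Prod.mk_add_mk]

theorem ψ_apply (h : St l f s i) (γ : S3 × S3 × S3) : ψ h γ = f (cmb (xx γ)) * s (dm (dd γ)) := rfl

theorem ψ_inj (h : St l f s i) {γ : S3 × S3 × S3} (e : ψ h γ = 1) : γ = 1 := by
  obtain ⟨a, b⟩ := h.uniq (W_dm _) W.one (y := 0) (e.trans (by rw [h.f0, h.s1, one_mul]))
  have a' := cmb_inj _ a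
  have b' := dm_inj _ b
  simp only [xx, dd, Prod.ext_iff, Prod.fst_zero, Prod.snd_zero] at a' b'
  exact Prod.ext (p_inj _ a'.1 b'.1) (Prod.ext (p_inj _ a'.2.1 b'.2.1) (p_inj _ a'.2.2 b'.2.2))

theorem ψ_surj (h : St l f s i) {x : V4} (hx : mv mT x = x) (d : D3) : ∃ γ, ψ h γ = f x * s (dm d) := by
  obtain ⟨u, rfl⟩ := cmb_surj x hx
  obtain ⟨a, a1, a2⟩ := p_surj u.1 d.1
  obtain ⟨b, b1, b2⟩ := p_surj u.2.1 d.2.1
  obtain ⟨c, c1, c2⟩ := p_surj u.2.2 d.2.2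
  exact ⟨(a, b, c), by simp only [ψ_apply, xx, dd, a1, a2, b1, b2, c1, c2]⟩

theorem ψ_t (h : St l f s i) (γ : S3 × S3 × S3) : ψ h γ * s mT = s mT * ψ h γ :=
  (h.com_s (W_dm _) W_mT).2 ⟨cmb_T _, dm_T _⟩

theorem ψ_N (h : St l f s i) (γ : S3 × S3 × S3) : ψ h γ ∈ NJ f := mul_mem (h.fN _) (h.sN (W_dm _))

/-- an injective image of `S₃³` meets a normal 2-subgroup trivially -/
theorem triv {X : Type*} [Group X] (Ψ : S3 × S3 × S3 →* X) (hi : ∀ γ, Ψ γ = 1 → γ = 1) {N : Subgroup X}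
    [hN : N.Normal] (h2 : IsPGroup 2 N) {γ : S3 × S3 × S3} (hγ : Ψ γ ∈ N) : γ = 1 := by
  have k : ∀ δ, γ * δ * γ⁻¹ * δ⁻¹ = 1 := fun δ => hi _ (by
    have m : Ψ (γ * δ * γ⁻¹ * δ⁻¹) ∈ N := by
      have := mul_mem hγ (hN.conj_mem _ (inv_mem hγ) (Ψ δ))
      simpa only [map_mul, map_inv, mul_assoc] using this
    obtain ⟨n, hn⟩ := h2 ⟨_, m⟩
    have h3 : Ψ (γ * δ * γ⁻¹ * δ⁻¹) ^ 3 = 1 := by
      rw [← map_pow, show (γ * δ * γ⁻¹ * δ⁻¹) ^ 3 = 1 from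
        Prod.ext (com3 _ _) (Prod.ext (com3 _ _) (com3 _ _)), map_one]
    exact orderOf_eq_one_iff.1 (Nat.eq_one_of_dvd_coprimes (Nat.Coprime.pow_left n (by norm_num))
      (orderOf_dvd_of_pow_eq_one (congrArg Subtype.val hn)) (orderOf_dvd_of_pow_eq_one h3)))
  exact Prod.ext (cen3 _ fun τ => congrArg Prod.fst (k (τ, 1, 1)))
    (Prod.ext (cen3 _ fun τ => congrArg (fun x => x.2.1) (k (1, τ, 1)))
      (cen3 _ fun τ => congrArg (fun x => x.2.2) (k (1, 1, τ))))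

theorem φ_conj {t : G} {E : Subgroup G} {φ : G → D3 → ZMod 2} {δ : D3 → G} (e : EC t E φ δ) {a b : G}
    (ha : a ∈ E) (hb : b ∈ E) : φ (a * b * a⁻¹) = φ b := by
  have := e.add _ (mul_mem (mul_mem ha hb) (inv_mem ha)) _ ha
  rw [inv_mul_cancel_right, e.add _ ha _ hb, add_comm] at this
  exact (add_right_cancel this).symm

end Fb

variable {G : Type*} [Group G] [Finite G] {l : Bool} {f : V4 → G} {s : M4 → G} {i : G}

variable {φ : G → D3 → ZMod 2}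

open Fb in
theorem St.fin (h : St false f s i) (e : EE false f s i φ) {H : Subgroup G} (hH : G0 f s H)
    (k0 : ∀ g ∈ H, g * s mT = s mT * g →
      ∃ a ∈ Eg f s i, ∃ x d, mv mT x = x ∧ g = a * f x * s (dm d)) :
    Nonempty (H ≃* Cfsg.Omega (ZMod 2) (Cfsg.quadFormPlus 4 (ZMod 2))) := by
  have := hH.nm
  haveI : Fact (Nat.Prime 2) := ⟨Nat.prime_two⟩
  have k1 : ∀ g ∈ H, g * s mT = s mT * g → ∃ a ∈ Eg f s i, ∃ γ, g = a * ψ h γ := fun g hg c => by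
    obtain ⟨a, ha, x, d, hx, rfl⟩ := k0 g hg c
    obtain ⟨γ, hγ⟩ := ψ_surj h hx d
    exact ⟨a, ha, γ, by rw [hγ, mul_assoc]⟩
  have EH : Eg f s i ≤ H := fun a ha => by
    have h3 := H.pow_index_mem a
    rw [hH.ind] at h3
    have := pow_mem h3 3
    rwa [← pow_mul, show 3 * 3 = 4 * 2 + 1 from rfl, pow_succ, pow_mul, e.es.pow_four ha, one_pow, one_mul] at this
  have ψH : ∀ γ, ψ h γ ∈ H := fun γ => mul_mem (hH.fH _) ((hH.sH _ (W_dm _)).2 (dm_rt _))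
  set t : H := ⟨s mT, EH e.tE⟩ with ht
  set C := centralizer ({t} : Set H) with hC
  have mC : ∀ {g : H}, g ∈ C ↔ (g : G) * s mT = s mT * g := fun {g} => by
    rw [hC, mem_centralizer_singleton_iff, Subtype.ext_iff]; rfl
  have EC' : (Eg f s i).subgroupOf H ≤ C := fun a ha => mC.2 (e.tc _ ha)
  set E := ((Eg f s i).subgroupOf H).subgroupOf C with hE
  have es : H95.ES E ⟨t, EC' (e.es.subgroupOf EH).mem⟩ := (e.es.subgroupOf EH).subgroupOf EC'
  have En : E.Normal := ⟨fun b hb g => by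
    obtain ⟨a, ha, γ, eg⟩ := k1 _ g.1.2 (mC.1 g.2)
    change ((g : H) : G) * b * ((g : H) : G)⁻¹ ∈ Eg f s i
    rw [eg, show a * ψ h γ * b * (a * ψ h γ)⁻¹ = a * (ψ h γ * b * (ψ h γ)⁻¹) * a⁻¹ by group]
    exact mul_mem (mul_mem ha (e.nE _ (ψ_N h γ) (ψ_t h γ) _ hb)) (inv_mem ha)⟩
  have EO : E ≤ Cfsg.pCore 2 C := H1.le_pCore es.isPGroup
  let Ψ : S3 × S3 × S3 →* C := ((ψ h).codRestrict H ψH).codRestrict C fun γ => mC.2 (ψ_t h γ)
  have Ψ1 : ∀ {γ}, Ψ γ ∈ Cfsg.pCore 2 C → γ = 1 := fun hγ =>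
    triv Ψ (fun γ e => ψ_inj h (congrArg (fun x : C => ((x : H) : G)) e)) H1.isPGroup_pCore hγ
  have k2 : ∀ g : C, ∃ a ∈ E, ∃ γ, g = a * Ψ γ := fun g => by
    obtain ⟨a, ha, γ, eg⟩ := k1 _ g.1.2 (mC.1 g.2)
    exact ⟨⟨⟨a, EH ha⟩, EC' ha⟩, ha, γ, Subtype.ext (Subtype.ext eg)⟩
  have OE : Cfsg.pCore 2 C = E := le_antisymm (fun g hg => by
    obtain ⟨a, ha, γ, rfl⟩ := k2 g
    rw [Ψ1 ((mul_mem_cancel_left (EO ha)).1 hg), map_one, mul_one]
    exact ha) EO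
  have cen : ∀ g ∈ H, (∀ b ∈ Eg f s i, b * g = g * b) → g ∈ Eg f s i := fun g hg c => by
    obtain ⟨a, ha, x, d, hx, rfl⟩ := k0 g hg (c _ e.tE).symm
    obtain ⟨rfl, rfl⟩ := faithful x hx d fun c' y => by
      obtain ⟨b, hb, eb⟩ := e.surj fun y => if y = c' then 1 else 0
      have m1 := e.δE d b hb
      have m2 := e.nE _ (h.fN x) (h.sfc W_mT hx).symm _ m1
      have e1 := φ_conj e.toEC ha m2
      rw [e.aJ x hx _ m1, e.δφ d b hb, show a * (f x * (s (dm d) * b * (s (dm d))⁻¹) * (f x)⁻¹) * a⁻¹ =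
        a * f x * s (dm d) * b * (a * f x * s (dm d))⁻¹ by group, ← c b hb, mul_inv_cancel_right, eb] at e1
      exact (congrFun e1 y).symm
    rwa [h.f0, dm_zero, h.s1, mul_one, mul_one]
  have FO : Cfsg.generalizedFittingSubgroup C = E := by
    rw [← OE, H23.fStar_eq_pCore_iff, OE]
    intro g hg
    exact cen _ g.1.2 fun b hb => congrArg (fun x : C => ((x : H) : G)) (hg ⟨⟨b, EH hb⟩, EC' hb⟩ hb)
  refine (Cfsg.Agent.S3345.result (h.res2 hH) t (H95.orderOf_eq_two_of (Subtype.ext h.t2)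
    fun e => h.t1 (congrArg Subtype.val e)) C hC (FO ▸ es.isExtraspecial) ?_
    (MulEquiv.ofBijective ((QuotientGroup.mk' _).comp Ψ) ⟨(injective_iff_map_eq_one _).2 fun γ hγ =>
      Ψ1 ((QuotientGroup.eq_one_iff _).1 hγ), fun g => ?_⟩).symm ?_).resolve_left fun hc => ?_
  · rw [FO, hE, Nat.card_congr (subgroupOfEquivOfLe EC').toEquiv, Nat.card_congr (subgroupOfEquivOfLe EH).toEquiv,
      e.toEC.card]
  · obtain ⟨g, rfl⟩ := QuotientGroup.mk_surjective g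
    obtain ⟨a, ha, γ, rfl⟩ := k2 g
    refine ⟨γ, ?_⟩
    rw [QuotientGroup.mk_mul, (QuotientGroup.eq_one_iff a).2 (EO ha), one_mul]
    rfl
  · rw [OE, hE, map_subgroupOf_eq_of_le EC']
    intro g hg
    exact cen _ g.2 fun b hb => congrArg Subtype.val (hg ⟨b, EH hb⟩ hb)
  · have hM : W false (dg 1 (-1) 1 (-1)) := by decide
    have m := hc ⟨_, (hH.sH _ hM).2 (by decide)⟩
    have e1 : s (dg 1 (-1) 1 (-1)) * s mT * (s (dg 1 (-1) 1 (-1)))⁻¹ * (s mT)⁻¹ = s (p1 * mT) := by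
      rw [h.scj hM W_mT, inv_eq_of_mul_eq_one_right h.t2, h.mul _ _ W_p1 W_mT]
      congr 2
    have o := H95.orderOf_eq_two_of (z := ⟨_, (hH.sH _ hM).2 (by decide)⟩ * t * ⟨_, (hH.sH _ hM).2 (by decide)⟩⁻¹ * t⁻¹)
      (Subtype.ext (by
        change _ * _ * _ * _ * (_ * _ * _ * _) = (1 : G)
        exact (congrArg₂ (· * ·) e1 e1).trans (h.ssq (W_p1.mul W_mT) (by decide))))
      fun e2 => absurd (h.sinj (W_p1.mul W_mT) W.one ((e1.symm.trans (congrArg Subtype.val e2)).trans h.s1.symm))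
        (by decide)
    have := (Cfsg.oddCore H).orderOf_dvd_natCard m
    rw [o] at this
    exact (Nat.not_even_iff_odd.2 H1.odd_card_oddCore) (even_iff_two_dvd.2 this)

end H12.O83
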