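import Cfsg.Agent.Lib.O83.Bas
import Cfsg.Agent.Lib.U63.G9
import Cfsg.Agent.Lib.Odd.Fpf3

/-! Sections with Sylow 3-subgroups of order nine (package GEN). -/

set_option autoImplicit false
set_option linter.unusedSectionVars false

namespace H12.O83

open Subgroup H20.L43 H69 H87.U6

variable {G : Type*} [Group G] [Finite G]

theorem Gen.cen0 {K : Subgroup G} {w y : G} (w3 : w ^ 3 = 1) (y3 : y ^ 3 = 1) (wy : w * y = y * w)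
    (nK : ∀ g, ∀ k ∈ K, g * k * g⁻¹ ∈ K) (fp : ∀ k ∈ K, w * k = k * w → k = 1) :
    (∀ k ∈ K, k = 1) ∨ ∃ k ∈ K, k ≠ 1 ∧ (∀ k' ∈ K, k * k' = k' * k) ∧ ∃ u : H53.Odd.V9, u ≠ 0 ∧
      H53.Odd.f9 w y u * k = k * H53.Odd.f9 w y u := by
  have m3 : ∀ u : Multiplicative H53.Odd.V9, u ^ 3 = 1 := by decide
  have := Fact.mk Nat.prime_three
  by_contra! hn
  obtain ⟨⟨k0, hk0, k1⟩, hn⟩ := hn
  have nil := H53.Odd.fpf_nilpotent Nat.prime_three w3 (nK w) fp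
  have : Nontrivial K := ⟨⟨⟨k0, hk0⟩, 1, fun e => k1 (congrArg Subtype.val e)⟩⟩
  obtain ⟨⟨z, hz⟩, z1⟩ := ne_bot_iff_exists_ne_one.1 (Group.IsNilpotent.center_ne_bot K)
  have zc : ∀ k' ∈ K, z.1 * k' = k' * z := fun k' hk' =>
    congrArg Subtype.val (mem_center_iff.1 hz ⟨k', hk'⟩).symm
  replace z1 : z.1 ≠ 1 := fun e => z1 (Subtype.ext (Subtype.ext e))
  have ah := H53.Odd.AH_f9 w3 y3 wy
  have inj := ah.inj fun u e => by_contra fun u0 => hn z z.2 z1 zc u u0 (by rw [e, one_mul, mul_one])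
  have c9 : Nat.card ah.hom.range = 9 := by
    rw [← Nat.card_congr (MonoidHom.ofInjective (f := ah.hom) inj).toEquiv]; simp
  have nZ : ∀ g, ∀ k ∈ K ⊓ 𝐂(K), g * k * g⁻¹ ∈ K ⊓ 𝐂(K) := fun g k hk => ⟨nK g k hk.1, fun x hx => by
    have := hk.2 _ (nK g⁻¹ x hx)
    calc x * (g * k * g⁻¹) = g * (g⁻¹ * x * g⁻¹⁻¹ * k) * g⁻¹ := by group
      _ = _ := by rw [this]; group⟩
  refine z1 (mem_bot.1 (H2.le_of_forall_centralizer_le (A := ah.hom.range) (K := K ⊓ 𝐂(K)) (M := ⊥)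
    ⟨⟨?_⟩⟩ (fun hh => ?_) (fun g _ => mem_normalizer_fintype (nZ g)) ?_ ?_ ⟨z.2, fun x hx => (zc x hx).symm⟩))
  · rintro ⟨_, u, rfl⟩ ⟨_, v, rfl⟩
    exact Subtype.ext (by rw [coe_mul, coe_mul, ← map_mul, ← map_mul, mul_comm])
  · obtain ⟨⟨_, u, rfl⟩, ha⟩ := IsCyclic.exists_ofOrder_eq_natCard (α := ah.hom.range)
    have h1 := Nat.le_of_dvd (by omega) (orderOf_dvd_of_pow_eq_one
      (show (⟨ah.hom u, u, rfl⟩ : ah.hom.range) ^ 3 = 1 from Subtype.ext (by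
        rw [coe_pow, ← map_pow, m3, map_one, coe_one])))
    omega
  · have := H53.Odd.fpf_card_mod w3 (nZ w) fun k hk => fp k hk.1
    rw [c9, show 9 = 3 ^ 2 from rfl]
    refine Nat.Coprime.pow_left _ ((Nat.Prime.coprime_iff_not_dvd Nat.prime_three).2 ?_)
    unfold Nat.ModEq at this
    omega
  · rintro _ ⟨u, rfl⟩ u1 k hk
    by_contra k1
    exact hn k hk.1.1 k1 (fun k' hk' => (hk.1.2 k' hk').symm) u.toAdd (fun e => u1 (by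
      rw [show u = 1 from e, map_one])) (mem_centralizer_singleton_iff.1 hk.2).symm

/-- COMM -/
theorem comm_cen {Y U : Subgroup G} {w y : G} (UY : U ≤ Y)
    (nU : ∀ k ∈ Y, ∀ u ∈ U, k * u * k⁻¹ ∈ U) (cop : ∃ n : ℕ, n.Coprime 3 ∧ Nat.card Y = n * Nat.card U)
    (w3 : w ^ 3 = 1) (y3 : y ^ 3 = 1) (wy : w * y = y * w)
    (wY : ∀ k ∈ Y, w * k * w⁻¹ ∈ Y) (yY : ∀ k ∈ Y, y * k * y⁻¹ ∈ Y)
    (wU : ∀ k ∈ U, w * k * w⁻¹ ∈ U) (yU : ∀ k ∈ U, y * k * y⁻¹ ∈ U)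
    (fp : ∀ k ∈ Y, w * k * w⁻¹ * k⁻¹ ∈ U → k ∈ U) :
    Y ≤ U ∨ ∃ k ∈ Y, k ∉ U ∧ (∀ k' ∈ Y, k * k' * k⁻¹ * k'⁻¹ ∈ U) ∧ ∃ u : H53.Odd.V9, u ≠ 0 ∧
      H53.Odd.f9 w y u * k * (H53.Odd.f9 w y u)⁻¹ * k⁻¹ ∈ U := by
  have cN : ∀ {g : G}, (∀ k ∈ Y, g * k * g⁻¹ ∈ Y) → (∀ k ∈ U, g * k * g⁻¹ ∈ U) → g ∈ 𝐍(Y) ⊓ 𝐍(U) :=
    fun a b => ⟨mem_normalizer_fintype a, mem_normalizer_fintype b⟩
  have YL : Y ≤ 𝐍(Y) ⊓ 𝐍(U) := fun k hk => cN (fun _ e => mul_mem (mul_mem hk e) (inv_mem hk)) (nU k hk)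
  have wL := cN wY wU
  have yL := cN yY yU
  obtain ⟨_, p⟩ := G9s.exists_pr (UY.trans YL) fun g hg u hu => (mem_normalizer_iff.1 hg.2 u).1 hu
  generalize QuotientGroup.mk' (U.subgroupOf (𝐍(Y) ⊓ 𝐍(U))) = π at p
  have nrm : ∀ g, ∀ k ∈ G9s.im π Y, g * k * g⁻¹ ∈ G9s.im π Y := by
    rintro g _ ⟨k, hk, rfl⟩
    obtain ⟨g, rfl⟩ := p.sj g
    exact ⟨g * k * g⁻¹, (mem_normalizer_iff.1 g.2.1 _).1 hk, by simp⟩
  have c3 : ∀ {a : G} (ha : a ∈ 𝐍(Y) ⊓ 𝐍(U)), a ^ 3 = 1 → π ⟨a, ha⟩ ^ 3 = 1 := fun {a} ha e => by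
    rw [← map_pow, show (⟨a, ha⟩ : ↥(𝐍(Y) ⊓ 𝐍(U))) ^ 3 = 1 from Subtype.ext e, map_one]
  refine (Gen.cen0 (c3 wL w3) (c3 yL y3) (by rw [← map_mul, ← map_mul]; exact congrArg π (Subtype.ext wy)) nrm
    ?_).imp (fun e k hk => (p.one ⟨k, YL hk⟩).1 (e _ ⟨_, hk, rfl⟩)) ?_
  · rintro _ ⟨k, hk, rfl⟩ e
    exact (p.one k).2 (fp k hk (p.comm.1 e))
  · rintro ⟨_, ⟨k, hk, rfl⟩, k1, kc, u, u0, e⟩
    refine ⟨k, hk, mt (p.one k).2 k1, fun k' hk' => (p.comm (b := ⟨k', YL hk'⟩)).1 (kc _ ⟨_, hk', rfl⟩), u, u0, ?_⟩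
    rw [H53.Odd.f9, ← map_pow, ← map_pow, ← map_mul] at e
    exact p.comm.1 e

/-- AVG -/
theorem avg {a b c : G} (hac : a * c = c * a) (h1 : b * c * b⁻¹ * c⁻¹ * a = a * (b * c * b⁻¹ * c⁻¹))
    (h2 : b * c * b⁻¹ * c⁻¹ * b = b * (b * c * b⁻¹ * c⁻¹)) :
    b * a * b⁻¹ * a⁻¹ * c = c * (b * a * b⁻¹ * a⁻¹) := by
  have e : b * c * b⁻¹ = b * c * b⁻¹ * c⁻¹ * c := by group
  generalize b * c * b⁻¹ * c⁻¹ = k at h1 h2 e
  have k1 : Commute k a := h1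
  have k2 : Commute k b := h2
  have e1 : b⁻¹ * c * b = k⁻¹ * c := by
    calc _ = b⁻¹ * k⁻¹ * (k * c) * b := by group
      _ = _ := by rw [← e, ← k2.inv_inv.eq]; group
  have e2 : b * a * b⁻¹ * c = c * (b * a * b⁻¹) := by
    calc _ = b * (a * (b⁻¹ * c * b)) * b⁻¹ := by group
      _ = b * (b⁻¹ * c * b * a) * b⁻¹ := by
        rw [e1, ((show Commute a c from hac).mul_right k1.symm.inv_right |> fun _ =>
          (k1.symm.inv_right.mul_right hac).eq)]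
      _ = _ := by group
  exact ((show Commute _ c from e2).mul_left (show Commute a c from hac).inv_left).eq

variable {f : V4 → G}

theorem mem_Lc {a g : G} {y0 y1 : V4} :
    g ∈ Lc f a y0 y1 ↔ g * a = a * g ∧ g * f y0 = f y0 * g ∧ g * f y1 = f y1 * g := by
  simp only [Lc, mem_centralizer_iff, Set.mem_insert_iff, Set.mem_singleton_iff, forall_eq_or_imp, forall_eq,
    eq_comm (b := g * _)]

theorem Uc_cen {a g u : G} {y0 y1 : V4} (hg : g ∈ Lc f a y0 y1) (hu : u ∈ Uc f a y0 y1) :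
    g * u = u * g :=   (mem_centralizer_singleton_iff.1 ((closure_le (centralizer {g})).2
    (fun x hx => mem_centralizer_singleton_iff.2 (hg x hx)) hu)).symm

theorem Gen.mem3 {Y U : Subgroup G} (UY : U ≤ Y) (nU : ∀ k ∈ Y, ∀ u ∈ U, k * u * k⁻¹ ∈ U)
    (cop : ∃ n : ℕ, n.Coprime 3 ∧ Nat.card Y = n * Nat.card U) {a : G} (ha : a ∈ Y) (a3 : a ^ 3 = 1) : a ∈ U := by
  obtain ⟨n, c, e⟩ := cop
  have : (U.subgroupOf Y).Normal := ⟨fun u hu g => nU g g.2 u hu⟩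
  have e1 := card_mul_index (U.subgroupOf Y)
  rw [H1.card_subgroupOf_of_le UY, e, mul_comm n] at e1
  have e2 : a ^ n ∈ U := Nat.eq_of_mul_eq_mul_left Nat.card_pos e1 ▸ (U.subgroupOf Y).pow_index_mem ⟨a, ha⟩
  obtain ⟨m, -, hm⟩ := Nat.exists_mul_mod_eq_one_of_coprime c (by norm_num)
  have := pow_mem e2 m
  rwa [← pow_mul, pow_eq_pow_mod _ a3, hm, pow_one] at this

theorem Gen.cw {a b : G} {c : ZMod 3} (c0 : c ≠ 0) (b3 : b ^ 3 = 1) (e : a * b ^ c.val = b ^ c.val * a) :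
    a * b = b * a := by
  have := (show Commute a _ from e).pow_right c.val
  rw [← pow_mul, pow_eq_pow_mod _ b3, (by decide : ∀ c : ZMod 3, c ≠ 0 → c.val * c.val % 3 = 1) c c0, pow_one] at this
  exact this

open Gen

namespace St
variable {l : Bool} {s : M4 → G} {i : G} (h : St l f s i) {Θ : M4} {y0 y1 w y : V4}
  (c : Sec l Θ y0 y1 w y)
include h c

theorem gen_fixU (a b : ZMod 3) : mv Θ (a • y0 + b • y1) = a • y0 + b • y1 := by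
  rw [mv_add, mv_smul, mv_smul, c.f0, c.f1]

theorem gen_fixW (a b : ZMod 3) : mv Θ (a • w + b • y) = a • w + b • y := by
  rw [mv_add, mv_smul, mv_smul, c.fw, c.fy]

theorem gen_fU (a b : ZMod 3) : f (a • y0 + b • y1) ∈ Uc f (s Θ) y0 y1 := by
  rw [h.add, h.fsmul, h.fsmul]
  refine mul_mem (pow_mem ?_ _) (pow_mem ?_ _) <;> exact Subgroup.subset_closure (by simp)

theorem gen_fL {x : V4} (hx : mv Θ x = x) : f x ∈ Lc f (s Θ) y0 y1 :=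
  mem_Lc.2 ⟨(h.sfc c.hW hx).symm, h.fcomm _ _, h.fcomm _ _⟩

theorem gen_sL {M : M4} (hM : W l M) (e : M * Θ = Θ * M) (e0 : mv M y0 = y0) (e1 : mv M y1 = y1) :
    s M ∈ Lc f (s Θ) y0 y1 := mem_Lc.2 ⟨h.scomm hM c.hW e, h.sfc hM e0, h.sfc hM e1⟩

theorem gen_f9f (u : H53.Odd.V9) : H53.Odd.f9 (f w) (f y) u = f (u.1 • w + u.2 • y) := by
  rw [h.add, h.fsmul, h.fsmul, H53.Odd.f9]

theorem mem_Uc {u : G} : u ∈ Uc f (s Θ) y0 y1 ↔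
    ∃ a b : ZMod 3, u = f (a • y0 + b • y1) ∨ u = f (a • y0 + b • y1) * s Θ := by
  have t2 := h.ssq c.hW c.sq
  have fx : ∀ a b : ZMod 3, s Θ * f (a • y0 + b • y1) = f (a • y0 + b • y1) * s Θ := fun a b =>
    h.sfc c.hW (h.gen_fixU c a b)
  have ad : ∀ a b a' b' : ZMod 3, f (a • y0 + b • y1) * f (a' • y0 + b' • y1) = f ((a + a') • y0 + (b + b') • y1) :=
    fun a b a' b' => by rw [← h.add]; congr 1; module
  refine ⟨fun hu => ?_, ?_⟩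
  · induction hu using closure_induction with
    | mem x hx =>
      rcases hx with rfl | rfl | rfl
      exacts [⟨0, 0, Or.inr (by simp [h.f0])⟩, ⟨1, 0, Or.inl (by simp)⟩, ⟨0, 1, Or.inl (by simp)⟩]
    | one => exact ⟨0, 0, Or.inl (by simp [h.f0])⟩
    | mul x y _ _ hx hy =>
      obtain ⟨a, b, rfl | rfl⟩ := hx <;> obtain ⟨a', b', rfl | rfl⟩ := hy <;> refine ⟨a + a', b + b', ?_⟩ <;> rw [← ad]
      · exact Or.inl rfl
      · exact Or.inr (mul_assoc _ _ _).symm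
      · exact Or.inr (by rw [mul_assoc, fx, mul_assoc])
      · exact Or.inl (by rw [mul_assoc, ← mul_assoc (s Θ), fx, mul_assoc, t2, mul_one])
    | inv x _ hx =>
      have e : ∀ a b : ZMod 3, (f (a • y0 + b • y1))⁻¹ = f ((-a) • y0 + (-b) • y1) := fun a b => by
        rw [← h.fneg]; congr 1; module
      obtain ⟨a, b, rfl | rfl⟩ := hx
      · exact ⟨-a, -b, Or.inl (e a b)⟩
      · exact ⟨-a, -b, Or.inr (by rw [mul_inv_rev, e, inv_eq_of_mul_eq_one_right t2, fx])⟩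
  · rintro ⟨a, b, rfl | rfl⟩
    exacts [h.gen_fU c a b, mul_mem (h.gen_fU c a b) (Subgroup.subset_closure (Or.inl rfl))]

theorem gen_UL : Uc f (s Θ) y0 y1 ≤ Lc f (s Θ) y0 y1 := (closure_le _).2 (by
  rintro _ (rfl | rfl | rfl)
  exacts [h.gen_sL c c.hW rfl c.f0 c.f1, h.gen_fL c c.f0, h.gen_fL c c.f1])

theorem gen_UN : Uc f (s Θ) y0 y1 ≤ NJ f := (closure_le _).2 (by
  rintro _ (rfl | rfl | rfl)
  exacts [h.sN c.hW, h.fN _, h.fN _])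

theorem gen_U3 {u : G} (hu : u ∈ Uc f (s Θ) y0 y1) (u3 : u ^ 3 = 1) : ∃ a b : ZMod 3, u = f (a • y0 + b • y1) := by
  obtain ⟨a, b, rfl | rfl⟩ := (h.mem_Uc c).1 hu
  · exact ⟨a, b, rfl⟩
  · rw [(show Commute _ _ from (h.sfc c.hW (h.gen_fixU c a b)).symm).mul_pow, h.f3, one_mul, pow_three',
      h.ssq c.hW c.sq, one_mul] at u3
    exact ⟨a, b, by rw [u3, mul_one]⟩

/-- an element of order three in `A U` -/
theorem gen_AU3 {g : G} {x : V4} (hx : mv Θ x = x) (e : (f x)⁻¹ * g ∈ Uc f (s Θ) y0 y1) (g3 : g ^ 3 = 1) :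
    ∃ a b : ZMod 3, g = f (x + (a • y0 + b • y1)) := by
  have k : Commute (f x) ((f x)⁻¹ * g) := Uc_cen (h.gen_fL c hx) e
  have := k.mul_pow 3
  rw [mul_inv_cancel_left, g3, h.f3, one_mul] at this
  obtain ⟨a, b, e⟩ := h.gen_U3 c e this.symm
  exact ⟨a, b, by rw [h.add, ← e, mul_inv_cancel_left]⟩

theorem gen_hN {g : G} (hg : g ∈ Lc f (s Θ) y0 y1)
    (e : ∀ a ∈ Ac f Θ, ∃ b ∈ Ac f Θ, b⁻¹ * (g * a * g⁻¹) ∈ Uc f (s Θ) y0 y1) : g ∈ NJ f := by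
  obtain ⟨p, x, hp, hx, go⟩ := c.big
  refine h.NA (A := {x | mv Θ x = x}) (fun k hk => h.cz go (hk p hp) (hk x hx)) fun v hv => ?_
  obtain ⟨b, hb, e⟩ := e _ (h.mem_Ac.2 ⟨v, hv, rfl⟩)
  obtain ⟨z, hz, rfl⟩ := h.mem_Ac.1 hb
  obtain ⟨a, b, e⟩ := h.gen_AU3 c hz e (by rw [conj_pow, h.f3]; simp)
  exact ⟨_, e⟩

theorem gen_decL {g : G} (hg : g ∈ Lc f (s Θ) y0 y1) (hn : g ∈ NJ f) : ∃ x M, W l M ∧ g = f x * s M ∧
    mv Θ x = x ∧ M * Θ = Θ * M ∧ mv M y0 = y0 ∧ mv M y1 = y1 := by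
  obtain ⟨x, M, hM, rfl⟩ := h.dec g hn
  obtain ⟨e1, e2, e3⟩ := mem_Lc.1 hg
  have := (h.com_s hM c.hW).1 e1
  exact ⟨x, M, hM, rfl, this.1, this.2, (h.com_f hM).1 e2, (h.com_f hM).1 e3⟩

theorem g9 {H : Subgroup G} (hH : NJ f ≤ H) :
    G9 (Lc f (s Θ) y0 y1) (Uc f (s Θ) y0 y1) (Ac f Θ) H (f w) (f y) :=
  { UL := h.gen_UL c
    nU := fun g hg u hu => by rwa [Uc_cen hg hu, mul_inv_cancel_right]
    le := fun a ha => by obtain ⟨x, hx, rfl⟩ := h.mem_Ac.1 ha; exact h.gen_fL c hx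
    comm := fun a ha b hb => by
      obtain ⟨x, -, rfl⟩ := h.mem_Ac.1 ha
      obtain ⟨y, -, rfl⟩ := h.mem_Ac.1 hb
      exact h.fcomm x y
    cube := fun a ha => by obtain ⟨x, -, rfl⟩ := h.mem_Ac.1 ha; exact h.f3 x
    syl := fun g hg n ⟨k, e⟩ => by
      obtain ⟨x, M, hM, rfl, hx, e0, e1, e2⟩ := h.gen_decL c hg (h.gen_hN c hg fun a ha => ⟨_, n a ha, by
        rw [inv_mul_cancel]; exact one_mem _⟩)
      obtain ⟨z, hz⟩ := h.fs_pow hM x (3 ^ k)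
      have e3 := (h.uniq (hM.pow _) W.one (y := 0) (by rw [← hz, e, h.f0, h.s1, mul_one])).2
      have e4 := pow_gcd_eq_one.2 ⟨(c.two M hM e0 e1 e2).1, e3⟩
      rw [(Nat.Coprime.pow_right k (by norm_num) : Nat.gcd 4 (3 ^ k) = 1), pow_one] at e4
      rw [e4, h.s1, mul_one]
      exact h.mem_Ac.2 ⟨x, hx, rfl⟩
    hw := h.mem_Ac.2 ⟨w, c.fw, rfl⟩
    hy := h.mem_Ac.2 ⟨y, c.fy, rfl⟩
    dec := fun a ha => by
      obtain ⟨x, hx, rfl⟩ := h.mem_Ac.1 ha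
      obtain ⟨a, b, d, e, rfl⟩ := c.dec x hx
      exact ⟨(a, b), by rw [h.gen_f9f c, h.add (_ + _), inv_mul_cancel_left]; exact h.gen_fU c d e⟩
    inj := fun u hu => by
      rw [h.gen_f9f c] at hu
      obtain ⟨a, b, e⟩ := h.gen_U3 c hu (h.f3 _)
      exact Prod.ext_iff.2 (c.inj _ _ _ _ (h.finj e))
    UH := (h.gen_UN c).trans hH
    AH := fun a ha => by obtain ⟨x, -, rfl⟩ := h.mem_Ac.1 ha; exact hH (h.fN x)
    hN := fun g hg e => hH (h.gen_hN c hg e) }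

theorem cmod {g : G} (hg : g ∈ Lc f (s Θ) y0 y1) {x : V4} (hx : mv Θ x = x)
    (e : g * f x * g⁻¹ * (f x)⁻¹ ∈ Uc f (s Θ) y0 y1) : g * f x = f x * g := by
  obtain ⟨-, g0, g1⟩ := mem_Lc.1 hg
  have e' : (f x)⁻¹ * (g * f x * g⁻¹) ∈ Uc f (s Θ) y0 y1 := by
    have := (h.g9 c le_rfl).nU _ (inv_mem (h.gen_fL c hx)) _ e
    simpa [mul_assoc] using this
  obtain ⟨a, b, e⟩ := h.gen_AU3 c hx e' (by rw [conj_pow, h.f3]; simp)
  obtain ⟨M, hM, k⟩ := h.fusW (g := g) (A := {x, y0, y1}) (by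
    rintro _ (rfl | rfl | rfl)
    exacts [⟨_, e⟩, ⟨_, mul_inv_eq_iff_eq_mul.2 g0⟩, ⟨_, mul_inv_eq_iff_eq_mul.2 g1⟩])
  have k0 := h.finj ((k y0 (by simp)).symm.trans (mul_inv_eq_iff_eq_mul.2 g0))
  have k1 := h.finj ((k y1 (by simp)).symm.trans (mul_inv_eq_iff_eq_mul.2 g1))
  have k2 := h.finj ((k x (by simp)).symm.trans e)
  have d0 := hM.1.dt x y0
  have d1 := hM.1.dt x y1
  rw [k2, dt_add] at d0 d1
  rw [k0] at d0
  rw [k1] at d1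
  rw [c.nd a b (by simpa using d0) (by simpa using d1), add_zero] at e
  exact mul_inv_eq_iff_eq_mul.1 e

/-- the centralizer of `A` modulo `U` -/
theorem gen_cwy {g : G} (hg : g ∈ Lc f (s Θ) y0 y1) (hn : g ∈ NJ f) (ew : g * f w = f w * g) (ey : g * f y = f y * g) :
    ∃ a ∈ Ac f Θ, a⁻¹ * g ∈ Uc f (s Θ) y0 y1 := by
  obtain ⟨x, M, hM, rfl, hx, e0, e1, e2⟩ := h.gen_decL c hg hn
  refine ⟨_, h.mem_Ac.2 ⟨x, hx, rfl⟩, ?_⟩
  rw [inv_mul_cancel_left]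
  rcases (c.two M hM e0 e1 e2).2 ((h.com_f hM).1 ew) ((h.com_f hM).1 ey) with rfl | rfl
  exacts [h.s1 ▸ one_mem _, Subgroup.subset_closure (Or.inl rfl)]

theorem gen_split {v : G} (hv : v ∈ Ac f Θ) (vU : v ∉ Uc f (s Θ) y0 y1) : ∃ a b : ZMod 3, ¬(a = 0 ∧ b = 0) ∧
    (∀ g ∈ Lc f (s Θ) y0 y1, g * f (a • w + b • y) = f (a • w + b • y) * g → g * v * g⁻¹ * v⁻¹ = 1) ∧
    ∀ g ∈ Lc f (s Θ) y0 y1, g * v * g⁻¹ * v⁻¹ ∈ Uc f (s Θ) y0 y1 →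
      g * f (a • w + b • y) = f (a • w + b • y) * g := by
  obtain ⟨x, hx, rfl⟩ := h.mem_Ac.1 hv
  obtain ⟨a, b, d, e, rfl⟩ := c.dec x hx
  refine ⟨a, b, ?_, fun g hg k => ?_, fun g hg k => ?_⟩
  · rintro ⟨rfl, rfl⟩
    exact vU (by simpa using h.gen_fU c d e)
  · rw [mul_inv_eq_one, mul_inv_eq_iff_eq_mul, h.add]
    exact (show Commute g _ from k).mul_right (Uc_cen hg (h.gen_fU c d e))
  · have := (show Commute g _ from h.cmod c hg hx k).mul_right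
      (show Commute g _ from Uc_cen hg (h.gen_fU c d e)).inv_right
    rwa [h.add, mul_inv_cancel_right] at this

theorem gen_cw0 {g : G} {a : ZMod 3} (a0 : ¬(a = 0 ∧ (0 : ZMod 3) = 0))
    (e : g * f (a • w + (0 : ZMod 3) • y) = f (a • w + (0 : ZMod 3) • y) * g) : g * f w = f w * g := by
  rw [zero_smul, add_zero, h.fsmul] at e
  exact cw (fun z => a0 ⟨z, rfl⟩) (h.f3 w) e

theorem yd (hw : ∀ g ∈ Lc f (s Θ) y0 y1, g * f w = f w * g → g ∈ NJ f)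
    (k : Con (Lc f (s Θ) y0 y1) (Uc f (s Θ) y0 y1) (Ac f Θ) (NJ f)) :
    ∃ Y, YD f Θ (Lc f (s Θ) y0 y1) (Uc f (s Θ) y0 y1) Y w y := by
  obtain ⟨Y, YL, UY, cop, nd, gen⟩ := k
  have g := h.g9 c le_rfl
  have m3 : ∀ {a}, a ∈ Y → a ^ 3 = 1 → a ∈ Uc f (s Θ) y0 y1 := mem3 UY (fun k hk => g.nU k (YL hk)) cop
  have inN : ∀ k ∈ Y, k ∈ NJ f → k ∈ Uc f (s Θ) y0 y1 := fun k hk hn => by
    have cm : ∀ v, mv Θ v = v → k * f v = f v * k := fun v hv => by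
      obtain ⟨v', e⟩ := h.mem_NJ.1 hn v
      refine h.cmod c (YL hk) hv (m3 ?_ (by rw [e, ← h.fsub, h.f3]))
      simpa [mul_assoc] using mul_mem hk ((nd _ (h.gen_fL c hv)).1 _ (inv_mem hk))
    obtain ⟨a, ha, e⟩ := h.gen_cwy c (YL hk) hn (cm w c.fw) (cm y c.fy)
    have := m3 (a := a) (by simpa using mul_mem hk (inv_mem (UY e))) (g.cube a ha)
    simpa using mul_mem this e
  refine ⟨Y, YL, UY, fun g hg => (nd g hg).1, fun g hg => (nd g hg).2, inN, fun B hB hv => gen B hB ?_, ?_, ?_⟩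
  · intro v hv' vU k hk e
    obtain ⟨a, b, ab, -, e'⟩ := h.gen_split c hv' vU
    exact hv a b ab k hk (e' k (YL hk) e)
  · intro b hb x hx e
    obtain ⟨k, hk, hn⟩ := (nd b hb).2
    obtain ⟨x', e1⟩ := h.mem_NJ.1 hn x
    have xL := h.gen_fL c hx
    have x'L : f x' ∈ Lc f (s Θ) y0 y1 :=
      e1 ▸ mul_mem (mul_mem (mul_mem (YL hk) hb) xL) (inv_mem (mul_mem (YL hk) hb))
    have e2 : b * f x * b⁻¹ * (f x)⁻¹ = k⁻¹ * (f x' * k * (f x')⁻¹) * f (x' - x) := by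
      rw [h.fsub, ← e1]; group
    have m := mul_mem (inv_mem hk) ((nd _ x'L).1 k hk)
    have n := (nd _ (h.fsub x' x ▸ mul_mem x'L (inv_mem xL))).1
    have e3 := h.f3 (x' - x)
    rw [e2] at e ⊢
    generalize k⁻¹ * (f x' * k * (f x')⁻¹) = p at m e
    generalize f (x' - x) = q at n e3 e
    refine mul_mem m ?_
    have e4 : (p * q) ^ 4 = p * (q * (p * (q * (p * (q * p * q⁻¹)) * q⁻¹)) * q⁻¹) * q ^ 3 * q := by
      simp only [pow_succ]; group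
    rw [e4, e3, mul_one] at e
    exact (mul_mem_cancel_left (mul_mem m (n _ (mul_mem m (n _ (mul_mem m (n _ m))))))).1 (UY e)
  · have sw : ∀ {k : G} {x : V4}, k ∈ Y → mv Θ x = x → f x * k * (f x)⁻¹ * k⁻¹ ∈ Uc f (s Θ) y0 y1 →
        k * f x = f x * k := fun hk hx e => h.cmod c (YL hk) hx (by simpa [mul_assoc] using inv_mem e)
    refine (comm_cen UY (fun k hk => g.nU k (YL hk)) cop (h.f3 w) (h.f3 y) (h.fcomm w y) (nd _ (h.gen_fL c c.fw)).1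
      (nd _ (h.gen_fL c c.fy)).1 (g.nU _ (h.gen_fL c c.fw)) (g.nU _ (h.gen_fL c c.fy))
      fun k hk e => inN k hk (hw k (YL hk) (sw hk c.fw e))).imp_right ?_
    rintro ⟨k, hk, kU, kc, u, u0, e⟩
    rw [h.gen_f9f c] at e
    exact ⟨k, hk, kU, kc, u.1, u.2, fun z => u0 (Prod.ext_iff.2 z), sw hk (h.gen_fixW c _ _) e⟩

theorem nine {σ τ : M4} (hσ : W l σ) (hτ : W l τ) (σ2 : σ * σ = 1) (τ2 : τ * τ = 1)
    (στ : σ * τ = τ * σ) (σΘ : σ * Θ = Θ * σ) (τΘ : τ * Θ = Θ * τ) (σ0 : mv σ y0 = y0)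
    (σ1 : mv σ y1 = y1) (τ0 : mv τ y0 = y0) (τ1 : mv τ y1 = y1) (σw : mv σ w = -w) (σy : mv σ y = y)
    (τw : mv τ w = w) (τy : mv τ y = -y)
    (hm : ∀ M, W l M → M * Θ = Θ * M → mv M y0 = y0 → mv M y1 = y1 →
      (mv M w = w ∨ mv M w = -w) ∧ (mv M y = y ∨ mv M y = -y))
    (hw : ∀ g ∈ Lc f (s Θ) y0 y1, g * f w = f w * g → g ∈ NJ f)
    (loc : ∀ a b : ZMod 3, b ≠ 0 → ∃ O ≤ Lc f (s Θ) y0 y1,
      (∀ o ∈ O, o ^ 4 = 1 ∧ o * f (a • w + b • y) = f (a • w + b • y) * o) ∧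
      ∀ g ∈ Lc f (s Θ) y0 y1, g * f (a • w + b • y) = f (a • w + b • y) * g →
        (∀ o ∈ O, g * o * g⁻¹ ∈ O) ∧ ∃ o ∈ O, o * g ∈ NJ f) :
    ∃ Y, YD f Θ (Lc f (s Θ) y0 y1) (Uc f (s Θ) y0 y1) Y w y := by
  have g := h.g9 c le_rfl
  have o1 : ∀ {M : M4} {x : V4}, W l M → mv M x = -x → s M * f x * (s M)⁻¹ * f x ∈ Uc f (s Θ) y0 y1 :=
    fun hM e => by rw [h.act _ hM, e, h.fneg, inv_mul_cancel]; exact one_mem _
  have o2 : ∀ {M : M4} {x : V4}, W l M → mv M x = x → s M * f x * (s M)⁻¹ * (f x)⁻¹ ∈ Uc f (s Θ) y0 y1 :=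
    fun hM e => by rw [h.act _ hM, e, mul_inv_cancel]; exact one_mem _
  have σL := h.gen_sL c hσ σΘ σ0 σ1
  have τL := h.gen_sL c hτ τΘ τ0 τ1
  refine h.yd c hw (g.nine σL τL (h.sN hσ) (h.sN hτ) (h.ssq hσ σ2 ▸ one_mem _) (h.ssq hτ τ2 ▸ one_mem _)
    (by rw [h.scomm hσ hτ στ]; simp) (o1 hσ σw) (o2 hσ σy) (o2 hτ τw) (o1 hτ τy) (fun k kN kL => ?_)
    (fun k hk e => hw k hk (h.cmod c hk c.fw e)) fun v hv vU => ?_)
  · obtain ⟨x, M, hM, e, -, e0, e1, e2⟩ := h.gen_decL c kL kN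
    obtain ⟨i, j, ew, ey⟩ : ∃ i j : ℕ, mv (σ ^ i * τ ^ j) w = mv M w ∧ mv (σ ^ i * τ ^ j) y = mv M y := by
      obtain ⟨ew | ew, ey | ey⟩ := hm M hM e0 e1 e2
      exacts [⟨0, 0, by simp [mv_one, ew, ey]⟩, ⟨0, 1, by simp [ew, ey, τw, τy]⟩, ⟨1, 0, by simp [ew, ey, σw, σy]⟩,
        ⟨1, 1, by simp [mv_mul, mv_neg, ew, ey, σw, σy, τw, τy]⟩]
    have hN := (hσ.pow i).mul (hτ.pow j)
    have nL := mul_mem (pow_mem σL i) (pow_mem τL j)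
    have en : s (σ ^ i * τ ^ j) = s σ ^ i * s τ ^ j := by
      rw [h.mul _ _ (hσ.pow i) (hτ.pow j), h.spow hσ, h.spow hτ]
    have cm : ∀ v, mv (σ ^ i * τ ^ j) v = mv M v →
        (s σ ^ i * s τ ^ j)⁻¹ * k * f v = f v * ((s σ ^ i * s τ ^ j)⁻¹ * k) := fun v ev => by
      have := (h.act _ hN v).trans (ev ▸ (e ▸ h.fs_cj hM x v).symm)
      rw [en] at this
      rw [← mul_inv_eq_iff_eq_mul]
      calc _ = (s σ ^ i * s τ ^ j)⁻¹ * (k * f v * k⁻¹) * (s σ ^ i * s τ ^ j) := by group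
        _ = _ := by rw [← this]; group
    obtain ⟨a, ha, u⟩ := h.gen_cwy c (mul_mem (inv_mem nL) kL) (mul_mem (inv_mem (en ▸ h.sN hN)) kN) (cm w ew) (cm y ey)
    obtain ⟨z, hz, rfl⟩ := h.mem_Ac.1 ha
    refine ⟨f (mv (σ ^ i * τ ^ j) z), h.mem_Ac.2 ⟨_, ?_, rfl⟩, i, j, ?_⟩
    · rw [← mv_mul, ((show Commute Θ σ from σΘ.symm).pow_right i |>.mul_right
        ((show Commute Θ τ from τΘ.symm).pow_right j)).eq, mv_mul, hz]
    · rw [← h.act _ hN, en]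
      rwa [inv_mul_cancel_right, mul_inv_rev, mul_assoc]
  obtain ⟨a, b, ab, e1, e2⟩ := h.gen_split c hv vU
  by_cases hb : b = 0
  · subst hb
    refine ⟨_, g.UL, le_rfl, fun o ho => ⟨pow_mem ho _, ?_⟩, fun k hk e => ⟨g.nU k hk, k,
      hw k hk (h.gen_cw0 c ab (e2 k hk e)), by simp⟩⟩
    rw [← Uc_cen (g.le hv) ho]; simp
  obtain ⟨O, OL, o4, on⟩ := loc a b hb
  have ms : ∀ x ∈ O ⊔ Uc f (s Θ) y0 y1, ∃ u ∈ Uc f (s Θ) y0 y1, ∃ o ∈ O, x = u * o := fun x hx => by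
    rw [sup_comm, ← SetLike.mem_coe, coe_mul_of_right_le_normalizer_left _ O
      fun o ho => mem_normalizer_fintype (g.nU o (OL ho))] at hx
    obtain ⟨n, hn, a, ha, rfl⟩ := hx
    exact ⟨n, hn, a, ha, rfl⟩
  refine ⟨O ⊔ Uc f (s Θ) y0 y1, sup_le OL g.UL, le_sup_right, fun x hx => ?_, fun k hk e => ?_⟩
  · obtain ⟨u, hu, o, ho, rfl⟩ := ms x hx
    constructor
    · rw [(show Commute u o from (Uc_cen (OL ho) hu).symm).mul_pow, (o4 o ho).1, mul_one]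
      exact pow_mem hu _
    · rw [e1 _ (mul_mem (g.UL hu) (OL ho)) (((show Commute _ u from Uc_cen (h.gen_fL c (h.gen_fixW c a b)) hu).symm).mul_left
        (o4 o ho).2)]
      exact one_mem _
  · obtain ⟨n, o, ho, hn⟩ := on k hk (e2 k hk e)
    refine ⟨fun x hx => ?_, _, hn, by simpa using mem_sup_left ho⟩
    obtain ⟨u, hu, o, ho, rfl⟩ := ms x hx
    rw [← conj_mul]
    exact mul_mem (mem_sup_right (g.nU k hk u hu)) (mem_sup_left (n o ho))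

theorem three (hm : ∀ M, W l M → M * Θ = Θ * M → mv M y0 = y0 → mv M y1 = y1 → mv M y = y ∧
      (mv M w = w ∨ mv M w = -w))
    (hw : ∀ g ∈ Lc f (s Θ) y0 y1, g * f w = f w * g → g ∈ NJ f)
    (hq : ∀ a b : ZMod 3, b ≠ 0 → ∀ g ∈ Lc f (s Θ) y0 y1,
      g * f (a • w + b • y) = f (a • w + b • y) * g → g ^ 1296 = 1) :
    ∃ Y, YD f Θ (Lc f (s Θ) y0 y1) (Uc f (s Θ) y0 y1) Y w y := by
  have g := h.g9 c le_rfl
  have hw' : ∀ k ∈ Lc f (s Θ) y0 y1, k * f w = f w * k → ∃ a ∈ Ac f Θ, a⁻¹ * k ∈ Uc f (s Θ) y0 y1 := fun k hk e => by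
    obtain ⟨x, M, hM, e', -, e0, e1, e2⟩ := h.gen_decL c hk (hw k hk e)
    exact h.gen_cwy c hk (hw k hk e) e (e' ▸ (h.com_f hM).2 (hm M hM e0 e1 e2).1)
  refine h.yd c hw (g.three (fun k hk e => hw' k hk (h.cmod c hk c.fw e)) (fun n hn nL a ha => ?_)
    (fun k hk ⟨b, hb, e⟩ => h.gen_hN c hk fun a ha => ?_) fun v hv vU q hq' e => ?_)
  · obtain ⟨x, M, hM, rfl, -, e0, e1, e2⟩ := h.gen_decL c nL hn
    obtain ⟨v, hv, rfl⟩ := h.mem_Ac.1 ha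
    refine ⟨_, h.mem_zp.2 ?_, by rw [inv_mul_cancel]; exact one_mem _⟩
    obtain ⟨a, b, d, e, rfl⟩ := c.dec v hv
    obtain ⟨ey, ew⟩ := hm M hM e0 e1 e2
    rw [h.fs_cj hM, ← h.fsub]
    simp only [mv_add, mv_smul, e1, e2, ey]
    rcases ew with ew | ew <;> rw [ew]
    exacts [⟨0, by congr 1; module⟩, ⟨-a - a, by congr 1; module⟩]
  · obtain ⟨d, rfl⟩ := h.mem_zp.1 hb
    have aL := mul_mem (mul_mem hk (g.le ha)) (inv_mem hk)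
    have d0 : d ≠ 0 := by
      rintro rfl
      have := g.nU _ (inv_mem hk) _ e
      rw [zero_smul, h.f0] at this
      exact absurd (g.inj (1, 0) (by simpa [H53.Odd.f9_10, mul_assoc] using this)) (by decide)
    refine hw' _ aL (cw d0 (h.f3 w) ?_)
    have c1 : Commute (k * a * k⁻¹) (k * f w * k⁻¹) := (show Commute a (f w) from g.comm a ha _ g.hw).conj k
    have := c1.mul_right (show Commute _ _ from Uc_cen aL e).inv_right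
    rw [← h.fsmul]
    rw [mul_inv_rev, inv_inv, mul_inv_cancel_left] at this
    exact this
  · obtain ⟨a, b, ab, -, e2⟩ := h.gen_split c hv vU
    by_cases hb : b = 0
    · subst hb
      obtain ⟨x, hx, u⟩ := hw' q hq' (h.gen_cw0 c ab (e2 q hq' e))
      have := (show Commute x _ from Uc_cen (g.le hx) u).mul_pow 1296
      rw [mul_inv_cancel_left, show 1296 = 3 * 432 from rfl, pow_mul x, g.cube x hx, one_pow, one_mul] at this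
      exact this ▸ pow_mem u _
    · exact hq a b hb q hq' (e2 q hq' e) ▸ one_mem _

/-- trivial cores -/
theorem nine0 {σ τ : M4} (hσ : W l σ) (hτ : W l τ) (σ2 : σ * σ = 1) (τ2 : τ * τ = 1)
    (στ : σ * τ = τ * σ) (σΘ : σ * Θ = Θ * σ) (τΘ : τ * Θ = Θ * τ) (σ0 : mv σ y0 = y0)
    (σ1 : mv σ y1 = y1) (τ0 : mv τ y0 = y0) (τ1 : mv τ y1 = y1) (σw : mv σ w = -w) (σy : mv σ y = y)
    (τw : mv τ w = w) (τy : mv τ y = -y)
    (hm : ∀ M, W l M → M * Θ = Θ * M → mv M y0 = y0 → mv M y1 = y1 →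
      (mv M w = w ∨ mv M w = -w) ∧ (mv M y = y ∨ mv M y = -y))
    (hv : ∀ a b : ZMod 3, ¬(a = 0 ∧ b = 0) → ∀ g ∈ Lc f (s Θ) y0 y1,
      g * f (a • w + b • y) = f (a • w + b • y) * g → g ∈ NJ f) :
    Lc f (s Θ) y0 y1 ≤ NJ f := by
  obtain ⟨Y, k⟩ := h.nine c hσ hτ σ2 τ2 στ σΘ τΘ σ0 σ1 τ0 τ1 σw σy τw τy hm
    (fun g hg e => hv 1 0 (by decide) g hg (by simpa using e)) fun a b hb => ⟨⊥, bot_le,
      fun o ho => by simp [mem_bot.1 ho], fun g hg e => ⟨fun o ho => by simp [mem_bot.1 ho], 1, one_mem _,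
        by rw [one_mul]; exact hv a b (fun z => hb z.2) g hg e⟩⟩
  intro g hg
  obtain ⟨m, hm, e⟩ := k.dec g hg
  exact (mul_mem_cancel_left (k.gen _ (h.gen_UN c) (fun a b ab m hm => hv a b ab m (k.le hm)) hm)).1 e

/-- the three hypotheses `hm hC hv` of `G9.eight` and `eight2` -/
theorem pre8 (hm : ∀ M, W l M → M * Θ = Θ * M → mv M y0 = y0 → mv M y1 = y1 →
      mv M w = w ∨ mv M w = -w ∨ mv M w = y ∨ mv M w = -y)
    (hv : ∀ a b : ZMod 3, ¬(a = 0 ∧ b = 0) → ∀ g ∈ Lc f (s Θ) y0 y1,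
      g * f (a • w + b • y) = f (a • w + b • y) * g → g ∈ NJ f) :
    (∀ g ∈ NJ f, g ∈ Lc f (s Θ) y0 y1 →
      (∀ a ∈ Ac f Θ, ∃ b ∈ Ac f Θ, b⁻¹ * (g * a * g⁻¹) ∈ Uc f (s Θ) y0 y1) ∧
      ∃ u : H53.Odd.V9, (u.1 = 0 ∨ u.2 = 0) ∧
        (H53.Odd.f9 (f w) (f y) u)⁻¹ * (g * f w * g⁻¹) ∈ Uc f (s Θ) y0 y1) ∧
    (∀ g ∈ Lc f (s Θ) y0 y1, g * f w * g⁻¹ * (f w)⁻¹ ∈ Uc f (s Θ) y0 y1 →
      g * f y * g⁻¹ * (f y)⁻¹ ∈ Uc f (s Θ) y0 y1 → ∃ a ∈ Ac f Θ, a⁻¹ * g ∈ Uc f (s Θ) y0 y1) ∧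
    ∀ v ∈ Ac f Θ, v ∉ Uc f (s Θ) y0 y1 → ∀ g ∈ Lc f (s Θ) y0 y1,
      g * v * g⁻¹ * v⁻¹ ∈ Uc f (s Θ) y0 y1 → g ∈ NJ f := by
  refine ⟨fun g hn hg => ?_, fun g hg ew ey => ?_, fun v hv' vU g hg e => ?_⟩
  · obtain ⟨x, M, hM, rfl, -, e0, e1, e2⟩ := h.gen_decL c hg hn
    refine ⟨fun a ha => ?_, ?_⟩
    · obtain ⟨v, hv, rfl⟩ := h.mem_Ac.1 ha
      exact ⟨_, h.mem_Ac.2 ⟨mv M v, by rw [← mv_mul, ← e0, mv_mul, hv], rfl⟩, by rw [h.fs_cj hM]; simp⟩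
    · simp only [h.fs_cj hM, h.gen_f9f c]
      rcases hm M hM e0 e1 e2 with e | e | e | e <;> rw [e]
      exacts [⟨(1, 0), by simp⟩, ⟨(-1, 0), by simp⟩, ⟨(0, 1), by simp⟩, ⟨(0, -1), by simp⟩]
  · have := h.cmod c hg c.fw ew
    exact h.gen_cwy c hg (hv 1 0 (by decide) g hg (by simpa using this)) this (h.cmod c hg c.fy ey)
  · obtain ⟨a, b, ab, -, e2⟩ := h.gen_split c hv' vU
    exact hv a b ab g hg (e2 g hg e)

end St

end H12.O83
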