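import Mathlib
import Cfsg.Agent.Lib.P3L.A4
import Cfsg.Agent.Lib.P3L.A7

/-! The centraliser `3^{1+4}.SL₂(3)` or `3^{1+4}.(SL₂(3) × 2)`: basic facts. -/

set_option autoImplicit false
set_option linter.unusedSectionVars false

namespace H35.IA

open Subgroup H20.L43 M4

variable {G : Type*} [Group G]

/-- `C(z)/Q` embeds in `SL₂(3) × 2` over `SL₂(3)` -/
structure H1 (z : G) (Q : Subgroup G) (β : G → G → ZMod 3) (π : G → M2) (σ : G → ZMod 2) : Prop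
    extends Ex z Q β where
  cQ : ∀ g, (∀ q ∈ Q, g * q = q * g) → g ∈ Q
  nC : ∀ g ∈ Ce z, ∀ q ∈ Q, g * q * g⁻¹ ∈ Q
  pm : ∀ g ∈ Ce z, ∀ k ∈ Ce z, π (g * k) = π g * π k
  sm : ∀ g ∈ Ce z, ∀ k ∈ Ce z, σ (g * k) = σ g + σ k
  pd : ∀ g ∈ Ce z, (π g).det = 1
  pk : ∀ g ∈ Ce z, π g = 1 ∧ σ g = 0 ↔ g ∈ Q
  ps : ∀ m : M2, m.det = 1 → ∃ g ∈ Ce z, π g = m ∧ σ g = 0

/-- the involution -/
structure It (z : G) (π : G → M2) (σ : G → ZMod 2) (t : G) : Prop where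
  tC : t ∈ Ce z
  pt : π t = mo
  st : σ t = 0
  t2 : t * t = 1

/-- a basis adapted to the involution -/
structure Tb (z : G) (Q : Subgroup G) (β : G → G → ZMod 3) (t a b c d : G) : Prop
    extends Sb z Q β a b c d where
  ta : t * a * t⁻¹ = a
  tb : t * b * t⁻¹ = b⁻¹
  tc : t * c * t⁻¹ = c
  td : t * d * t⁻¹ = d⁻¹

/-- block matrices -/
def bl (A B : M2) : M4 := ⟨A.a, 0, A.b, 0, 0, B.a, 0, B.b, A.c, 0, A.d, 0, 0, B.c, 0, B.d⟩

theorem force_eq_IA1 : True := by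
  have := @bl.eq_1
  trivial

theorem bl_mul (A B A' B' : M2) : bl A B * bl A' B' = bl (A * A') (B * B') := by
  ext <;> simp [bl, M2.mul_def]

theorem bl_inj {A B A' B' : M2} (h : bl A B = bl A' B') : A = A' ∧ B = B' := by
  simp only [bl, M4.mk.injEq] at h
  constructor <;> ext <;> simp [h]

theorem bl_one : bl 1 1 = 1 := rfl

theorem bl_T : bl 1 mo = dg 1 (-1) 1 (-1) := rfl

theorem bl_pow (A B : M2) (n : ℕ) : bl A B ^ n = bl (A ^ n) (B ^ n) := by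
  induction n with
  | zero => simp [bl_one]
  | succ n ih => rw [pow_succ, ih, bl_mul, ← pow_succ, ← pow_succ]

variable {z : G} {Q : Subgroup G} {β : G → G → ZMod 3} {π : G → M2} {σ : G → ZMod 2}
  {t a b c d : G}

theorem tt {t : G} (t2 : t * t = 1) (x : G) : t * (t * x * t⁻¹) * t⁻¹ = x := by
  calc _ = (t * t) * x * (t * t)⁻¹ := by group
    _ = x := by rw [t2]; group

theorem tfix (h : Ex z Q β) {g u : G} (hg : g ∈ Ce z) {k : ZMod 3}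
    (e : g * u * g⁻¹ = pw z k * u) (e2 : g * (g * u * g⁻¹) * g⁻¹ = u) : g * u * g⁻¹ = u := by
  rw [e, ← conj_mul, e, pw_conj, cz hg, ← mul_assoc, ← pw_add h.z3, mul_eq_right] at e2
  have := pw_eq_one h.z3 h.z1 e2
  rw [e, show k = 0 by grind, pw_zero, one_mul]

theorem tinv (h : Ex z Q β) (ht : t ∈ Ce z) {q : G} (hq : q ∈ Q)
    (e : t * q * t⁻¹ * q ∈ zpowers z) : ∃ k, t * (q * pw z k) * t⁻¹ = (q * pw z k)⁻¹ := by
  obtain ⟨k, e⟩ := (mem_zp h.z3).1 e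
  refine ⟨k, eq_inv_of_mul_eq_one_left ?_⟩
  rw [← conj_mul, pw_conj, cz ht, mul_assoc, ← mul_assoc (pw z k), h.pc hq, ← mul_assoc,
    ← mul_assoc, ← e, ← pw_add h.z3, ← pw_add h.z3, show k + k + k = 0 by grind, pw_zero]

namespace H1

theorem QC (h : H1 z Q β π σ) {q : G} (hq : q ∈ Q) : q ∈ Ce z := mem_Ce.2 (h.zc q hq)

theorem pQ (h : H1 z Q β π σ) {q : G} (hq : q ∈ Q) : π q = 1 := ((h.pk q (h.QC hq)).2 hq).1

theorem sQ (h : H1 z Q β π σ) {q : G} (hq : q ∈ Q) : σ q = 0 := ((h.pk q (h.QC hq)).2 hq).2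

theorem pinv (h : H1 z Q β π σ) {g : G} (hg : g ∈ Ce z) : π g⁻¹ = (π g).iv := by
  have e := h.pm _ (inv_mem hg) _ hg
  rw [inv_mul_cancel, h.pQ (one_mem _)] at e
  have := h.pd g hg
  revert this e
  generalize π g⁻¹ = x
  generalize π g = y
  revert x y
  decide +kernel

theorem sinv (h : H1 z Q β π σ) {g : G} (hg : g ∈ Ce z) : σ g⁻¹ = σ g := by
  have e := h.sm _ (inv_mem hg) _ hg
  rw [inv_mul_cancel, h.sQ (one_mem _)] at e
  revert e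
  generalize σ g⁻¹ = x
  generalize σ g = y
  revert x y
  decide

theorem ppow (h : H1 z Q β π σ) {g : G} (hg : g ∈ Ce z) (n : ℕ) : π (g ^ n) = π g ^ n := by
  induction n with
  | zero => rw [pow_zero, pow_zero, h.pQ (one_mem _)]
  | succ n ih => rw [pow_succ, h.pm _ (pow_mem hg n) _ hg, ih, pow_succ]

theorem spow (h : H1 z Q β π σ) {g : G} (hg : g ∈ Ce z) (n : ℕ) : σ (g ^ n) = n * σ g := by
  induction n with
  | zero => rw [pow_zero, h.sQ (one_mem _)]; simp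
  | succ n ih => rw [pow_succ, h.sm _ (pow_mem hg n) _ hg, ih]; push_cast; ring

theorem pcj (h : H1 z Q β π σ) {g k : G} (hg : g ∈ Ce z) (hk : k ∈ Ce z) :
    π (g * k * g⁻¹) = π g * π k * (π g).iv := by
  rw [h.pm _ (mul_mem hg hk) _ (inv_mem hg), h.pm _ hg _ hk, h.pinv hg]

theorem scj (h : H1 z Q β π σ) {g k : G} (hg : g ∈ Ce z) (hk : k ∈ Ce z) :
    σ (g * k * g⁻¹) = σ k := by
  rw [h.sm _ (mul_mem hg hk) _ (inv_mem hg), h.sm _ hg _ hk, h.sinv hg]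
  generalize σ g = x
  generalize σ k = y
  revert x y
  decide

theorem peq (h : H1 z Q β π σ) {g k : G} (hg : g ∈ Ce z) (hk : k ∈ Ce z) (e : π g = π k)
    (e' : σ g = σ k) : g * k⁻¹ ∈ Q := by
  rw [← h.pk _ (mul_mem hg (inv_mem hk)), h.pm _ hg _ (inv_mem hk), h.pinv hk, ← e,
    h.sm _ hg _ (inv_mem hk), h.sinv hk, e']
  refine ⟨?_, CharTwo.add_self_eq_zero _⟩
  have := h.pd g hg
  revert this
  generalize π g = y
  revert y
  decide +kernel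

theorem s3 (h : H1 z Q β π σ) {g : G} (hg : g ∈ Ce z) (e : g ^ 3 ∈ Q) : σ g = 0 := by
  have := h.spow hg 3
  rw [h.sQ e] at this
  revert this
  generalize σ g = x
  revert x
  decide

theorem nCe (h : H1 z Q β π σ) {g k : G} (hg : g * z * g⁻¹ ∈ zpowers z) (hk : k ∈ Ce z) :
    g⁻¹ * k * g ∈ Ce z := by
  obtain ⟨e, he⟩ := (mem_zp h.z3).1 hg
  have := pw_comm (mem_Ce.1 hk).symm e
  rw [he] at this
  rw [mem_Ce]
  calc _ = g⁻¹ * (k * (g * z * g⁻¹)) * g := by group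
    _ = _ := by rw [← this]; group

variable [Finite G]

theorem nCe' (h : H1 z Q β π σ) {g k : G} (hg : g * z * g⁻¹ ∈ zpowers z) (hk : k ∈ Ce z) :
    g * k * g⁻¹ ∈ Ce z := by simpa using h.nCe (Hy0.ninv hg) hk

theorem nQ (h : H1 z Q β π σ) {g : G} (hg : g * z * g⁻¹ ∈ zpowers z) (q : G)
    (hq : q ∈ Q) : g * q * g⁻¹ ∈ Q := by
  have hc := h.nCe' hg (h.QC hq)
  rw [← h.pk _ hc]
  refine ⟨?_, h.s3 hc (by rw [conj_pow, h.q3 q hq]; simp)⟩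
  have key : ∀ a : M2, a.det = 1 → a ^ 3 = 1 →
      (∀ c : M2, c.det = 1 → (c * a * c.iv * a.iv) ^ 3 = 1) → a = 1 := by
    decide +kernel
  refine key _ (h.pd _ hc) (by rw [← h.ppow hc, conj_pow, h.q3 q hq]; simpa using h.pQ (one_mem _))
    fun c c1 => ?_
  obtain ⟨k, hk, rfl, -⟩ := h.ps c c1
  have hk' := mul_mem (mul_mem hk hc) (inv_mem hk)
  rw [← h.pcj hk hc, ← h.pinv hc, ← h.pm _ hk' _ (inv_mem hc),
    ← h.ppow (mul_mem hk' (inv_mem hc))]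
  have := h.q3 _ (mul_mem (h.nC _ (h.nCe hg hk) q hq) (inv_mem hq))
  rw [show k * (g * q * g⁻¹) * k⁻¹ * (g * q * g⁻¹)⁻¹ =
    g * (g⁻¹ * k * g * q * (g⁻¹ * k * g)⁻¹ * q⁻¹) * g⁻¹ by group, conj_pow, this]
  simpa using h.pQ (one_mem _)

theorem exists_t (h : H1 z Q β π σ) : ∃ t, It z π σ t := by
  obtain ⟨g, hg, e, e'⟩ := h.ps mo (by decide)
  refine ⟨g ^ 3, pow_mem hg 3, by rw [h.ppow hg, e]; decide, by rw [h.spow hg, e', mul_zero], ?_⟩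
  rw [← h.q3 _ ((h.pk _ (mul_mem hg hg)).1 ⟨by rw [h.pm _ hg _ hg, e]; decide,
    by rw [h.sm _ hg _ hg, e', add_zero]⟩), ← sq g, ← pow_mul, ← pow_add]

theorem mm (h : H1 z Q β π σ) (s : Sb z Q β a b c d) {g k : G} (hg : g ∈ Ce z) (hk : k ∈ Ce z) :
    mt β a b c d (g * k) = mt β a b c d g * mt β a b c d k := by
  refine s.mt_eq (cz' (mul_mem hg hk)) (h.nC _ (mul_mem hg hk)) fun q hq => ?_
  rw [mv_mul, ← s.co_cj (cz' hk) (h.nC _ hk) hq, ← s.co_cj (cz' hg) (h.nC _ hg) (h.nC _ hk q hq)]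
  congr 1; group

theorem mp (h : H1 z Q β π σ) (s : Sb z Q β a b c d) {g : G} (hg : g ∈ Ce z) (n : ℕ) :
    mt β a b c d (g ^ n) = mt β a b c d g ^ n := by
  induction n with
  | zero => rw [pow_zero, pow_zero, s.mt_Q (one_mem _)]
  | succ n ih => rw [pow_succ, h.mm s (pow_mem hg n) hg, ih, pow_succ]

theorem mt_pi (h : H1 z Q β π σ) (s : Sb z Q β a b c d) {g k : G} (hg : g ∈ Ce z) (hk : k ∈ Ce z)
    (e : π g = π k) (e' : σ g = σ k) : mt β a b c d g = mt β a b c d k := by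
  have := h.mm s (h.QC (h.peq hg hk e e')) hk
  rwa [s.mt_Q (h.peq hg hk e e'), one_mul, inv_mul_cancel_right] at this

theorem cc (h : H1 z Q β π σ) (s : Sb z Q β a b c d) {g q : G} (hg : g ∈ Ce z) (hq : q ∈ Q) :
    co β a b c d (g * q * g⁻¹) = mv (mt β a b c d g) (co β a b c d q) :=
  s.co_cj (cz' hg) (h.nC _ hg) hq

theorem mtc (h : H1 z Q β π σ) (T : It z π σ t) (s : Sb z Q β a b c d) {g : G} (hg : g ∈ Ce z) :
    mt β a b c d g * mt β a b c d t = mt β a b c d t * mt β a b c d g := by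
  rw [← h.mm s hg T.tC, ← h.mm s T.tC hg]
  refine h.mt_pi s (mul_mem hg T.tC) (mul_mem T.tC hg) ?_ ?_
  · rw [h.pm _ hg _ T.tC, h.pm _ T.tC _ hg, T.pt]
    simp [M2.mul_def, mo]
  · rw [h.sm _ hg _ T.tC, h.sm _ T.tC _ hg, add_comm]

theorem adj (h : H1 z Q β π σ) (T : It z π σ t) {g : G} (hg : g ∈ Ce z) :
    ∃ k ∈ Ce z, k * t = t * k ∧ π k = π g ∧ σ k = σ g := by
  have t1 : t⁻¹ = t := inv_eq_of_mul_eq_one_right T.t2
  have hw : g * t * g⁻¹ * t⁻¹ ∈ Q := h.peq (mul_mem (mul_mem hg T.tC) (inv_mem hg)) T.tC (by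
    rw [h.pcj hg T.tC, T.pt]
    have := h.pd g hg
    revert this
    generalize π g = y
    revert y
    decide +kernel) (h.scj hg T.tC)
  have w3 := h.q3 _ hw
  have e : t * (g * t * g⁻¹ * t⁻¹) = (g * t * g⁻¹ * t⁻¹)⁻¹ * t := by
    simp only [mul_inv_rev, inv_inv, t1, mul_assoc, T.t2, mul_one]
  have e2 : g * t = (g * t * g⁻¹ * t⁻¹) * t * g := by group
  generalize g * t * g⁻¹ * t⁻¹ = w at *
  refine ⟨w * g, mul_mem (h.QC hw) hg, ?_, by rw [h.pm _ (h.QC hw) _ hg, h.pQ hw, one_mul],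
    by rw [h.sm _ (h.QC hw) _ hg, h.sQ hw, zero_add]⟩
  rw [mul_assoc, e2, ← mul_assoc t, e, ← mul_assoc, ← mul_assoc,
    eq_inv_of_mul_eq_one_left (show w * w * w = 1 by rw [← w3, pow_three, mul_assoc])]

theorem exists_i (h : H1 z Q β π σ) (T : It z π σ t) :
    ∃ i ∈ Ce z, i * i = t ∧ π i = ⟨0, -1, 1, 0⟩ ∧ σ i = 0 := by
  obtain ⟨g, hg, e, e'⟩ := h.ps ⟨0, 1, -1, 0⟩ (by decide)
  obtain ⟨k, hk, kt, pk, sk⟩ := h.adj T hg
  rw [e] at pk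
  rw [e'] at sk
  refine ⟨k ^ 3, pow_mem hk 3, ?_, by rw [h.ppow hk, pk]; decide, by rw [h.spow hk, sk, mul_zero]⟩
  have hw := h.peq (mul_mem hk hk) T.tC (by rw [h.pm _ hk _ hk, pk, T.pt]; decide)
    (by rw [h.sm _ hk _ hk, sk, T.st, add_zero])
  have c : Commute (k * k) t⁻¹ := (Commute.mul_left kt kt).inv_right
  have w3 := h.q3 _ hw
  rw [c.mul_pow, inv_pow, mul_inv_eq_one, pow_three t, T.t2, mul_one] at w3
  rw [← w3, ← sq, ← sq, ← pow_mul, ← pow_mul]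

theorem exists_y (h : H1 z Q β π σ) (T : It z π σ t) :
    ∃ y ∈ Ce z, y * t = t * y ∧ π y = ⟨1, 1, 0, 1⟩ ∧ σ y = 0 := by
  obtain ⟨g, hg, e, e'⟩ := h.ps ⟨1, 1, 0, 1⟩ (by decide)
  obtain ⟨k, hk, kt, pk, sk⟩ := h.adj T hg
  exact ⟨k, hk, kt, pk.trans e, sk.trans e'⟩

theorem tQ (h : H1 z Q β π σ) (T : It z π σ t) : t ∉ Q := fun e =>
  absurd ((h.pQ e).symm.trans T.pt) (by decide)

theorem tN (h : H1 z Q β π σ) (T : It z π σ t) {g : G} (hg : g * z * g⁻¹ ∈ zpowers z) :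
    g * t * g⁻¹ * t ∈ Q := by
  obtain ⟨i, hi, i2, -, -⟩ := h.exists_i T
  have hc := h.nCe' hg T.tC
  have hj := h.nCe' hg hi
  have s0 : σ (g * t * g⁻¹) = 0 := by
    rw [← i2, ← conj_mul, h.sm _ hj _ hj, CharTwo.add_self_eq_zero]
  have key : ∀ m : M2, m.det = 1 → m * m = 1 → m = 1 ∨ m = mo := by decide +kernel
  rcases key _ (h.pd _ hc) (by rw [← h.pm _ hc _ hc, conj_mul, T.t2]; simpa using h.pQ (one_mem _))
    with e | e
  · have := h.nQ (Hy0.ninv hg) _ ((h.pk _ hc).1 ⟨e, s0⟩)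
    exact absurd (by simpa [mul_assoc] using this) (h.tQ T)
  · have := h.peq hc T.tC (e.trans T.pt.symm) (s0.trans T.st.symm)
    rwa [inv_eq_of_mul_eq_one_right T.t2] at this

theorem blk (h : H1 z Q β π σ) (T : It z π σ t) (s : Tb z Q β t a b c d) :
    mt β a b c d t = bl 1 mo ∧
      ∀ g ∈ Ce z, ∃ A B, mt β a b c d g = bl A B ∧ A.det = 1 ∧ B.det = 1 := by
  have mT : mt β a b c d t = bl 1 mo := by
    rw [H20.L43.mt, s.ta, s.tb, s.tc, s.td, s.co_inv s.hb, s.co_inv s.hd, s.co_a, s.co_b, s.co_c, s.co_d]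
    decide
  refine ⟨mT, fun g hg => ?_⟩
  have e := h.mtc T s.toSb hg
  have e1 := s.mt_fm (ε := 1) (by rw [cz hg, pw_one]) (h.nC _ hg) (1, 0, 0, 0) (0, 0, 1, 0)
  have e2 := s.mt_fm (ε := 1) (by rw [cz hg, pw_one]) (h.nC _ hg) (0, 1, 0, 0) (0, 0, 0, 1)
  rw [mT] at e
  generalize mt β a b c d g = N at *
  simp only [M4.ext_iff, bl, mo, M2.one_def] at e
  simp [fm, mv] at e e1 e2
  refine ⟨⟨N.a11, N.a13, N.a31, N.a33⟩, ⟨N.a22, N.a24, N.a42, N.a44⟩, ?_, ?_, ?_⟩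
  · ext <;> simp only [bl] <;> grind
  · simp only [M2.det]; grind
  · simp only [M2.det]; grind

theorem sbT (h : H1 z Q β π σ) (T : It z π σ t) (ha : a ∈ Q) (a1 : a ∉ zpowers z)
    (ta : t * a * t⁻¹ = a) (hb : b ∈ Q) (b1 : b ∉ zpowers z) (tb : t * b * t⁻¹ = b⁻¹) :
    ∃ c d, Tb z Q β t a b c d := by
  have nt := h.nC t T.tC
  have cj : ∀ x ∈ Q, ∀ y ∈ Q, β (t * x * t⁻¹) (t * y * t⁻¹) = β x y := fun x hx y hy => by
    rw [h.cj (ε := 1) (by rw [cz T.tC, pw_one]) nt hx hy, one_mul]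
  have or : ∀ u ∈ Q, ∀ v ∈ Q, t * u * t⁻¹ = u → t * v * t⁻¹ = v⁻¹ → β u v = 0 :=
    fun u hu v hv f1 f2 => by
      have := cj u hu v hv
      rw [f1, f2, h.inv_r hv hu] at this
      grind
  obtain ⟨c, hc, e1⟩ := h.dual1 ha a1
  obtain ⟨d, hd, e2⟩ := h.dual1 hb b1
  have mc := mul_mem (nt c⁻¹ (inv_mem hc)) (inv_mem hc)
  have md := mul_mem (nt d hd) (inv_mem hd)
  have tc : t * (t * c⁻¹ * t⁻¹ * c⁻¹) * t⁻¹ = t * c⁻¹ * t⁻¹ * c⁻¹ :=
    tfix h.toEx T.tC (by rw [← conj_mul, tt T.t2]; exact h.com _ (inv_mem hc) _ (nt _ (inv_mem hc)))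
      (tt T.t2 _)
  have td : t * (t * d * t⁻¹ * d⁻¹) * t⁻¹ = (t * d * t⁻¹ * d⁻¹)⁻¹ := by
    rw [← conj_mul, tt T.t2]; group
  refine ⟨_, _, { h.toEx with
    ha := ha, hb := hb, hc := mc, hd := md
    ab := or _ ha _ hb ta tb
    ac := ?_
    ad := or _ ha _ md ta td
    bc := by rw [h.anti mc hb, or _ mc _ hb tc tb, neg_zero]
    bd := ?_
    cd := or _ mc _ md tc td }, ta, tb, tc, td⟩
  · have := cj a ha _ (inv_mem hc)
    rw [ta] at this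
    rw [h.mul_r (nt _ (inv_mem hc)) (inv_mem hc) ha, this, h.inv_r hc ha, e1]; rfl
  · have := cj b hb _ hd
    rw [tb, h.inv_l hb (nt _ hd), e2] at this
    rw [h.mul_r (nt _ hd) (inv_mem hd) hb, h.inv_r hd hb, e2]
    grind

theorem sb0 (h : H1 z Q β π σ) (T : It z π σ t) (hne : ∃ q ∈ Q, t * q * t⁻¹ * q ∉ zpowers z) :
    ∃ a b c d, Tb z Q β t a b c d := by
  have nt := h.nC t T.tC
  obtain ⟨q, hq, ha⟩ := hne
  obtain ⟨p, hp, hb⟩ : ∃ p ∈ Q, t * p * t⁻¹ * p⁻¹ ∉ zpowers z := by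
    by_contra! e
    refine h.tQ T (h.cQ t fun p hp => ?_)
    obtain ⟨k, e⟩ := (mem_zp h.z3).1 (e p hp)
    exact mul_inv_eq_iff_eq_mul.1 (tfix h.toEx T.tC (k := k) (by rw [e]; group) (tt T.t2 _))
  exact ⟨_, _, h.sbT T (mul_mem (nt q hq) hq) ha
    (tfix h.toEx T.tC (by rw [← conj_mul, tt T.t2]; exact h.com _ hq _ (nt _ hq)) (tt T.t2 _))
    (mul_mem (nt p hp) (inv_mem hp)) hb (by rw [← conj_mul, tt T.t2]; group)⟩

end H1

end H35.IA
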