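import Mathlib
import Cfsg.Agent.Lib.O83.IA1
import Cfsg.Agent.Lib.O83.Defs

/-! The involution does not invert `Q/Z`; the adapted basis. -/

set_option autoImplicit false
set_option linter.unusedSectionVars false

namespace H35.IA

open Subgroup H20.L43 M4

theorem three : (3 : V4) = 0 := by decide

theorem mv_sub (m : M4) (u v : V4) : mv m (u - v) = mv m u - mv m v := by
  rw [sub_eq_add_neg, mv_add, mv_neg, ← sub_eq_add_neg]

theorem mv_smul (m : M4) (k : ZMod 3) (u : V4) : mv m (k • u) = k • mv m u := by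
  simp only [mv, Prod.ext_iff]; simp; refine ⟨?_, ?_, ?_, ?_⟩ <;> ring

theorem fixv {Y : M4} (Y3 : Y * Y * Y = 1) (P : V4 → Prop) (hP : ∀ v, P v → P (mv Y v - v))
    {e : V4} (he : P e) (e0 : e ≠ 0) : ∃ v, P v ∧ v ≠ 0 ∧ mv Y v = v := by
  by_cases h1 : mv Y e - e = 0
  · exact ⟨e, he, e0, sub_eq_zero.1 h1⟩
  by_cases h2 : mv Y (mv Y e - e) - (mv Y e - e) = 0
  · exact ⟨_, hP _ he, h1, sub_eq_zero.1 h2⟩
  refine ⟨_, hP _ (hP _ he), h2, ?_⟩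
  have : mv Y (mv Y (mv Y e)) = e := by rw [← mv_mul, ← mv_mul, Y3, mv_one]
  simp only [mv_sub, this]
  linear_combination (-(mv Y (mv Y e)) + mv Y e) * three

theorem red {I J Y : M4} (I2 : ∀ v, mv I (mv I v) = -v) (J2 : ∀ v, mv J (mv J v) = -v)
    (IJ : ∀ v, mv J (mv I v) = -mv I (mv J v)) (YI : ∀ v, mv Y (mv I v) = mv J (mv Y v))
    (YJ : ∀ v, mv Y (mv J v) = mv I (mv J (mv Y v))) (Y3 : Y * Y * Y = 1) :
    ∃ v, v ≠ 0 ∧ mv Y v = v ∧ mv Y (mv I v) = v + mv I v := by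
  obtain ⟨v, v0, v1, v2⟩ : ∃ v, v ≠ 0 ∧ mv Y v = v ∧ mv I v + mv J v + mv I (mv J v) = 0 := by
    obtain ⟨u, -, u0, u1⟩ := fixv Y3 (fun _ => True) (fun _ _ => trivial) (e := 1) trivial
      (by decide)
    by_cases e : mv I u + mv J u + mv I (mv J u) = 0
    · exact ⟨u, u0, u1, e⟩
    refine ⟨_, e, ?_, ?_⟩
    · simp only [mv_add, YI, YJ, u1, IJ, J2, mv_neg]
      abel
    · simp only [mv_add, IJ, J2, I2, mv_neg]
      linear_combination (-u) * three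
  refine ⟨v, v0, v1, ?_⟩
  have := congrArg (mv I) v2
  rw [← sub_self v, mv_sub, sub_self] at this
  simp only [mv_add, I2] at this
  rw [YI, v1]
  linear_combination this - v2 + mv J v * three

variable {G : Type*} [Group G] [Finite G] {z : G} {Q : Subgroup G} {β : G → G → ZMod 3}
  {π : G → M2} {σ : G → ZMod 2} {t a b c d i y : G}

theorem co0 (s : Sb z Q β a b c d) {p : G} (hp : p ∈ Q) (e : co β a b c d p = 0) :
    p ∈ zpowers z := by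
  obtain ⟨k, rfl⟩ := s.eq_of_co hp (one_mem _) (e.trans (s.co_z (one_mem _)).symm)
  exact mul_mem (one_mem _) (pw_mem (mem_zpowers z) k)

/-- the generators -/
structure Gn (z : G) (π : G → M2) (σ : G → ZMod 2) (t i y : G) : Prop extends It z π σ t where
  iC : i ∈ Ce z
  i2 : i * i = t
  pi : π i = ⟨0, -1, 1, 0⟩ ∨ π i = ⟨0, 1, -1, 0⟩
  si : σ i = 0
  yC : y ∈ Ce z
  yt : y * t = t * y
  py : π y = ⟨1, 1, 0, 1⟩ ∨ π y = ⟨1, -1, 0, 1⟩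
  sy : σ y = 0

namespace H1

theorem y3 (h : H1 z Q β π σ) (T : Gn z π σ t i y) : y ^ 3 ∈ Q :=
  (h.pk _ (pow_mem T.yC 3)).1 ⟨by rw [h.ppow T.yC]; rcases T.py with e | e <;> rw [e] <;> decide,
    by rw [h.spow T.yC, T.sy, mul_zero]⟩

theorem Y3 (h : H1 z Q β π σ) (T : Gn z π σ t i y) (s : Sb z Q β a b c d) :
    mt β a b c d y * mt β a b c d y * mt β a b c d y = 1 := by
  rw [← pow_three', ← h.mp s T.yC, s.mt_Q (h.y3 T)]

theorem gen0 (h : H1 z Q β π σ) (T : Gn z π σ t i y) {g : G} (hg : g ∈ Ce z) (sg : σ g = 0) :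
    ∃ q ∈ Q, ∃ k l m : ℕ, g = q * (i ^ k * (y * i * y⁻¹) ^ l * y ^ m) := by
  have key : ∀ I ∈ [(⟨0, -1, 1, 0⟩ : M2), ⟨0, 1, -1, 0⟩], ∀ Y ∈ [(⟨1, 1, 0, 1⟩ : M2), ⟨1, -1, 0, 1⟩],
      ∀ m : M2, m.det = 1 → ∃ (k : Fin 4) (l : Fin 2) (n : Fin 3),
        m = I ^ k.1 * (Y * I * Y.iv) ^ l.1 * Y ^ n.1 := by decide +kernel
  obtain ⟨k, l, n, e⟩ := key _ (by simpa using T.pi) _ (by simpa using T.py) _ (h.pd g hg)
  have hj := mul_mem (mul_mem T.yC T.iC) (inv_mem T.yC)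
  have m1 := mul_mem (pow_mem T.iC k.1) (pow_mem hj l.1)
  refine ⟨_, h.peq hg (mul_mem m1 (pow_mem T.yC n.1)) ?_ ?_, k, l, n, by group⟩
  · rw [h.pm _ m1 _ (pow_mem T.yC _), h.pm _ (pow_mem T.iC _) _ (pow_mem hj _), h.ppow T.iC,
      h.ppow hj, h.ppow T.yC, h.pcj T.yC T.iC, e]
  · rw [h.sm _ m1 _ (pow_mem T.yC _), h.sm _ (pow_mem T.iC _) _ (pow_mem hj _), h.spow T.iC,
      h.spow hj, h.spow T.yC, h.scj T.yC T.iC, T.si, T.sy, sg]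
    simp

theorem noneg (h : H1 z Q β π σ) (T : It z π σ t)
    (hmax : ∀ B : Subgroup G, zpowers z < B → B < Q →
      ∃ k ∈ Ce z, σ k = 0 ∧ ∃ b ∈ B, k * b * k⁻¹ ∉ B) :
    ∃ q ∈ Q, t * q * t⁻¹ * q ∉ zpowers z := by
  by_contra! hn
  obtain ⟨b, hb, b1⟩ : ∃ b ∈ Q, b ∉ zpowers z := by
    by_contra! e
    refine h.tQ T (h.cQ t fun q hq => ?_)
    obtain ⟨k, rfl⟩ := (mem_zp h.z3).1 (e q hq)
    exact (pw_comm (mem_Ce.1 T.tC).symm k).symm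
  obtain ⟨a, c, d, s⟩ := h.exists_sb hb b1
  obtain ⟨i, hi, i2, pi, si⟩ := h.exists_i T
  obtain ⟨y, hy, yt, py, sy⟩ := h.exists_y T
  have T' : Gn z π σ t i y := ⟨T, hi, i2, Or.inl pi, si, hy, yt, Or.inl py, sy⟩
  have hj := mul_mem (mul_mem hy hi) (inv_mem hy)
  have mT : ∀ v, mv (mt β a b c d t) v = -v := fun v => by
    have := s.co_z (hn _ (s.ve_mem v))
    rw [s.co_mul (h.nC _ T.tC _ (s.ve_mem v)) (s.ve_mem v), h.cc s T.tC (s.ve_mem v), s.co_ve] at this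
    exact eq_neg_of_add_eq_zero_left this
  have I2 : ∀ v, mv (mt β a b c d i) (mv (mt β a b c d i) v) = -v := fun v => by
    rw [← mv_mul, ← h.mm s hi hi, i2, mT]
  obtain ⟨v, v0, v1, v2⟩ := red (J := mt β a b c d (y * i * y⁻¹)) (Y := mt β a b c d y) I2
    (fun v => by rw [← mv_mul, ← h.mm s hj hj, conj_mul, i2, yt, mul_inv_cancel_right, mT])
    (fun v => by
      rw [← mT, ← mv_mul, ← mv_mul, ← mv_mul, ← h.mm s hj hi, ← h.mm s T.tC hi,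
        ← h.mm s (mul_mem T.tC hi) hj, h.mt_pi s (mul_mem hj hi) (mul_mem (mul_mem T.tC hi) hj)]
      · rw [h.pm _ hj _ hi, h.pm _ (mul_mem T.tC hi) _ hj, h.pm _ T.tC _ hi, h.pcj hy hi, pi, py,
          T.pt]; decide
      · rw [h.sm _ hj _ hi, h.sm _ (mul_mem T.tC hi) _ hj, h.sm _ T.tC _ hi, h.scj hy hi, si, T.st]
        rfl)
    (fun v => by rw [← mv_mul, ← mv_mul, ← h.mm s hy hi, ← h.mm s hj hy, inv_mul_cancel_right])
    (fun v => by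
      rw [← mv_mul, ← mv_mul, ← mv_mul, ← h.mm s hy hj, ← h.mm s hi hj,
        ← h.mm s (mul_mem hi hj) hy, h.mt_pi s (mul_mem hy hj) (mul_mem (mul_mem hi hj) hy)]
      · rw [h.pm _ hy _ hj, h.pm _ (mul_mem hi hj) _ hy, h.pm _ hi _ hj, h.pcj hy hi, pi, py]
        decide
      · rw [h.sm _ hy _ hj, h.sm _ (mul_mem hi hj) _ hy, h.sm _ hi _ hj, h.scj hy hi, si, sy]
        rfl) (h.Y3 T' s)
  let D : AddSubgroup V4 :=
    { carrier := {u | ∃ x w : ZMod 3, x • v + w • mv (mt β a b c d i) v = u}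
      add_mem' := by
        rintro _ _ ⟨x, w, rfl⟩ ⟨x', w', rfl⟩
        exact ⟨x + x', w + w', by module⟩
      zero_mem' := ⟨0, 0, by simp⟩
      neg_mem' := by
        rintro _ ⟨x, w, rfl⟩
        exact ⟨-x, -w, by module⟩ }
  obtain ⟨E, hE⟩ := s.exists_hat D
  obtain ⟨u, hu⟩ : ∃ u, u ∉ D := by
    by_contra! e
    have := Nat.card_le_card_of_surjective
      (fun p : ZMod 3 × ZMod 3 => p.1 • v + p.2 • mv (mt β a b c d i) v)
      fun u => let ⟨x, w, f⟩ := e u; ⟨(x, w), f⟩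
    simp at this
  obtain ⟨k, hk, sk, p, p1, p2⟩ := hmax E
    (lt_of_le_not_ge (fun q hq => (hE q).2 ⟨h.zle hq, s.co_z hq ▸ zero_mem _⟩) fun e => v0 (by
      rw [← s.co_ve v]
      exact s.co_z (e ((hE _).2 ⟨s.ve_mem v, 1, 0, by simp [s.co_ve]⟩))))
    (lt_of_le_not_ge (fun q hq => ((hE q).1 hq).1) fun e => hu (by
      rw [← s.co_ve u]
      exact ((hE _).1 (e (s.ve_mem u))).2))
  have nm : ∀ g ∈ Ce z, (∀ u ∈ D, mv (mt β a b c d g) u ∈ D) → g ∈ normalizer (E : Set G) :=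
    fun g hg f => mem_norm fun q hq => by
      obtain ⟨q1, q2⟩ := (hE q).1 hq
      exact (hE _).2 ⟨h.nC _ hg _ q1, h.cc s hg q1 ▸ f _ q2⟩
  have ni := nm i hi (by
    rintro _ ⟨x, w, rfl⟩
    exact ⟨-w, x, by rw [mv_add, mv_smul, mv_smul, I2]; module⟩)
  have ny := nm y hy (by
    rintro _ ⟨x, w, rfl⟩
    exact ⟨x + w, w, by rw [mv_add, mv_smul, mv_smul, v1, v2]; module⟩)
  obtain ⟨q, hq, l, m, n, rfl⟩ := h.gen0 T' hk sk
  exact p2 (conj_mem (mul_mem (nm q (h.QC hq) fun u hu => by rwa [s.mt_Q hq, mv_one])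
    (mul_mem (mul_mem (pow_mem ni _) (pow_mem (mul_mem (mul_mem ny ni) (inv_mem ny)) _))
      (pow_mem ny _))) p1)

theorem bas1 (h : H1 z Q β π σ) (T : Gn z π σ t i y)
    (hne : ∃ q ∈ Q, t * q * t⁻¹ * q ∉ zpowers z) : ∃ a b c d, Tb z Q β t a b c d ∧
      y * a * y⁻¹ * a⁻¹ ∈ zpowers z ∧ y * b * y⁻¹ * b⁻¹ ∈ zpowers z := by
  obtain ⟨a, b, c, d, s⟩ := h.sb0 T.toIt hne
  have mT := (h.blk T.toIt s).1
  have c1 : ∀ v, mv (mt β a b c d t) (mv (mt β a b c d y) v) =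
      mv (mt β a b c d y) (mv (mt β a b c d t) v) := fun v => by
    rw [← mv_mul, ← mv_mul, h.mtc T.toIt s.toSb T.yC]
  obtain ⟨u, u1, u0, u2⟩ := fixv (h.Y3 T s.toSb) (fun v => mv (mt β a b c d t) v = v)
    (fun v e => by rw [mv_sub, c1, e]) (e := (1, 0, 0, 0)) (by rw [mT]; decide) (by decide)
  obtain ⟨w, w1, w0, w2⟩ := fixv (h.Y3 T s.toSb) (fun v => mv (mt β a b c d t) v = -v)
    (fun v e => by rw [mv_sub, c1, e, mv_neg]; abel) (e := (0, 1, 0, 0)) (by rw [mT]; decide)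
    (by decide)
  have mu := s.ve_mem u
  obtain ⟨k, e⟩ := s.eq_of_co (h.nC _ T.tC _ mu) mu (by rw [h.cc s.toSb T.tC mu, s.co_ve, u1])
  obtain ⟨l, f⟩ := tinv h.toEx T.tC (s.ve_mem w) (co0 s.toSb
    (mul_mem (h.nC _ T.tC _ (s.ve_mem w)) (s.ve_mem w)) (by
      rw [s.co_mul (h.nC _ T.tC _ (s.ve_mem w)) (s.ve_mem w), h.cc s.toSb T.tC (s.ve_mem w),
        s.co_ve, w1, neg_add_cancel]))
  have mw := mul_mem (s.ve_mem w) (pw_mem h.zQ l)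
  have cw : co β a b c d (ve a b c d w * pw z l) = w := by
    rw [s.co_mul (s.ve_mem w) (pw_mem h.zQ l), s.co_ve, s.co_z (pw_mem (mem_zpowers z) l), add_zero]
  have fx : ∀ p ∈ Q, mv (mt β a b c d y) (co β a b c d p) = co β a b c d p →
      y * p * y⁻¹ * p⁻¹ ∈ zpowers z := fun p hp e => co0 s.toSb
    (mul_mem (h.nC _ T.yC _ hp) (inv_mem hp)) (by
      rw [s.co_mul (h.nC _ T.yC _ hp) (inv_mem hp), s.co_inv hp, h.cc s.toSb T.yC hp, e,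
        add_neg_cancel])
  obtain ⟨c', d', s'⟩ := h.sbT T.toIt mu (fun e => u0 (by rw [← s.co_ve u, s.co_z e]))
    (tfix h.toEx T.tC (e.trans (h.pc mu k).symm) (tt T.t2 _)) mw
    (fun e => w0 (by rw [← cw, s.co_z e])) f
  exact ⟨_, _, _, _, s', fx _ mu (by rw [s.co_ve, u2]), fx _ mw (by rw [cw, w2])⟩

theorem blkI (h : H1 z Q β π σ) (T : Gn z π σ t i y) (s : Tb z Q β t a b c d) :
    ∃ B A' B', mt β a b c d i = bl 1 B ∧ B * B = mo ∧ mt β a b c d y = bl A' B' ∧ A'.det = 1 ∧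
      B'.det = 1 ∧ B' ≠ 1 := by
  obtain ⟨mT, f⟩ := h.blk T.toIt s
  obtain ⟨A, B, e1, a1, -⟩ := f i T.iC
  obtain ⟨A', B', e2, a2, b2⟩ := f y T.yC
  have I2 := h.mm s.toSb T.iC T.iC
  rw [T.i2, mT, e1, bl_mul] at I2
  obtain ⟨I1, I2⟩ := bl_inj I2
  have Y3 := h.Y3 T s.toSb
  rw [e2, bl_mul, bl_mul, ← bl_one] at Y3
  have m := mul_mem T.iC T.yC
  have e3 := h.mp s.toSb m 3
  rw [h.mm s.toSb T.iC T.yC, e1, e2, bl_mul, bl_pow] at e3
  have s3 : σ ((i * y) ^ 3) = 0 := by rw [h.spow m, h.sm _ T.iC _ T.yC, T.si, T.sy]; rfl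
  have p3 : π ((i * y) ^ 3) = 1 ∨ π ((i * y) ^ 3) = mo := by
    rw [h.ppow m, h.pm _ T.iC _ T.yC]
    rcases T.pi with e | e <;> rcases T.py with e' | e' <;> rw [e, e'] <;> decide
  have e4 : (A * A') ^ 3 = 1 ∧ ((B * B') ^ 3 = 1 ∨ (B * B') ^ 3 = mo) := by
    rcases p3 with e | e
    · rw [s.mt_Q ((h.pk _ (pow_mem m 3)).1 ⟨e, s3⟩), ← bl_one] at e3
      exact ⟨(bl_inj e3).1.symm, Or.inl (bl_inj e3).2.symm⟩
    · rw [h.mt_pi s.toSb (pow_mem m 3) T.tC (e.trans T.pt.symm) (s3.trans T.st.symm), mT] at e3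
      exact ⟨(bl_inj e3).1.symm, Or.inr (bl_inj e3).2.symm⟩
  have k1 : ∀ A : M2, 1 = A * A → A.det = 1 → ∀ Y : M2, Y * Y * Y = 1 → (A * Y) ^ 3 = 1 → A = 1 := by
    decide +kernel
  have k2 : ∀ B : M2, mo = B * B → ¬((B * 1) ^ 3 = 1 ∨ (B * 1) ^ 3 = mo) := by decide +kernel
  rw [k1 A I1 a1 A' (bl_inj Y3).1 e4.1] at e1
  exact ⟨B, A', B', e1, I2.symm, e2, a2, b2, fun e => k2 B I2 (e ▸ e4.2)⟩

theorem bas2 (h : H1 z Q β π σ) (T : Gn z π σ t i y)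
    (hne : ∃ q ∈ Q, t * q * t⁻¹ * q ∉ zpowers z) : ∃ a b c i, Gn z π σ t i y ∧
      Tb z Q β t a b c (i * b * i⁻¹) ∧
      y * a * y⁻¹ * a⁻¹ ∈ zpowers z ∧ y * b * y⁻¹ * b⁻¹ ∈ zpowers z := by
  obtain ⟨a, b, c, d, s, e1, e2⟩ := h.bas1 T hne
  obtain ⟨j, T', x, e⟩ : ∃ j, Gn z π σ t j y ∧ ∃ x, co β a b c d (j * b * j⁻¹) = (0, x, 0, 1) := by
    obtain ⟨B, -, -, f1, f2, -⟩ := h.blkI T s
    have e := h.cc s.toSb T.iC s.hb
    rw [f1, s.co_b] at e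
    simp only [mv, bl, M2.one_def, mul_zero, mul_one, add_zero, zero_add] at e
    have k : ∀ B : M2, B * B = mo → B.c = 1 ∨ B.c = -1 := by decide +kernel
    rcases k B f2 with f | f
    · exact ⟨i, T, _, f ▸ e⟩
    · have i1 : i⁻¹ = i * t := by
        rw [inv_eq_iff_mul_eq_one, ← mul_assoc, T.i2, T.t2]
      refine ⟨i⁻¹, { T with
        iC := inv_mem T.iC
        i2 := by rw [← mul_inv_rev, T.i2, inv_eq_of_mul_eq_one_right T.t2]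
        pi := by rw [h.pinv T.iC]; rcases T.pi with e | e <;> rw [e] <;> decide
        si := (h.sinv T.iC).trans T.si }, -B.a, ?_⟩
      rw [show i⁻¹ * b * i⁻¹⁻¹ = (i * b * i⁻¹)⁻¹ by
        rw [conj_inv, ← s.tb, i1]; nth_rewrite 2 [← inv_inv i]; rw [← i1, i1]; group, s.co_inv (h.nC _ T.iC _ s.hb), e, f]
      simp
  have m := h.nC _ T'.iC _ s.hb
  simp only [co, Prod.mk.injEq] at e
  refine ⟨a, b, c, j, T', ⟨{ s.toSb with
    hd := m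
    ad := e.2.2.1
    bd := e.2.2.2
    cd := by rw [h.anti m s.hc, e.1, neg_zero] }, s.ta, s.tb, s.tc, ?_⟩, e1, e2⟩
  rw [conj_inv, ← s.tb, ← T'.i2]
  group

theorem bas3 (h : H1 z Q β π σ) (T : It z π σ t)
    (hne : ∃ q ∈ Q, t * q * t⁻¹ * q ∉ zpowers z) : ∃ a b c d i y lam, Gn z π σ t i y ∧
      Tb z Q β t a b c d ∧ mt β a b c d i = bl 1 ⟨0, -1, 1, 0⟩ ∧
      mt β a b c d y = bl ⟨1, lam, 0, 1⟩ ⟨1, 1, 0, 1⟩ := by
  obtain ⟨i, hi, i2, pi, si⟩ := h.exists_i T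
  obtain ⟨y, hy, yt, py, sy⟩ := h.exists_y T
  obtain ⟨a, b, c, j, T', s, e1, e2⟩ :=
    h.bas2 (⟨T, hi, i2, Or.inl pi, si, hy, yt, Or.inl py, sy⟩ : Gn z π σ t i y) hne
  revert s
  generalize hd : j * b * j⁻¹ = d
  intro s
  obtain ⟨B, A', B', f1, f2, f3, f4, f5, f6⟩ := h.blkI T' s
  have g1 := h.cc s.toSb T'.iC s.hb
  rw [hd, f1, s.co_b, s.co_d] at g1
  have fx : ∀ p ∈ Q, y * p * y⁻¹ * p⁻¹ ∈ zpowers z →
      mv (bl A' B') (co β a b c d p) = co β a b c d p := fun p hp e => by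
    have := s.co_z e
    rwa [s.co_mul (h.nC _ hy _ hp) (inv_mem hp), s.co_inv hp, h.cc s.toSb hy hp, f3,
      add_neg_eq_zero] at this
  have g2 := fx a s.ha e1
  have g3 := fx b s.hb e2
  rw [s.co_a] at g2
  rw [s.co_b] at g3
  simp only [mv, bl, M2.one_def, mul_zero, mul_one, add_zero, zero_add, Prod.mk.injEq,
    true_and] at g1 g2 g3
  have k1 : ∀ B : M2, B * B = mo → 0 = B.a ∧ 1 = B.c → B = ⟨0, -1, 1, 0⟩ := by decide +kernel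
  have k2 : ∀ A : M2, A.det = 1 → A.a = 1 → A.c = 0 → A = ⟨1, A.b, 0, 1⟩ := by decide +kernel
  have k3 : ∀ A : M2, A.det = 1 → A ≠ 1 → A.a = 1 ∧ A.c = 0 →
      A = ⟨1, 1, 0, 1⟩ ∨ A = ⟨1, -1, 0, 1⟩ := by decide +kernel
  rw [k1 B f2 g1] at f1
  rw [k2 A' f4 g2.1 g2.2.1] at f3
  rcases k3 B' f5 f6 g3 with e | e
  · exact ⟨a, b, c, d, j, y, _, T', s, f1, e ▸ f3⟩
  · refine ⟨a, b, c, d, j, y⁻¹, A'.b + A'.b, { T' with
      yC := inv_mem hy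
      yt := (Commute.inv_left yt :)
      py := by rw [h.pinv hy, py]; decide
      sy := (h.sinv hy).trans sy }, s, f1, ?_⟩
    rw [h.mt_pi s.toSb (inv_mem hy) (mul_mem hy hy) (by rw [h.pinv hy, h.pm _ hy _ hy, py]; decide)
      (by rw [h.sinv hy, h.sm _ hy _ hy, sy]; rfl), h.mm s.toSb hy hy, f3, bl_mul, e]
    congr 1
    simp [M2.mul_def]

end H1

end H35.IA
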