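import Mathlib
import Cfsg.Agent.Lib.O83.IA2

/-! The centraliser of `z` in coordinates. -/

set_option autoImplicit false
set_option linter.unusedSectionVars false

namespace H35.IA

open Subgroup H20.L43 M4

variable {G : Type*} [Group G] [Finite G] {z : G} {Q : Subgroup G} {β : G → G → ZMod 3}
  {π : G → M2} {σ : G → ZMod 2} {t a b c d i y : G}

namespace H1

theorem exists_c (h : H1 z Q β π σ) (T : It z π σ t) (s : Tb z Q β t a b c d) :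
    ∃ k ∈ Ce z, ∃ ε : ZMod 3, ε * ε = 1 ∧ mt β a b c d k = dg ε 1 ε 1 ∧
      ∀ g ∈ Ce z, σ g = 0 ∨ σ g = σ k := by
  by_cases e : ∀ g ∈ Ce z, σ g = 0
  · exact ⟨1, one_mem _, 1, rfl, s.mt_Q (one_mem _), fun g hg => Or.inl (e g hg)⟩
  push Not at e
  obtain ⟨g, hg, sg⟩ := e
  obtain ⟨k, hk, pk, sk⟩ := h.ps _ (h.pd g hg)
  have m := mul_mem hg (inv_mem hk)
  have p1 : π (g * k⁻¹) = 1 := by
    rw [h.pm _ hg _ (inv_mem hk), h.pinv hk, pk]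
    have := h.pd g hg
    revert this
    generalize π g = y
    revert y
    decide +kernel
  have s1 : ∀ g' ∈ Ce z, σ g' = 0 ∨ σ g' = σ (g * k⁻¹) := fun g' _ => by
    rw [h.sm _ hg _ (inv_mem hk), h.sinv hk, sk, add_zero]
    revert sg
    generalize σ g = x
    generalize σ g' = y
    revert x y
    decide
  generalize g * k⁻¹ = u at *
  obtain ⟨mT, f⟩ := h.blk T s
  obtain ⟨A, B, e1, a1, b1⟩ := f u m
  have e2 := h.mm s.toSb m m
  rw [s.mt_Q ((h.pk _ (mul_mem m m)).1 ⟨by rw [h.pm _ m _ m, p1, mul_one],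
    by rw [h.sm _ m _ m, CharTwo.add_self_eq_zero]⟩), e1, bl_mul, ← bl_one] at e2
  have key : ∀ m : M2, m.det = 1 → 1 = m * m → m = 1 ∨ m = mo := by decide +kernel
  have mt' := h.mm s.toSb m T.tC
  have s2 : ∀ g' ∈ Ce z, σ g' = 0 ∨ σ g' = σ (u * t) := by
    rwa [h.sm _ m _ T.tC, T.st, add_zero]
  rw [e1, mT, bl_mul] at mt'
  rcases key A a1 (bl_inj e2).1 with rfl | rfl <;> rcases key B b1 (bl_inj e2).2 with rfl | rfl
  · exact ⟨u, m, 1, rfl, e1, s1⟩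
  · exact ⟨u * t, mul_mem m T.tC, 1, rfl, mt'.trans (by decide), s2⟩
  · exact ⟨u, m, -1, rfl, e1, s1⟩
  · exact ⟨u * t, mul_mem m T.tC, -1, rfl, mt'.trans (by decide), s2⟩

theorem trans (h : H1 z Q β π σ) (T : Gn z π σ t i y) (s : Tb z Q β t a b c d) {lam : ZMod 3}
    (mi : mt β a b c d i = bl 1 ⟨0, -1, 1, 0⟩) (my : mt β a b c d y = bl ⟨1, lam, 0, 1⟩ ⟨1, 1, 0, 1⟩)
    {p : G} (hp : p ∈ Q) (p1 : p ≠ 1) (tp : t * p * t⁻¹ = p⁻¹) : ∃ k, k * t = t * k ∧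
      (∀ q ∈ Q, q * t = t * q → k * q = q * k) ∧ (k * k = t ∨ k = 1 ∨ k = t) ∧ k * b * k⁻¹ = p := by
  have mT := (h.blk T.toIt s).1
  have it : Commute i t := by rw [← T.i2]; exact (Commute.refl i).mul_right (Commute.refl i)
  have yt : Commute y t := T.yt
  have ic : ∀ q ∈ Q, Commute q t → Commute i q := fun q hq e => by
    have e0 : t * q * t⁻¹ = q := by rw [← e.eq, mul_inv_cancel_right]
    have e1 := h.cc s.toSb T.tC hq
    rw [e0, mT] at e1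
    obtain ⟨k, f⟩ := s.eq_of_co (h.nC _ T.iC _ hq) hq (by
      rw [h.cc s.toSb T.iC hq, mi]
      generalize co β a b c d q = v at *
      revert v
      decide +kernel)
    refine mul_inv_eq_iff_eq_mul.1 (tfix h.toEx T.iC (f.trans (h.pc hq k).symm) ?_)
    calc _ = (i * i) * q * (i * i)⁻¹ := by group
      _ = q := by rw [T.i2, e0]
  have uq : ∀ p ∈ Q, ∀ q ∈ Q, t * p * t⁻¹ = p⁻¹ → t * q * t⁻¹ = q⁻¹ →
      co β a b c d p = co β a b c d q → p = q := fun p hp q hq e1 e2 e => by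
    obtain ⟨k, f⟩ := s.eq_of_co hp hq e
    exact h.tuniq T.tC hq f e1 e2
  have ti : ∀ g, Commute g t → ∀ q, t * q * t⁻¹ = q⁻¹ → t * (g * q * g⁻¹) * t⁻¹ = (g * q * g⁻¹)⁻¹ :=
    fun g e q f => by
      rw [conj_inv, ← f]
      calc _ = (t * g) * q * (t * g)⁻¹ := by group
        _ = _ := by rw [← e.eq]; group
  have yb : Commute y b := mul_inv_eq_iff_eq_mul.1 (uq _ (h.nC _ T.yC _ s.hb) _ s.hb
    (ti y yt b s.tb) s.tb (by rw [h.cc s.toSb T.yC s.hb, my, s.co_b]; simp [mv, bl]))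
  have e1 := h.cc s.toSb T.tC hp
  rw [tp, s.co_inv hp, mT] at e1
  have e2 : co β a b c d p ≠ 0 := fun e => p1 (uq p hp 1 (one_mem _) tp (by simp)
    (e.trans (s.co_z (one_mem _)).symm))
  have key : ∀ (lam : ZMod 3) (v : V4), -v = mv (bl 1 mo) v → v ≠ 0 → ∃ (m : Fin 3) (n : Fin 4),
      mv (bl ⟨1, lam, 0, 1⟩ ⟨1, 1, 0, 1⟩ ^ m.1) (mv (bl 1 ⟨0, -1, 1, 0⟩ ^ n.1) (0, 1, 0, 0)) = v := by
    decide +kernel
  obtain ⟨m, n, e⟩ := key lam _ e1 e2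
  have c1 : Commute (y ^ m.1 * i ^ n.1 * (y ^ m.1)⁻¹) t :=
    ((yt.pow_left _).mul_left (it.pow_left _)).mul_left (yt.pow_left _).inv_left
  have m1 := pow_mem T.yC m.1
  have m2 := pow_mem T.iC n.1
  refine ⟨y ^ m.1 * i ^ n.1 * (y ^ m.1)⁻¹, c1, fun q hq f => ?_, ?_, ?_⟩
  · have f' : Commute q t := f
    have := (ic _ (h.nC _ (inv_mem m1) q hq) (((yt.pow_left m.1).inv_left.mul_left f').mul_left
      (yt.pow_left m.1).inv_left.inv_left)).pow_left n.1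
    calc _ = y ^ m.1 * (i ^ n.1 * ((y ^ m.1)⁻¹ * q * (y ^ m.1)⁻¹⁻¹)) * (y ^ m.1)⁻¹ := by group
      _ = _ := by rw [this.eq]; group
  · have yc : y ^ m.1 * t * (y ^ m.1)⁻¹ = t := by rw [(yt.pow_left _).eq, mul_inv_cancel_right]
    fin_cases n
    · exact Or.inr (Or.inl (by simp))
    · exact Or.inl (by simp only [pow_one, conj_mul, T.i2, yc])
    · exact Or.inr (Or.inr (by simp only [sq, T.i2, yc]))
    · refine Or.inl ?_
      simp only [conj_mul]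
      rw [← sq, ← pow_mul, mul_comm 3 2, pow_mul, sq, T.i2, pow_three, T.t2, mul_one, yc]
  · refine uq _ (h.nC _ (mul_mem (mul_mem m1 m2) (inv_mem m1)) _ s.hb) _ hp (ti _ c1 b s.tb) tp ?_
    rw [show y ^ m.1 * i ^ n.1 * (y ^ m.1)⁻¹ * b * (y ^ m.1 * i ^ n.1 * (y ^ m.1)⁻¹)⁻¹ =
      y ^ m.1 * (i ^ n.1 * b * (i ^ n.1)⁻¹) * (y ^ m.1)⁻¹ by
        rw [mul_assoc _ _ b, (yb.pow_left m.1).inv_left.eq]; group,
      h.cc s.toSb m1 (h.nC _ m2 _ s.hb), h.cc s.toSb m2 s.hb, h.mp s.toSb T.yC, h.mp s.toSb T.iC,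
      mi, my, s.co_b, e]

theorem fin (h : H1 z Q β π σ) (syl : ¬ 3 ^ 7 ∣ Nat.card G) (T : It z π σ t)
    (hne : ∃ q ∈ Q, t * q * t⁻¹ * q ∉ zpowers z) :
    ∃ a1 a2 b1 b2 i y c lam ε, H12.O83.Hy z Q β a1 a2 b1 b2 t i y c lam ε := by
  obtain ⟨a, b, c, d, i, y, lam, T', s, mi, my⟩ := h.bas3 T hne
  obtain ⟨k, hk, ε, ε2, mc, sk⟩ := h.exists_c T s
  refine ⟨a, b, c, d, i, y, k, lam, ε, { s.toSb with
    cQ := h.cQ
    nQ := fun g hg => h.nQ hg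
    syl := syl
    tN := fun g hg => h.tN T hg
    tz := mem_Ce.1 T.tC
    ta1 := mul_inv_eq_iff_eq_mul.1 s.ta
    tb1 := mul_inv_eq_iff_eq_mul.1 s.tc
    ta2 := s.tb
    tb2 := s.td
    t2 := T.t2
    tr := fun p hp p1 tp => h.trans T' s mi my hp p1 tp
    iz := mem_Ce.1 T'.iC
    mi := mi
    yz := mem_Ce.1 T'.yC
    yt := T'.yt
    y3 := h.y3 T'
    my := my
    cz := mem_Ce.1 hk
    ε2 := ε2
    mc := mc
    gen := fun g hg => ?_ }⟩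
  have hg := mem_Ce.2 hg
  rcases sk g hg with e | e
  · obtain ⟨q, hq, l, m, n, f⟩ := h.gen0 T' hg e
    exact ⟨q, hq, l, m, n, 0, by rw [pow_zero, mul_one, f]⟩
  · obtain ⟨q, hq, l, m, n, f⟩ := h.gen0 T' (mul_mem hg (inv_mem hk)) (by
      rw [h.sm _ hg _ (inv_mem hk), h.sinv hk, e, CharTwo.add_self_eq_zero])
    exact ⟨q, hq, l, m, n, 1, by rw [pow_one, ← mul_assoc, ← f, inv_mul_cancel_right]⟩

end H1

end H35.IA
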