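import Cfsg.Agent.Lib.O83.Defs
import Cfsg.Agent.Lib.P3L.A4
import Cfsg.Agent.Lib.O83.IA3

/-! From the hypotheses of the statement to coordinates (package IA). -/

set_option autoImplicit false
set_option linter.unusedSectionVars false

namespace H12.O83

open Subgroup H20.L43 H69

variable {G : Type*} [Group G] [Finite G]

open Cfsg in
theorem exists_hy (S : Sylow 3 G) (Z : Subgroup G)
    (hZ : Z = (S : Subgroup G) ⊓ Subgroup.centralizer ((S : Subgroup G) : Set G))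
    (C : Subgroup G) (hCZ : C = Subgroup.centralizer (Z : Set G))
    (Q : Subgroup G) (hQ : Q = (Cfsg.pCore 3 C).map C.subtype)
    (hQex : Cfsg.IsExtraspecial 3 Q) (hQcard : Nat.card Q = 3 ^ 5) (hQexp : ∀ a ∈ Q, a ^ 3 = 1)
    (hCQ : Subgroup.centralizer (Q : Set G) ≤ Q)
    (hZQ : ∃ x : G, Z.map (MulAut.conj x).toMonoidHom ≤ Q ∧ Z.map (MulAut.conj x).toMonoidHom ≠ Z)
    (K : Subgroup G) (hK : K = ((Cfsg.pResidual 2 (C ⧸ Cfsg.pCore 3 C)).comap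
      (QuotientGroup.mk' (Cfsg.pCore 3 C))).map C.subtype)
    (r : ℕ) (A : Fin (r + 1) → Subgroup G) (hA0 : A 0 = Z) (hAr : A (Fin.last r) = Q)
    (hmono : ∀ i : Fin r, A i.castSucc < A i.succ)
    (hinv : ∀ i : Fin (r + 1), ∀ k ∈ K, ∀ a ∈ A i, k * a * k⁻¹ ∈ A i)
    (hmax : ∀ i : Fin r, ∀ B : Subgroup G, A i.castSucc < B → B < A i.succ →
      ∃ k ∈ K, ∃ b ∈ B, k * b * k⁻¹ ∉ B)
    (e : Nonempty (C ⧸ Cfsg.pCore 3 C ≃* Matrix.SpecialLinearGroup (Fin 2) (ZMod 3)) ∨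
      Nonempty (C ⧸ Cfsg.pCore 3 C ≃*
        Matrix.SpecialLinearGroup (Fin 2) (ZMod 3) × Multiplicative (ZMod 2)))
    (hone : ∃! i : Fin r, (∃ k ∈ K, ∃ a ∈ A i.succ, k * a * k⁻¹ * a⁻¹ ∉ A i.castSucc)) :
    ∃ z β a1 a2 b1 b2 t i y c lam ε, Hy z Q β a1 a2 b1 b2 t i y c lam ε ∧
      ∃ x ∈ Q, x ∉ zpowers z ∧ IsConj z x := by
  classical
  obtain ⟨e, einj, esj⟩ : ∃ e : C ⧸ Cfsg.pCore 3 C →*
      Matrix.SpecialLinearGroup (Fin 2) (ZMod 3) × Multiplicative (ZMod 2),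
      Function.Injective e ∧ ∀ X, ∃ x, e x = (X, 1) := by
    rcases e with ⟨⟨e⟩⟩ | ⟨⟨e⟩⟩
    · exact ⟨(MonoidHom.inl _ _).comp e.toMonoidHom,
        fun x y h => e.injective (congrArg Prod.fst h), fun X => ⟨e.symm X, by simp⟩⟩
    · exact ⟨e.toMonoidHom, e.injective, fun X => ⟨e.symm (X, 1), by simp⟩⟩
  have QC : Q ≤ C := hQ ▸ map_subtype_le _
  have mQ : ∀ g (hg : g ∈ C), g ∈ Q ↔ (⟨g, hg⟩ : C) ∈ pCore 3 C := fun g hg => by
    rw [hQ]
    exact ⟨fun ⟨x, h1, h2⟩ => (show x = ⟨g, hg⟩ from Subtype.ext h2) ▸ h1, fun h => ⟨_, h, rfl⟩⟩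
  have ZQ : ∀ x ∈ Z, ∀ q ∈ Q, q * x = x * q := fun x hx q hq =>
    ((hCZ ▸ QC hq : q ∈ centralizer (Z : Set G)) x hx).symm
  have c3 : 3 ^ 5 ∣ Nat.card S := S.pow_dvd_card_of_pow_dvd_card (hQcard ▸ card_subgroup_dvd_card Q)
  have : Nontrivial S := Finite.one_lt_card_iff_nontrivial.1
    (lt_of_lt_of_le (by norm_num) (Nat.le_of_dvd Nat.card_pos c3))
  obtain ⟨⟨⟨z, zS⟩, zc⟩, z1⟩ := @exists_ne _ (S.isPGroup'.center_nontrivial) 1
  have zZ : z ∈ Z := hZ ▸ ⟨zS, fun s hs => congrArg Subtype.val (mem_center_iff.1 zc ⟨s, hs⟩)⟩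
  have z1 : z ≠ 1 := fun h => z1 (Subtype.ext (Subtype.ext h))
  have zQ : z ∈ Q := hCQ (ZQ z zZ)
  have z3 := hQexp z zQ
  have cen : ∀ x (hx : x ∈ Q), (⟨x, hx⟩ : Q) ∈ center Q → x ∈ zpowers z := fun x hx hc => by
    have : zpowers (⟨z, zQ⟩ : Q) = center Q := by
      refine eq_of_le_of_card_ge (zpowers_le.2 (mem_center_iff.2 fun q => Subtype.ext (ZQ z zZ q q.2))) ?_
      rw [hQex.2, Nat.card_zpowers, orderOf_eq_prime (p := 3) (Subtype.ext z3)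
        fun h => z1 (congrArg Subtype.val h)]
    obtain ⟨n, hn⟩ := this ▸ hc
    exact ⟨n, congrArg Subtype.val hn⟩
  have Zz : Z = zpowers z := le_antisymm (fun x hx => cen x (hCQ (ZQ x hx))
    (mem_center_iff.2 fun q => Subtype.ext (ZQ x hx q q.2))) (zpowers_le.2 zZ)
  have Cz : C = Ce z := by rw [hCZ, Zz, zpowers_eq_closure, centralizer_closure]
  have com : ∀ a ∈ Q, ∀ b ∈ Q, ∃ k, a * b = pw z k * (b * a) := fun a ha b hb => by
    obtain ⟨k, hk⟩ := (mem_zp z3).1 (cen _ (mul_mem (mul_mem (mul_mem ha hb) (inv_mem ha)) (inv_mem hb))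
      (hQex.1.2.2 ▸ commutator_mem_commutator (mem_top (⟨a, ha⟩ : Q)) (mem_top ⟨b, hb⟩)))
    exact ⟨k, by rw [hk]; group⟩
  choose! β hβ using com
  let tm : Matrix.SpecialLinearGroup (Fin 2) (ZMod 3) → M2 := fun A => ⟨A 0 0, A 0 1, A 1 0, A 1 1⟩
  let π : G → M2 := fun g => if hg : g ∈ C then tm (e (QuotientGroup.mk ⟨g, hg⟩)).1 else 1
  let σ : G → ZMod 2 := fun g => if hg : g ∈ C then (e (QuotientGroup.mk ⟨g, hg⟩)).2.toAdd else 0
  have pe : ∀ g (hg : g ∈ C), π g = tm (e (QuotientGroup.mk ⟨g, hg⟩)).1 := fun g hg => dif_pos hg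
  have se : ∀ g (hg : g ∈ C), σ g = (e (QuotientGroup.mk ⟨g, hg⟩)).2.toAdd :=
    fun g hg => dif_pos hg
  have h0 : H35.IA.H1 z Q β π σ :=
    { z1 := z1, zQ := zQ, q3 := hQexp, card := hQcard, zc := ZQ z zZ, com := hβ
      nd := fun a ha h => cen a ha (mem_center_iff.2 fun q => Subtype.ext (by
        simpa [h q q.2] using (hβ a ha q q.2).symm))
      cQ := fun g hg => hCQ fun q hq => (hg q hq).symm
      nC := Cz ▸ fun g hg q hq => (mQ _ (mul_mem (mul_mem hg (QC hq)) (inv_mem hg))).2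
        ((inferInstance : (pCore 3 C).Normal).conj_mem _ ((mQ q (QC hq)).1 hq) ⟨g, hg⟩)
      pm := Cz ▸ fun g hg k hk => by
        rw [pe _ hg, pe _ hk, pe _ (mul_mem hg hk), show (⟨g * k, mul_mem hg hk⟩ : C) =
          ⟨g, hg⟩ * ⟨k, hk⟩ from rfl, QuotientGroup.mk_mul, map_mul]
        simp [tm, M2.mul_def, Matrix.mul_apply, Fin.sum_univ_two]
      sm := Cz ▸ fun g hg k hk => by
        rw [se _ hg, se _ hk, se _ (mul_mem hg hk), show (⟨g * k, mul_mem hg hk⟩ : C) =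
          ⟨g, hg⟩ * ⟨k, hk⟩ from rfl, QuotientGroup.mk_mul, map_mul]
        rfl
      pd := Cz ▸ fun g hg => by
        rw [pe _ hg]
        exact (Matrix.det_fin_two _).symm.trans (e (QuotientGroup.mk ⟨g, hg⟩)).1.2
      pk := Cz ▸ fun g hg => by
        rw [pe _ hg, se _ hg, mQ g hg, ← QuotientGroup.eq_one_iff, ← map_eq_one_iff e einj]
        generalize e _ = X
        refine ⟨fun h => Prod.ext ?_ h.2, fun h => h ▸ ⟨rfl, rfl⟩⟩
        have h := h.1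
        simp only [tm, M2.ext_iff, M2.one_def] at h
        ext i j
        fin_cases i <;> fin_cases j <;> simp [h]
      ps := Cz ▸ fun m hm => by
        obtain ⟨x, hx⟩ := esj ⟨!![m.a, m.b; m.c, m.d], (Matrix.det_fin_two_of ..).trans hm⟩
        obtain ⟨⟨g, hg⟩, rfl⟩ := QuotientGroup.mk_surjective x
        exact ⟨g, hg, by rw [pe _ hg, hx]; rfl, by rw [se _ hg, hx]; rfl⟩ }
  obtain ⟨t, T⟩ := h0.exists_t
  have k3 : ∀ g ∈ Ce z, g ^ 3 ∈ Q → g ∈ K := fun g hg h => by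
    have hC : g ∈ C := Cz ▸ hg
    rw [hK]
    refine ⟨⟨g, hC⟩, subset_closure (Nat.Coprime.coprime_dvd_left (orderOf_dvd_of_pow_eq_one
      (n := 3) ?_) (by norm_num)), rfl⟩
    rw [← map_pow, QuotientGroup.mk'_apply, QuotientGroup.eq_one_iff]
    exact (mQ _ (pow_mem hC 3)).1 h
  have tK : t ∈ K := by
    obtain ⟨u, hu, pu, su⟩ := h0.ps ⟨1, 1, 0, 1⟩ (by decide)
    obtain ⟨v, hv, pv, sv⟩ := h0.ps ⟨1, 0, 1, 1⟩ (by decide)
    have m := mul_mem (k3 u hu ((h0.pk _ (pow_mem hu 3)).1 ⟨by rw [h0.ppow hu, pu]; decide,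
      by rw [h0.spow hu, su, mul_zero]⟩)) (k3 v hv ((h0.pk _ (pow_mem hv 3)).1
        ⟨by rw [h0.ppow hv, pv]; decide, by rw [h0.spow hv, sv, mul_zero]⟩))
    have m' := mul_mem hu hv
    have := h0.peq T.tC (mul_mem m' m') (by
      rw [h0.pm _ m' _ m', h0.pm _ hu _ hv, pu, pv, T.pt]; decide) (by
      rw [h0.sm _ m' _ m', T.st, CharTwo.add_self_eq_zero])
    exact (K.mul_mem_cancel_right (inv_mem (mul_mem m m))).1
      (k3 _ (h0.QC this) (pow_mem this 3))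
  have Ks : ∀ k ∈ K, k ∈ Ce z ∧ σ k = 0 := by
    rw [hK]
    rintro _ ⟨⟨g, hg⟩, h, rfl⟩
    refine ⟨Cz ▸ hg, ?_⟩
    have : pResidual 2 (C ⧸ pCore 3 C) ≤ ((MonoidHom.snd _ _).comp e).ker :=
      (closure_le _).2 fun x hx => by
        have h1 := orderOf_map_dvd ((MonoidHom.snd _ _).comp e) x
        have h2 : orderOf (((MonoidHom.snd _ _).comp e) x) ∣ 2 := by
          simpa using orderOf_dvd_card (x := ((MonoidHom.snd _ _).comp e) x)
        exact orderOf_eq_one_iff.1 (Nat.eq_one_of_dvd_coprimes hx h1 h2)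
    exact (se g hg).trans (congrArg Multiplicative.toAdd (this h))
  have mono : Monotone A := (Fin.strictMono_iff_lt_succ.2 hmono).monotone
  have hne : ∃ q ∈ Q, t * q * t⁻¹ * q ∉ zpowers z := by
    by_contra hn
    refine hn (h0.noneg T fun B h1 h2 => ?_)
    push Not at hn
    have all : ∀ l : Fin r, ∃ k ∈ K, ∃ a ∈ A l.succ, k * a * k⁻¹ * a⁻¹ ∉ A l.castSucc := fun l => by
      obtain ⟨a, a1, a2⟩ := SetLike.exists_of_lt (hmono l)
      have aQ : a ∈ Q := hAr ▸ mono (Fin.le_last _) a1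
      refine ⟨t, tK, a, a1, fun f => a2 ?_⟩
      have := mul_mem (inv_mem (mono (Fin.zero_le _) (hA0 ▸ Zz ▸ hn a aQ))) f
      rwa [show (t * a * t⁻¹ * a)⁻¹ * (t * a * t⁻¹ * a⁻¹) = a⁻¹ * a⁻¹ by group,
        cube_inv (hQexp a aQ)] at this
    obtain ⟨i, -, hi⟩ := hone
    have i0 : i.castSucc = 0 := by
      have := hi ⟨0, i.pos⟩ (all _)
      rw [← this]; rfl
    have i1 : i.succ = Fin.last r := by
      have := hi ⟨r - 1, by have := i.pos; omega⟩ (all _)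
      have := i.pos
      rw [← ‹_ = i›]
      exact Fin.ext (by simp; omega)
    obtain ⟨k, hk, f⟩ := hmax i B (by rwa [i0, hA0, Zz]) (by rwa [i1, hAr])
    exact ⟨k, (Ks k hk).1, (Ks k hk).2, f⟩
  have syl : ¬ 3 ^ 7 ∣ Nat.card G := fun h => by
    have h1 := (S.pow_dvd_card_of_pow_dvd_card h).trans (card_dvd_of_le (show (S : Subgroup G) ≤ C from
      fun s hs => hCZ ▸ fun x hx => ((hZ ▸ hx : x ∈ (S : Subgroup G) ⊓ _).2 s hs).symm))
    rw [card_eq_card_quotient_mul_card_subgroup (pCore 3 C),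
      ← card_map_of_injective C.subtype_injective, ← hQ, hQcard] at h1
    have h2 := h1.trans (Nat.mul_dvd_mul_right (card_dvd_of_injective e einj) _)
    rw [Nat.card_prod, Nat.card_eq_fintype_card, Nat.card_eq_fintype_card,
      show Fintype.card (Matrix.SpecialLinearGroup (Fin 2) (ZMod 3)) = 24 by decide +kernel] at h2
    norm_num at h2
  obtain ⟨a1, a2, b1, b2, i, y, c, lam, ε, H⟩ := h0.fin syl T hne
  refine ⟨z, β, a1, a2, b1, b2, t, i, y, c, lam, ε, H, ?_⟩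
  obtain ⟨x, h1, h2⟩ := hZQ
  refine ⟨x * z * x⁻¹, h1 ⟨z, zZ, rfl⟩, fun h => h2 ?_, isConj_iff.2 ⟨x, rfl⟩⟩
  refine eq_of_le_of_card_ge ?_ (card_map_of_injective (MulAut.conj x).injective).ge
  rw [Zz, MonoidHom.map_zpowers]
  exact zpowers_le.2 h

end H12.O83
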