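import Cfsg.Agent.Lib.O83.IB1A

/-! The subgroup `J` and its coordinates (package IB1, part B). -/

set_option autoImplicit false
set_option linter.unusedSectionVars false

namespace H65.IB

open Subgroup H20.L43 H69 H12 H12.O83

variable {G : Type*} [Group G] [Finite G]

/-- four commuting elements of order dividing three -/
structure Cm (a b c d : G) : Prop where
  a3 : a ^ 3 = 1
  b3 : b ^ 3 = 1
  c3 : c ^ 3 = 1
  d3 : d ^ 3 = 1
  ab : Commute a b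
  ac : Commute a c
  ad : Commute a d
  bc : Commute b c
  bd : Commute b d
  cd : Commute c d

theorem cpw {a b : G} (h : Commute a b) (k l : ZMod 3) : Commute (pw a k) (pw b l) :=
  h.pow_pow _ _

theorem Cm.add {a b c d : G} (h : Cm a b c d) (u v : V4) :
    ve a b c d (u + v) = ve a b c d u * ve a b c d v := by
  simp only [ve, Prod.fst_add, Prod.snd_add, pw_add h.a3, pw_add h.b3, pw_add h.c3, pw_add h.d3]
  rw [(cpw h.ab _ _).mul_mul_mul_comm,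
    ((cpw h.ac _ _).mul_left (cpw h.bc _ _)).mul_mul_mul_comm,
    (((cpw h.ad _ _).mul_left (cpw h.bd _ _)).mul_left (cpw h.cd _ _)).mul_mul_mul_comm]

theorem ve_zero {a b c d : G} : ve a b c d 0 = 1 := by simp [ve]

theorem Cm.smul {a b c d : G} (h : Cm a b c d) (k : ZMod 3) (u : V4) :
    pw (ve a b c d u) k = ve a b c d (k • u) := by
  rcases zm3 k with rfl | rfl | rfl
  · simp [ve_zero]
  · simp
  · rw [pw, show (-1 : ZMod 3).val = 2 from rfl, pow_two, ← h.add]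
    congr 1
    revert u; decide +kernel

theorem Cm.cj {a b c d g : G} (h : Cm a b c d) {p q r s : V4} (e1 : g * a * g⁻¹ = ve a b c d p)
    (e2 : g * b * g⁻¹ = ve a b c d q) (e3 : g * c * g⁻¹ = ve a b c d r)
    (e4 : g * d * g⁻¹ = ve a b c d s) (u : V4) :
    g * ve a b c d u * g⁻¹ = ve a b c d (mv (cols p q r s) u) := by
  rw [ve, ← conj_mul, ← conj_mul, ← conj_mul, pw_conj, pw_conj, pw_conj, pw_conj, e1, e2, e3, e4,
    h.smul, h.smul, h.smul, h.smul, ← h.add, ← h.add, ← h.add]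
  congr 1
  simp only [mv, cols, Prod.ext_iff]; simp; refine ⟨?_, ?_, ?_, ?_⟩ <;> ring

/-- coordinates in the basis `z, e₄, r, z₂` -/
def Lx (x : V4) : V4 := (x.2.2.1 + dt x vz, x.2.2.2, x.1 + dt x vz - x.2.2.1, dt x vz)

/-- the parametrisation of `J` -/
def ff (z E a y : G) (x : V4) : G := ve z E a y (Lx x)

theorem eqns_B : True := by
  have := @Lx.eq_1
  have := @ff.eq_1.{0}
  trivial

theorem Lx_add (x y : V4) : Lx (x + y) = Lx x + Lx y := by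
  simp only [Lx, dt, vz, Prod.ext_iff]; simp; refine ⟨?_, ?_, ?_⟩ <;> ring

/-- the fourth generator of `J` -/
structure Yd (z : G) (β : G → G → ZMod 3) (a1 a2 b1 b2 t y E : G) : Prop where
  yz : y * z = z * y
  y1 : y * a1 = a1 * y
  y2 : y * a2 = a2 * y
  yt : y * t = t * y
  y3 : y ^ 3 = 1
  my : mt β a1 a2 b1 b2 y = mY (-1)
  hE : ∃ k, E = a1⁻¹ * pw z k
  bE : b1 * y * b1⁻¹ = z * E⁻¹ * y

variable {z a1 a2 b1 b2 t i y c : G} {Q : Subgroup G} {β : G → G → ZMod 3} {lam ε : ZMod 3}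

section
variable (h : O83.Hy z Q β a1 a2 b1 b2 t i y c lam ε)
include h

theorem exists_g {x : G} (hx : x ∈ Q) (h1 : x ∉ zpowers z) (hc : IsConj z x) :
    ∃ g, g * z * g⁻¹ ∈ Q ∧ g * z * g⁻¹ ∉ zpowers z ∧
      (co β a1 a2 b1 b2 (g * z * g⁻¹)).2.2.2 = 0 := by
  obtain ⟨g, rfl⟩ := isConj_iff.1 hc
  obtain ⟨k, l, e⟩ := F4 (co β a1 a2 b1 b2 (g * z * g⁻¹))
  obtain ⟨f1, f2⟩ := m_B h k l
  generalize i ^ k.1 * (y * i * y⁻¹) ^ l.1 = B at f1 f2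
  have e1 : B * g * z * (B * g)⁻¹ = B * (g * z * g⁻¹) * B⁻¹ := by group
  refine ⟨B * g, e1 ▸ nC h f1 hx, fun f => h1 ?_, by rw [e1, cocj h f1 hx, f2, e]⟩
  obtain ⟨m, hm⟩ := (mem_zp h.z3).1 f
  have : B⁻¹ * pw z m * B⁻¹⁻¹ = pw z m := by rw [pw_conj, cz (inv_mem f1)]
  rw [hm, e1] at this
  rw [show g * z * g⁻¹ = B⁻¹ * (B * (g * z * g⁻¹) * B⁻¹) * B⁻¹⁻¹ by group, this, ← e1]
  exact f

theorem exists_y {x : G} (hx : x ∈ Q) (h1 : x ∉ zpowers z) (hc : IsConj z x) :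
    ∃ u E, Yd z β a1 a2 b1 b2 t u E := by
  obtain ⟨g, gQ, gZ, g4⟩ := exists_g h hx h1 hc
  obtain ⟨-, rfl, -, g3, -, g5⟩ := conj_z h gQ gZ
  obtain ⟨v, v3, -, hv⟩ := g5 g4
  obtain ⟨k, e1⟩ := h.eq_of_co (nC h (yC h) h.ha) h.ha (by
    rw [cocj h (yC h) h.ha, h.my, h.co_a]; decide +kernel)
  obtain ⟨l, e2⟩ := h.eq_of_co (nC h (yC h) h.hb) h.hb (by
    rw [cocj h (yC h) h.hb, h.my, h.co_b]; decide +kernel)
  have e3 : y * a2 * y⁻¹ = a2 := by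
    refine h.toSb.toEx.tuniq (tC h) h.hb e2 ?_ h.ta2
    calc _ = t * y * t⁻¹ * (t * a2 * t⁻¹) * (t * y * t⁻¹)⁻¹ := by group
      _ = _ := by rw [← h.yt, mul_inv_cancel_right, h.ta2]; group
  have bQ := pw_mem h.hc k
  have uC : pw b1 k * y ∈ Ce z := mul_mem (QC h bQ) (yC h)
  have u1 : pw b1 k * y * a1 = a1 * (pw b1 k * y) := by
    have := h.conj bQ h.ha
    rw [h.pw_l h.hc h.ha, h.anti h.ha h.hc, h.ac, mul_neg, mul_one] at this
    calc _ = pw b1 k * (y * a1 * y⁻¹) * y := by group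
      _ = pw b1 k * a1 * (pw b1 k)⁻¹ * (pw b1 k * pw z k) * y := by rw [e1]; group
      _ = _ := by
        rw [this, ← h.pc bQ, h.pc h.ha, pw_neg h.z3]; group
  have u2 : pw b1 k * y * a2 = a2 * (pw b1 k * y) := by
    have := pw_comm ((h.comm_iff h.hb h.hc).2 h.bc).symm k
    calc _ = pw b1 k * (y * a2 * y⁻¹) * y := by group
      _ = _ := by rw [e3, this]; group
  have ut : pw b1 k * y * t = t * (pw b1 k * y) := by
    rw [mul_assoc, h.yt, ← mul_assoc, pw_comm h.tb1.symm k, mul_assoc]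
  have um : mt β a1 a2 b1 b2 (pw b1 k * y) = mY (-1) := by
    rw [m_mul h (QC h bQ) (yC h), h.mt_Q bQ, one_mul, h.my]; rfl
  generalize pw b1 k * y = u at uC u1 u2 ut um
  have u9 : u ^ 9 = 1 := by
    rw [show 9 = 3 * 3 from rfl, pow_mul]
    exact h.q3 _ (m_ker h (pow_mem uC 3) (by rw [m_pow h uC, um]; exact (F0 _).1))
  have u3 : u ^ 3 = 1 := by
    obtain ⟨β', h'⟩ := (ky h).conj g
    obtain ⟨m, e⟩ := h.surj gQ
    have cm : ∀ r, r * z = z * r → r * a1 = a1 * r → r * a2 = a2 * r → r ∈ Ce (g * z * g⁻¹) :=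
      fun r f1 f2 f3 => by
        rw [mem_Ce, e, ve, g3, g4, pw_zero, pw_zero, mul_one, mul_one]
        exact (((show Commute r a1 from f2).pow_right _).mul_right
          ((show Commute r a2 from f3).pow_right _)).mul_right
          ((show Commute r z from f1).pow_right _)
    have c1 : Commute a1 u := u1.symm
    rcases h'.k9 a1 (cm _ (h.zc _ h.ha) rfl ((h.comm_iff h.ha h.hb).2 h.ab)) u
      (cm _ (mem_Ce.1 uC) u1 u2) (p9 h.toSb.toEx h.ha) u9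
      (by rw [c1.mul_pow, u9, p9 h.toSb.toEx h.ha, one_mul]) with f | ⟨e, f⟩
    · have := hv a1 h.ha f
      rw [h.co_a] at this
      exact absurd (by simpa [fm] using this) v3
    · have := h'.q3 _ f
      rwa [pw, (c1.symm.pow_right _).mul_pow, ← pow_mul, mul_comm, pow_mul, h.q3 _ h.ha, one_pow,
        mul_one] at this
  obtain ⟨m, e4⟩ := h.eq_of_co (mul_mem h.hc (nC h uC (inv_mem h.hc))) h.ha (by
    rw [h.co_mul h.hc (nC h uC (inv_mem h.hc)), cocj h uC (inv_mem h.hc), um, h.co_inv h.hc,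
      h.co_c, h.co_a]; decide +kernel)
  refine ⟨u, a1⁻¹ * pw z (1 - m), mem_Ce.1 uC, u1, u2, ut, u3, um, ⟨_, rfl⟩, ?_⟩
  calc _ = b1 * (u * b1⁻¹ * u⁻¹) * u := by group
    _ = _ := by
      rw [e4, mul_inv_rev, inv_inv, ← pw_neg h.z3, ← h.pc h.ha, ← mul_assoc z]
      congr 2
      nth_rewrite 2 [← pw_one z]
      rw [← pw_add h.z3]; congr 1; ring

variable {u E : G} (Y : Yd z β a1 a2 b1 b2 t u E)
include Y

theorem Yd.shift (k : ZMod 3) : Yd z β a1 a2 b1 b2 t (u * pw z k) E := by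
  have c : ∀ {p}, u * p = p * u → z * p = p * z → u * pw z k * p = p * (u * pw z k) :=
    fun f1 f2 => Commute.mul_left f1 (pw_comm f2 k)
  refine ⟨c Y.yz rfl, c Y.y1 (h.zc _ h.ha).symm, c Y.y2 (h.zc _ h.hb).symm, c Y.yt h.tz.symm,
    ?_, ?_, Y.hE, ?_⟩
  · rw [(show Commute u (pw z k) from (pw_comm Y.yz.symm k).symm).mul_pow, Y.y3,
      h.q3 _ (pw_mem h.zQ k), one_mul]
  · rw [m_mul h (mem_Ce.2 Y.yz) (QC h (pw_mem h.zQ k)), h.mt_Q (pw_mem h.zQ k), mul_one, Y.my]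
  · rw [← conj_mul, Y.bE, ← h.pc h.hc]; group

theorem EQ : E ∈ Q := by
  obtain ⟨k, rfl⟩ := Y.hE
  exact mul_mem (inv_mem h.ha) (pw_mem h.zQ k)

theorem coE : co β a1 a2 b1 b2 E = (-1, 0, 0, 0) := by
  obtain ⟨k, rfl⟩ := Y.hE
  rw [h.co_mul (inv_mem h.ha) (pw_mem h.zQ k), h.co_inv h.ha, h.co_a,
    h.co_z (pw_mem (mem_zpowers z) k)]; rfl

theorem cE {g : G} (hz : g * z = z * g) : g * E = E * g ↔ g * a1 = a1 * g := by
  obtain ⟨k, rfl⟩ := Y.hE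
  have c : Commute g (pw z k) := (pw_comm hz.symm k).symm
  refine ⟨fun e => ?_, fun e => (Commute.inv_right e).mul_right c⟩
  have := (Commute.mul_right e c.inv_right).inv_right
  rwa [mul_inv_cancel_right, inv_inv] at this

theorem cm : Cm z E a2 u :=
  ⟨h.z3, h.q3 _ (EQ h Y), h.q3 _ h.hb, Y.y3, (h.zc _ (EQ h Y)).symm, (h.zc _ h.hb).symm, Y.yz.symm,
    ((cE h Y (h.zc _ h.hb)).2 ((h.comm_iff h.ha h.hb).2 h.ab).symm).symm,
    ((cE h Y Y.yz).2 Y.y1).symm, Y.y2.symm⟩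

theorem f_add (x x' : V4) : ff z E a2 u (x + x') = ff z E a2 u x * ff z E a2 u x' := by
  rw [ff, Lx_add, (cm h Y).add]; rfl

theorem f_smul (k : ZMod 3) (x : V4) : ff z E a2 u (k • x) = pw (ff z E a2 u x) k := by
  rw [ff, ff, (cm h Y).smul]
  congr 1
  revert k x; decide +kernel

omit h Y in
theorem f_z : ff z E a2 u vz = z := by
  rw [ff, show Lx vz = (1, 0, 0, 0) by decide +kernel]; simp [ve]

omit h Y in
theorem f_e : ff z E a2 u e4 = E := by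
  rw [ff, show Lx e4 = (0, 1, 0, 0) by decide +kernel]; simp [ve]

omit h Y in
theorem f_r : ff z E a2 u vr = a2 := by
  rw [ff, show Lx vr = (0, 0, 1, 0) by decide +kernel]; simp [ve]

omit h Y in
theorem f_y : ff z E a2 u z2 = u := by
  rw [ff, show Lx z2 = (0, 0, 0, 1) by decide +kernel]; simp [ve]

theorem f_shift (k : ZMod 3) (x : V4) :
    ff z E a2 (u * pw z k) x = ff z E a2 u (x + (k * dt x vz) • vz) := by
  rw [f_add h Y, f_smul h Y, f_z, ff, ff, ve, ve, pw_mul (pw_comm Y.yz.symm k).symm, pw_pw h.z3,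
    ← mul_assoc]
  rfl

theorem a0Q (v : V4) : pw z v.1 * pw E v.2.1 * pw a2 v.2.2.1 ∈ Q :=
  mul_mem (mul_mem (pw_mem h.zQ _) (pw_mem (EQ h Y) _)) (pw_mem h.hb _)

theorem fQ {x : V4} : ff z E a2 u x ∈ Q ↔ dt x vz = 0 := by
  rw [ff, ve, mul_mem_cancel_left (a0Q h Y _)]
  refine ⟨fun e => ?_, fun e => by rw [show (Lx x).2.2.2 = 0 from e, pw_zero]; exact one_mem _⟩
  have := h.mt_Q e
  rw [pw, m_pow h (mem_Ce.2 Y.yz), Y.my] at this
  exact (by decide +kernel : ∀ k : ZMod 3, mY (-1) ^ k.val = 1 → k = 0) _ this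

theorem co_f {x : V4} (e : dt x vz = 0) :
    co β a1 a2 b1 b2 (ff z E a2 u x) = (-x.2.2.2, x.1 - x.2.2.1, 0, 0) := by
  rw [ff, ve, show (Lx x).2.2.2 = 0 from e, pw_zero, mul_one,
    h.co_mul (mul_mem (pw_mem h.zQ _) (pw_mem (EQ h Y) _)) (pw_mem h.hb _),
    h.co_mul (pw_mem h.zQ _) (pw_mem (EQ h Y) _), h.co_z (pw_mem (mem_zpowers z) _),
    h.co_pw (EQ h Y), h.co_pw h.hb, coE h Y, h.co_b]
  simp [Lx, e]

theorem f_inj (x : V4) (e : ff z E a2 u x = 1) : x = 0 := by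
  have e0 := (fQ h Y).1 (e ▸ one_mem Q)
  have e1 := co_f h Y e0
  rw [e, h.co_z (one_mem _)] at e1
  obtain ⟨k, rfl⟩ := (by decide +kernel : ∀ x : V4, dt x vz = 0 →
    (0 : V4) = (-x.2.2.2, x.1 - x.2.2.1, 0, 0) → ∃ k : ZMod 3, x = k • vz) x e0 e1
  rw [f_smul h Y, f_z] at e
  rw [pw_eq_one h.z3 h.z1 e, zero_smul]

theorem of_co {q : G} (hq : q ∈ Q) (e3 : (co β a1 a2 b1 b2 q).2.2.1 = 0)
    (e4 : (co β a1 a2 b1 b2 q).2.2.2 = 0) : ∃ x, dt x vz = 0 ∧ q = ff z E a2 u x := by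
  obtain ⟨x, x0, x1⟩ := (by decide +kernel : ∀ v : V4, v.2.2.1 = 0 → v.2.2.2 = 0 →
    ∃ x, dt x vz = 0 ∧ v = (-x.2.2.2, x.1 - x.2.2.1, 0, 0)) _ e3 e4
  obtain ⟨k, e⟩ := h.eq_of_co hq ((fQ h Y).2 x0) (by rw [co_f h Y x0, x1])
  refine ⟨x + k • vz, ?_, by rw [f_add h Y, f_smul h Y, f_z, e]⟩
  exact (by decide +kernel : ∀ x : V4, ∀ k : ZMod 3, dt x vz = 0 → dt (x + k • vz) vz = 0) x k x0

theorem mQ (g : G) : g ∈ Q ↔ ∃ x, ∃ m n : ℕ, dt x vz = 0 ∧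
    g = ff z E a2 u x * (b1 ^ m * b2⁻¹ ^ n) := by
  refine ⟨fun hg => ?_, ?_⟩
  · have hb := mul_mem (pw_mem h.hc (co β a1 a2 b1 b2 g).2.2.1)
      (pw_mem (inv_mem h.hd) (-(co β a1 a2 b1 b2 g).2.2.2))
    have e := h.co_mul hg (inv_mem hb)
    rw [h.co_inv hb, h.co_mul (pw_mem h.hc _) (pw_mem (inv_mem h.hd) _), h.co_pw h.hc,
      h.co_pw (inv_mem h.hd), h.co_inv h.hd, h.co_c, h.co_d] at e
    obtain ⟨x, x0, x1⟩ := of_co h Y (mul_mem hg (inv_mem hb)) (by rw [e]; simp) (by rw [e]; simp)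
    exact ⟨x, _, _, x0, by rw [← x1]; exact (inv_mul_cancel_right _ _).symm⟩
  · rintro ⟨x, m, n, x0, rfl⟩
    exact mul_mem ((fQ h Y).2 x0) (mul_mem (pow_mem h.hc m) (pow_mem (inv_mem h.hd) n))

theorem aO (x : V4) : b1 * ff z E a2 u x * b1⁻¹ = ff z E a2 u (mv mO x) := by
  rw [ff, (cm h Y).cj (p := (1, 0, 0, 0)) (q := (1, 1, 0, 0)) (r := (0, 0, 1, 0))
    (s := (1, -1, 0, 1)), ff]
  · congr 1
    revert x; decide +kernel
  · simp [ve, h.zc _ h.hc]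
  · rw [h.conj h.hc (EQ h Y), h.form h.hc (EQ h Y), h.co_c, coE h Y]; simp [ve, fm]
  · simp [ve, ← (h.comm_iff h.hb h.hc).2 h.bc]
  · simp [ve, Y.bE, pw_neg_one (h.q3 _ (EQ h Y))]

theorem bB (x : V4) : b2⁻¹ * ff z E a2 u x * b2⁻¹⁻¹ = ff z E a2 u (mv mB x) := by
  have hd := inv_mem h.hd
  have uC : u ∈ Ce z := mem_Ce.2 Y.yz
  rw [ff, (cm h Y).cj (p := (1, 0, 0, 0)) (q := (0, 1, 0, 0)) (r := (1, 0, 1, 0))
    (s := (-1, 0, 1, 1)), ff]
  · congr 1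
    revert x; decide +kernel
  · rw [h.zc _ hd]; simp [ve]
  · rw [h.conj hd (EQ h Y), h.form hd (EQ h Y), h.co_inv h.hd, h.co_d, coE h Y]; simp [ve, fm]
  · rw [h.conj hd h.hb, h.form hd h.hb, h.co_inv h.hd, h.co_d, h.co_b]; simp [ve, fm]
  · obtain ⟨k, e⟩ := h.eq_of_co (mul_mem hd (nC h uC h.hd)) h.hb (by
      rw [h.co_mul hd (nC h uC h.hd), cocj h uC h.hd, Y.my, h.co_inv h.hd, h.co_d, h.co_b]
      decide +kernel)
    have e1 : u * b2 * u⁻¹ = b2 * (a2 * pw z k) := by rw [← e]; group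
    have e2 : u * b2⁻¹ * u⁻¹ = b2⁻¹ * (a2⁻¹ * pw z k) := by
      calc _ = t * u * t⁻¹ * (t * b2 * t⁻¹) * (t * u * t⁻¹)⁻¹ := by
            rw [← Y.yt, mul_inv_cancel_right, h.tb2]
        _ = t * (u * b2 * u⁻¹) * t⁻¹ := by group
        _ = _ := by rw [e1, ← conj_mul, ← conj_mul, h.tb2, h.ta2, pw_conj, cz (tC h)]
    have e3 : b2 * a2 * b2⁻¹ = pw z (-1) * a2 := by
      rw [h.conj h.hd h.hb, h.anti h.hb h.hd, h.bd]
    have e4 : pw z (k + -1 + k) = 1 := by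
      calc _ = pw z k * (pw z (-1) * a2) * (a2⁻¹ * pw z k) := by
            rw [pw_add h.z3, pw_add h.z3]; group
        _ = b2 * (a2 * pw z k) * (b2⁻¹ * (a2⁻¹ * pw z k)) := by
            rw [← e3, h.pc (mul_mem (mul_mem h.hd h.hb) hd), mul_assoc (b2 * a2), ← h.pc hd]; group
        _ = 1 := by rw [← e1, ← e2]; group
    have e5 : k = -1 := by have := pw_eq_one h.z3 h.z1 e4; grind
    calc _ = b2⁻¹ * (u * b2 * u⁻¹) * u := by group
      _ = _ := by rw [e, e5, ← h.pc h.hb]; simp [ve]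

theorem tT (x : V4) : t * ff z E a2 u x * t⁻¹ = ff z E a2 u (mv mT x) := by
  rw [ff, (cm h Y).cj (p := (1, 0, 0, 0)) (q := (0, 1, 0, 0)) (r := (0, 0, -1, 0))
    (s := (0, 0, 0, 1)), ff]
  · congr 1
    revert x; decide +kernel
  · simp [ve, h.tz]
  · simp [ve, (cE h Y h.tz).2 h.ta1]
  · simp [ve, h.ta2, pw_neg_one (h.q3 _ h.hb)]
  · simp [ve, ← Y.yt]

theorem pre : Pre (ff z E a2 u) b1 b2⁻¹ := by
  refine ⟨f_add h Y, f_inj h Y, h.q3 _ h.hc, h.q3 _ (inv_mem h.hd), aO h Y, bB h Y, fun P hP => ?_⟩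
  have uN : zpowers u ≤ 𝐍(Q) := zpowers_le.2 (mem_norm fun q hq => nC h (mem_Ce.2 Y.yz) hq)
  have pQ : IsPGroup 3 Q := pg3 (n := 1) fun q hq => h.q3 q hq
  have pS : IsPGroup 3 (zpowers u ⊔ Q : Subgroup G) :=
    isPGroup_sup_of_le_normalizer_right (pg3 (n := 1) fun q hq => by
      obtain ⟨k, rfl⟩ := (mem_zp Y.y3).1 hq
      rw [pw, pow_one, ← pow_mul, mul_comm, pow_mul, Y.y3, one_pow]) pQ uN
  obtain ⟨S, hS⟩ := pS.exists_le_sylow
  obtain ⟨T, hT⟩ := hP.exists_le_sylow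
  obtain ⟨k, hk⟩ := MulAction.exists_smul_eq G T S
  have e : zpowers u ⊔ Q = S := by
    obtain ⟨n, hn⟩ := IsPGroup.iff_card.1 pS
    obtain ⟨m, hm⟩ := IsPGroup.iff_card.1 S.isPGroup'
    have m6 : m ≤ 6 := by
      by_contra! f
      exact h.syl ((pow_dvd_pow 3 f).trans (hm ▸ card_subgroup_dvd_card _))
    have n6 : 6 ≤ n := by
      by_contra! f
      have : Q = zpowers u ⊔ Q := eq_of_le_of_card_ge le_sup_right (by
        rw [hn, h.card]; exact Nat.pow_le_pow_right (n := 3) (by norm_num) (by omega : n ≤ 5))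
      have uQ : ff z E a2 u z2 ∈ Q := by rw [f_y, this]; exact mem_sup_left (mem_zpowers u)
      exact absurd ((fQ h Y).1 uQ) (by decide +kernel)
    exact eq_of_le_of_card_ge hS (by
      rw [hn, hm]; exact Nat.pow_le_pow_right (by norm_num) (by omega))
  refine ⟨k, fun g hg => ?_⟩
  have : k * g * k⁻¹ ∈ zpowers u ⊔ Q := by
    rw [e, ← hk, coe_smul_sylow]; exact cj_mem k (hT hg)
  obtain ⟨p, hp, q, hq, e1⟩ := (mem_sup_of_le_normalizer_right uN).1 this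
  obtain ⟨l, rfl⟩ := (mem_zp Y.y3).1 hp
  obtain ⟨x, m, n, -, rfl⟩ := (mQ h Y q).1 hq
  exact ⟨l • z2 + x, m, n, by rw [e1, f_add h Y, f_smul h Y, f_y, mul_assoc]⟩

theorem cJ (g : G) (hz : g * z = z * g) (hE : g * E = E * g) (h2 : g * a2 = a2 * g) :
    ∃ x, g = ff z E a2 u x := by
  have h1 := (cE h Y hz).1 hE
  have gC : g ∈ Ce z := mem_Ce.2 hz
  have uC : u ∈ Ce z := mem_Ce.2 Y.yz
  have hl : lam = -1 := by
    have := m_c3 h uC (by rw [show 9 = 3 * 3 from rfl, pow_mul, Y.y3, one_pow])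
    rw [Y.my] at this
    exact (by decide +kernel : ∀ l, mY (-1) ∈ L3 l → l = -1) _ this
  obtain ⟨k, l, m, n, e⟩ := m_gm h gC
  obtain ⟨r, hr⟩ := F5 lam ε h.ε2 k l m n
    (by rw [← e, ← h.co_a, ← cocj h gC h.ha, h1, mul_inv_cancel_right])
    (by rw [← e, ← h.co_b, ← cocj h gC h.hb, h2, mul_inv_cancel_right])
  have hq : g * pw u r ∈ Q := m_ker h (mul_mem gC (pw_mem uC r)) (by
    rw [m_mul h gC (pw_mem uC r), pw, m_pow h uC, e, Y.my, ← hl, hr])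
  obtain ⟨x, -, f⟩ := of_co h Y hq
    ((h.comm_iff h.ha hq).1 (Commute.mul_right h1.symm (pw_comm Y.y1 r).symm))
    ((h.comm_iff h.hb hq).1 (Commute.mul_right h2.symm (pw_comm Y.y2 r).symm))
  exact ⟨x + (-r) • z2, by rw [f_add h Y, f_smul h Y, f_y, ← f, pw_neg Y.y3]; group⟩

theorem lin (g : G) (hg : g * z * g⁻¹ ∈ zpowers z) :
    ∃ c k : ZMod 3, g * E * g⁻¹ = ff z E a2 u (c • e4 + k • vz) := by
  have hn := h.nQ g hg
  have nc : ∀ k ∈ Ce z, g * k * g⁻¹ ∈ Ce z := fun k hk => by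
    obtain ⟨e, he⟩ := (mem_zp h.z3).1 (Hy0.ninv hg)
    have := pw_comm (mem_Ce.1 hk).symm e
    rw [he] at this
    rw [mem_Ce]
    calc _ = g * (k * (g⁻¹ * z * g⁻¹⁻¹)) * g⁻¹ := by group
      _ = _ := by rw [← this]; group
  have uC : u ∈ Ce z := mem_Ce.2 Y.yz
  have mt0 : mt β a1 a2 b1 b2 t = dg 1 (-1) 1 (-1) := by
    rw [H20.L43.mt, h.ta1, h.tb1, h.ta2, h.tb2, mul_inv_cancel_right, mul_inv_cancel_right, h.co_inv h.hb,
      h.co_inv h.hd, h.co_a, h.co_b, h.co_c, h.co_d]; decide +kernel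
  have mt1 : mt β a1 a2 b1 b2 (g * t * g⁻¹) = dg 1 (-1) 1 (-1) := by
    rw [show g * t * g⁻¹ = g * t * g⁻¹ * t * t by rw [mul_assoc _ t t, h.t2, mul_one],
      m_mul h (QC h (h.tN g hg)) (tC h), h.mt_Q (h.tN g hg), one_mul, mt0]
  obtain ⟨e, he⟩ := F6 lam (co β a1 a2 b1 b2 (g * b1 * g⁻¹)) (by
    rw [← mt1, ← cocj h (nc t (tC h)) (hn _ h.hc)]
    congr 1
    calc _ = g * (t * b1 * t⁻¹) * g⁻¹ := by group
      _ = _ := by rw [h.tb1, mul_inv_cancel_right]) _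
    (m_c3 h (nc u uC) (by rw [conj_pow, show 9 = 3 * 3 from rfl, pow_mul, Y.y3]; simp))
  have e1 : g * u * g⁻¹ * (g * b1 * g⁻¹) * (g * u * g⁻¹)⁻¹ =
      g * E * g⁻¹ * (g * z * g⁻¹)⁻¹ * (g * b1 * g⁻¹) := by
    calc _ = g * (E * z⁻¹ * (z * E⁻¹ * u) * b1 * u⁻¹) * g⁻¹ := by group
      _ = g * (E * z⁻¹ * (b1 * u * b1⁻¹) * b1 * u⁻¹) * g⁻¹ := by rw [Y.bE]
      _ = _ := by group
  rw [← cocj h (nc u uC) (hn _ h.hc), e1,
    h.co_mul (mul_mem (hn _ (EQ h Y)) (inv_mem (hn _ h.zQ))) (hn _ h.hc),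
    h.co_mul (hn _ (EQ h Y)) (inv_mem (hn _ h.zQ)), h.co_z (inv_mem hg)] at he
  have e2 : co β a1 a2 b1 b2 (g * E * g⁻¹) = (-e, 0, 0, 0) := by
    rw [show ((-e, 0, 0, 0) : V4) = -(e, 0, 0, 0) by simp, ← he]; abel
  obtain ⟨k, hk⟩ := h.eq_of_co (hn _ (EQ h Y)) (pw_mem (EQ h Y) e) (by
    rw [e2, h.co_pw (EQ h Y), coE h Y]; simp)
  exact ⟨e, k, by rw [f_add h Y, f_smul h Y, f_smul h Y, f_e, f_z, hk]⟩

theorem mid_of (sing : ∀ g x, g * z * g⁻¹ = ff z E a2 u x → dt x x = 0)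
    (fus : ∃ g, g * z * g⁻¹ = ff z E a2 u z2 ∨ g * z * g⁻¹ = ff z E a2 u (-z2)) :
    Mid Q (ff z E a2 u) t b1 b2⁻¹ :=
  { pre h Y with
    mQ := mQ h Y
    ab := Commute.inv_right ((h.comm_iff h.hc h.hd).2 h.cd)
    cQ := fun g hg => by
      rw [f_z]
      exact h.nd g (h.cQ g hg) fun q hq => (h.comm_iff (h.cQ g hg) hq).1 (hg q hq)
    nQ := by rw [f_z]; exact h.nQ
    tN := by rw [f_z]; exact h.tN
    t2 := h.t2
    tT := tT h Y
    ta := h.tb1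
    tb := by rw [← conj_inv, h.tb2]
    cJ := by rw [f_z, f_e, f_r]; exact cJ h Y
    sing := by rw [f_z]; exact sing
    fus := by rw [f_z]; exact fus
    lin := by rw [f_z, f_e]; exact lin h Y
    tr := by rw [f_r]; exact h.tr }

end

end H65.IB
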