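import Cfsg.Agent.Lib.O83.Bas
import Cfsg.Agent.Lib.O83.IB1B

/-! The subgroup `J` (package IB1). -/

set_option autoImplicit false
set_option linter.unusedSectionVars false

namespace H65.IB

open Subgroup H20.L43 H69 H12 H12.O83

variable {G : Type*} [Group G] [Finite G]

/-- the vectors that are fused to `z` or its inverse -/
def Sg (z : G) (f : V4 → G) (x : V4) : Prop := IsConj z (f x) ∨ IsConj z (f (-x))

theorem eqns_C : True := by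
  have := @Sg.eq_1.{0}
  trivial

theorem Sg.neg {z : G} {f : V4 → G} {x : V4} (h : Sg z f x) : Sg z f (-x) := by
  rw [Sg, neg_neg]; exact h.symm

theorem cj_iff {z p n : G} : IsConj z (n * p * n⁻¹) ↔ IsConj z p :=
  have e : IsConj p (n * p * n⁻¹) := isConj_iff.2 ⟨n, rfl⟩
  ⟨fun h => h.trans e.symm, fun h => h.trans e⟩

theorem sg_cj {z n : G} {f : V4 → G} {M : M4} (e : ∀ x, n * f x * n⁻¹ = f (mv M x)) (x : V4) :
    Sg z f (mv M x) ↔ Sg z f x := by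
  rw [Sg, Sg, ← mv_neg, ← e, ← e, cj_iff, cj_iff]

theorem sg_pow {z n : G} {f : V4 → G} {M : M4} (e : ∀ x, n * f x * n⁻¹ = f (mv M x)) (k : ℕ)
    {x : V4} (h : Sg z f x) : Sg z f (mv (M ^ k) x) := by
  induction k with
  | zero => rwa [pow_zero, mv_one]
  | succ k ih => rw [pow_succ', mv_mul, sg_cj e]; exact ih

theorem tr9 : ∀ x x' : V4, dt x vz ≠ 0 → dt x' vz = dt x vz → dt x x = dt x' x' →
    ∃ m n : Fin 3, x' = mv (mO ^ m.1) (mv (mB ^ n.1) x) := by decide +kernel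

theorem sg_tr {z a b : G} {f : V4 → G} (P : Pre f a b) {x x' : V4} (h : Sg z f x)
    (h0 : dt x vz ≠ 0) (h1 : dt x' vz ≠ 0) (e : dt x x = dt x' x') : Sg z f x' := by
  have k : ∀ x, Sg z f x → dt x vz ≠ 0 → dt x' vz = dt x vz → dt x x = dt x' x' → Sg z f x' :=
    fun x h h0 h1 e => by
      obtain ⟨m, n, rfl⟩ := tr9 x x' h0 h1 e
      exact sg_pow P.aO _ (sg_pow P.bB _ h)
  rcases (by decide : ∀ a b : ZMod 3, a ≠ 0 → b ≠ 0 → b = a ∨ b = -a) _ _ h0 h1 with f | f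
  · exact k x h h0 f e
  · exact k (-x) h.neg (by rwa [dt_neg, neg_ne_zero]) (by rwa [dt_neg])
      (by rwa [dt_neg, dt_comm, dt_neg, neg_neg])

variable {z a1 a2 b1 b2 t i y c : G} {Q : Subgroup G} {β : G → G → ZMod 3} {lam ε : ZMod 3}
  (h : O83.Hy z Q β a1 a2 b1 b2 t i y c lam ε) {u E : G} (Y : Yd z β a1 a2 b1 b2 t u E)
include h Y

theorem comp2 {x : V4} (hc : IsConj z (ff z E a2 u x)) (h0 : dt x vz = 0)
    (h1 : ff z E a2 u x ∉ zpowers z) : x.2.2.2 ≠ 0 ∧ x.1 - x.2.2.1 ≠ 0 := by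
  obtain ⟨g, e⟩ := isConj_iff.1 hc
  obtain ⟨-, -, f1, -, f2, -⟩ := conj_z h (g := g) (e ▸ (fQ h Y).2 h0) (e ▸ h1)
  rw [e, co_f h Y h0] at f1 f2
  exact ⟨by simpa using f1, by simpa using f2⟩

theorem comp {x : V4} (hc : Sg z (ff z E a2 u) x) (h0 : dt x vz = 0) :
    (x.2.2.2 = 0 ∧ x.1 - x.2.2.1 = 0) ∨ (x.2.2.2 ≠ 0 ∧ x.1 - x.2.2.1 ≠ 0) := by
  have k : ∀ x, IsConj z (ff z E a2 u x) → dt x vz = 0 →
      (x.2.2.2 = 0 ∧ x.1 - x.2.2.1 = 0) ∨ (x.2.2.2 ≠ 0 ∧ x.1 - x.2.2.1 ≠ 0) := fun x hc h0 => by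
    by_cases h1 : ff z E a2 u x ∈ zpowers z
    · have := h.co_z (a := a1) h1
      rw [co_f h Y h0] at this
      exact Or.inl (by simpa [Prod.ext_iff] using this)
    · exact Or.inr (comp2 h Y hc h0 h1)
  rcases hc with f | f
  · exact k x f h0
  · have := k (-x) f (by rw [dt_neg, h0, neg_zero])
    revert this
    simp only [Prod.fst_neg, Prod.snd_neg, neg_sub_neg, neg_eq_zero, ne_eq, sub_eq_zero, eq_comm]
    exact id

set_option synthInstance.maxSize 1024 in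
theorem exists_p {x : G} (hx : x ∈ Q) (h1 : x ∉ zpowers z) (hc : IsConj z x) :
    ∃ p, Sg z (ff z E a2 u) p ∧ dt p vz ≠ 0 ∧
      ∀ k : ZMod 3, k ≠ 0 → ¬Sg z (ff z E a2 u) (p + k • vz) := by
  obtain ⟨g, gQ, gZ, g4⟩ := exists_g h hx h1 hc
  obtain ⟨-, -, -, g3, -⟩ := conj_z h gQ gZ
  obtain ⟨x', x0', e'⟩ := of_co h Y gQ g3 g4
  have P := pre h Y
  obtain ⟨n, hn, e⟩ := P.fus (g := g) (A := {vz}) (by
    rintro _ rfl
    exact ⟨x', by rw [f_z, e']⟩)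
  replace e := e vz rfl
  rw [f_z] at e
  rw [← e] at gQ gZ g4 e'
  obtain ⟨M, hM⟩ := P.mat hn
  obtain ⟨zQ, -, g1, -, -, g5⟩ := conj_z h gQ gZ
  obtain ⟨v, v3, v4, hv⟩ := g5 g4
  obtain ⟨x0, e0⟩ := P.mem_NJ.1 (inv_mem hn) vz
  rw [f_z] at e0
  have x00 : dt x0 vz = 0 := (fQ h Y).1 (by rw [← e0, inv_inv]; exact mem_cj.1 zQ)
  have c0 : IsConj z (ff z E a2 u x0) := isConj_iff.2 ⟨_, e0⟩
  obtain ⟨f1, f2⟩ := comp2 h Y c0 x00 fun f => gZ (by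
    have := Hy0.ninv (e0 ▸ f)
    rwa [inv_inv] at this)
  have M1 : mv M vz = x' := P.finj (by rw [← hM, f_z, e'])
  have M0 : mv M x0 = vz := P.finj (by rw [← hM, f_z, ← e0]; group)
  have x10 : dt (mv mT x0) vz = 0 :=
    (by decide +kernel : ∀ x, dt x vz = 0 → dt (mv mT x) vz = 0) _ x00
  refine ⟨mv M (mv mT x0), (sg_cj hM _).2 ((sg_cj (tT h Y) _).2 (Or.inl c0)), fun p0 => ?_,
    fun k k0 f => ?_⟩
  · have q1 := hv _ ((fQ h Y).2 p0) (by rw [← hM]; exact cj_mem n ((fQ h Y).2 x10))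
    have q2 := hv _ gQ (cj_mem n h.zQ)
    rw [e', co_f h Y x0'] at q2 g1
    rw [co_f h Y p0] at q1
    obtain ⟨k, l, f⟩ := (by decide +kernel : ∀ p x : V4, dt p vz = 0 → dt x vz = 0 →
      -x.2.2.2 ≠ 0 → ∀ a b : ZMod 3, a ≠ 0 → b ≠ 0 → -p.2.2.2 * a + (p.1 - p.2.2.1) * b = 0 →
      -x.2.2.2 * a + (x.1 - x.2.2.1) * b = 0 → ∃ k l : ZMod 3, p = k • x + l • vz) _ _ p0 x0' g1
      _ _ v3 v4 (by simpa [fm] using q1) (by simpa [fm] using q2)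
    rw [← M1] at f
    nth_rewrite 2 [← M0] at f
    rw [← mv_smul, ← mv_smul, ← mv_add] at f
    have f' := congrArg (ff z E a2 u) f
    rw [← hM, ← hM, mul_left_inj, mul_right_inj] at f'
    exact (by decide +kernel : ∀ x : V4, x.2.2.2 ≠ 0 → x.1 - x.2.2.1 ≠ 0 → dt x vz = 0 →
      ∀ k l : ZMod 3, mv mT x ≠ k • vz + l • x) _ f1 f2 x00 k l (P.finj f')
  · rw [← M0, ← mv_smul, ← mv_add, sg_cj hM] at f
    have := comp h Y f (by rw [dt_add, dt_smul, x00, x10]; simp)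
    revert this
    exact (by decide +kernel : ∀ x : V4, x.2.2.2 ≠ 0 → x.1 - x.2.2.1 ≠ 0 → dt x vz = 0 →
      ∀ k : ZMod 3, k ≠ 0 → ¬(((mv mT x + k • x).2.2.2 = 0 ∧
        (mv mT x + k • x).1 - (mv mT x + k • x).2.2.1 = 0) ∨ ((mv mT x + k • x).2.2.2 ≠ 0 ∧
        (mv mT x + k • x).1 - (mv mT x + k • x).2.2.1 ≠ 0))) _ f1 f2 x00 k k0

theorem mid {x : G} (hx : x ∈ Q) (h1 : x ∉ zpowers z) (hc : IsConj z x) :
    ∃ k, Mid Q (ff z E a2 (u * pw z k)) t b1 b2⁻¹ := by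
  obtain ⟨p, sp, p0, hp⟩ := exists_p h Y hx h1 hc
  have P := pre h Y
  have nm : ∀ x, Sg z (ff z E a2 u) x → dt x vz ≠ 0 → dt x x = dt p p := fun x sx x0 => by
    by_contra f
    obtain ⟨k, k0, f1, f2⟩ := (by decide +kernel : ∀ p : V4, dt p vz ≠ 0 → ∀ e : ZMod 3,
      e ≠ dt p p → ∃ k : ZMod 3, k ≠ 0 ∧ dt (p + k • vz) vz ≠ 0 ∧
        e = dt (p + k • vz) (p + k • vz)) p p0 _ f
    exact hp k k0 (sg_tr P sx x0 f1 f2)
  refine ⟨-dt p p, mid_of h (Y.shift h _) (fun g x e => ?_) ?_⟩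
  · rw [f_shift h Y] at e
    have sx : Sg z (ff z E a2 u) (x + (-dt p p * dt x vz) • vz) := Or.inl (isConj_iff.2 ⟨g, e⟩)
    by_cases x0 : dt x vz = 0
    · rw [x0, mul_zero, zero_smul, add_zero] at sx
      exact (by decide +kernel : ∀ x : V4, dt x vz = 0 → (x.2.2.2 = 0 ∧ x.1 - x.2.2.1 = 0) ∨
        (x.2.2.2 ≠ 0 ∧ x.1 - x.2.2.1 ≠ 0) → dt x x = 0) x x0 (comp h Y sx x0)
    · obtain ⟨f1, f2⟩ := (by decide +kernel : ∀ x : V4, dt x vz ≠ 0 → ∀ e : ZMod 3,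
        dt (x + (-e * dt x vz) • vz) vz ≠ 0 ∧
        (dt (x + (-e * dt x vz) • vz) (x + (-e * dt x vz) • vz) = e → dt x x = 0)) x x0 (dt p p)
      exact f2 (nm _ sx f1)
  · obtain ⟨f1, f2, f3⟩ := (by decide +kernel : ∀ e : ZMod 3,
      dt (z2 + (-e * dt z2 vz) • vz) vz ≠ 0 ∧
      e = dt (z2 + (-e * dt z2 vz) • vz) (z2 + (-e * dt z2 vz) • vz) ∧
      -z2 + (-e * dt (-z2) vz) • vz = -(z2 + (-e * dt z2 vz) • vz)) (dt p p)
    rw [f_shift h Y, f_shift h Y, f3]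
    rcases sg_tr P sp p0 f1 f2 with f | f
    · exact (isConj_iff.1 f).imp fun g => Or.inl
    · exact (isConj_iff.1 f).imp fun g => Or.inr

end H65.IB

namespace H12.O83

open Subgroup H20.L43 H69

variable {G : Type*} [Group G] [Finite G]

theorem Hy.mid {z a1 a2 b1 b2 t i y c x : G} {Q : Subgroup G} {β : G → G → ZMod 3}
    {lam ε : ZMod 3} (h : Hy z Q β a1 a2 b1 b2 t i y c lam ε) (hx : x ∈ Q) (h1 : x ∉ zpowers z)
    (hc : IsConj z x) : ∃ f a b, Mid Q f t a b := by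
  obtain ⟨u, E, Y⟩ := H65.IB.exists_y h hx h1 hc
  obtain ⟨k, m⟩ := H65.IB.mid h Y hx h1 hc
  exact ⟨_, _, _, m⟩

end H12.O83
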