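import Cfsg.Agent.Lib.O83.IB1M
import Cfsg.Agent.Lib.P3L.A7

/-! The matrices of `C(z)` on `Q / Z`, and the conjugates of `z` in `Q` (package IB1, part A). -/

set_option autoImplicit false
set_option linter.unusedSectionVars false

namespace H65.IB

open Subgroup H20.L43 H69 H12

variable {G : Type*} [Group G] [Finite G]

/-- the part of the hypothesis that is needed for the conjugates -/
structure Ky (z : G) (Q : Subgroup G) (β : G → G → ZMod 3) : Prop extends Ex z Q β where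
  nC : ∀ g ∈ Ce z, ∀ q ∈ Q, g * q * g⁻¹ ∈ Q
  k9 : ∀ r ∈ Ce z, ∀ s ∈ Ce z, r ^ 9 = 1 → s ^ 9 = 1 → (r * s) ^ 9 = 1 →
    r ∈ Q ∨ ∃ e, s * pw r e ∈ Q

theorem Ky.conj {z : G} {Q : Subgroup G} {β : G → G → ZMod 3} (h : Ky z Q β) (g : G) :
    ∃ β', Ky (g * z * g⁻¹) (Q ^ᶜ g) β' := by
  let φ := MulAut.conj g⁻¹
  have e : φ (g * z * g⁻¹) = z := by simp [φ, mul_assoc]
  have hQ : ∀ q, q ∈ Q ^ᶜ g ↔ φ q ∈ Q := fun q => by rw [mem_cj]; simp [φ]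
  have hc := card_cj Q g
  generalize Q ^ᶜ g = Q' at hQ hc
  generalize g * z * g⁻¹ = y at e
  have c : ∀ k, k ∈ Ce y ↔ φ k ∈ Ce z := fun k => by
    rw [mem_Ce, mem_Ce, ← e, ← map_mul, ← map_mul, φ.apply_eq_iff_eq]
  have zp : ∀ k, φ k ∈ zpowers z → k ∈ zpowers y := by
    rintro k ⟨n, hn⟩
    exact ⟨n, φ.injective (by rw [← hn, ← e]; simp)⟩
  have p9 : ∀ r : G, r ^ 9 = 1 → φ r ^ 9 = 1 := fun r hr => by rw [← map_pow, hr, map_one]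
  refine ⟨fun a b => β (φ a) (φ b),
    { z1 := fun f => h.z1 (by rw [← e, f, map_one])
      zQ := (hQ _).2 (e ▸ h.zQ)
      q3 := fun q hq => φ.injective (by rw [map_pow, map_one]; exact h.q3 _ ((hQ _).1 hq))
      card := by rw [hc, h.card]
      zc := fun q hq => mem_Ce.1 ((c q).2 (mem_Ce.2 (h.zc _ ((hQ _).1 hq))))
      com := fun a ha b hb => φ.injective (by
        rw [map_mul, h.com (φ a) ((hQ _).1 ha) (φ b) ((hQ _).1 hb), ← e]; simp [pw])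
      nd := fun a ha f => zp a (h.nd _ ((hQ _).1 ha) fun b hb => by
        have := f (φ.symm b) ((hQ _).2 (by simpa using hb))
        simpa using this)
      nC := fun k hk q hq => (hQ _).2 (by simpa using h.nC _ ((c k).1 hk) _ ((hQ _).1 hq))
      k9 := fun r hr s hs r9 s9 rs => ?_ }⟩
  refine (h.k9 _ ((c r).1 hr) _ ((c s).1 hs) (p9 r r9) (p9 s s9)
    (by rw [← map_mul]; exact p9 _ rs)).imp (hQ _).2 fun ⟨e, he⟩ => ⟨e, (hQ _).2 ?_⟩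
  simpa [pw] using he

theorem p9 {z : G} {Q : Subgroup G} {β : G → G → ZMod 3} (h : Ex z Q β) {q : G} (hq : q ∈ Q) :
    q ^ 9 = 1 := by rw [show 9 = 3 * 3 from rfl, pow_mul, h.q3 q hq, one_pow]

theorem zp_symm {z x : G} (h : x ^ 3 = 1) (h1 : z ≠ 1) (e : z ∈ zpowers x) : x ∈ zpowers z := by
  obtain ⟨k, rfl⟩ := (mem_zp h).1 e
  rcases zm3 k with rfl | rfl | rfl
  · simp at h1
  · simp
  · rw [pw_neg_one h]; simp

/-- two conjugates -/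
theorem pair {z x : G} {Q Q' : Subgroup G} {β β' : G → G → ZMod 3} (h : Ex z Q β)
    (h' : Ky x Q' β') (hx : x ∈ Q) (h1 : x ∉ zpowers z) :
    z ∈ Q' ∧ ∃ p ∈ Q, p ∈ Q' ∧ ∃ y ∈ Q', y ∈ Ce z ∧ y * p * y⁻¹ = x⁻¹ * p := by
  obtain ⟨a, c, d, s⟩ := h.exists_sb hx h1
  have aC : a ∈ Ce x := mem_Ce.2 ((h.comm_iff s.ha hx).2 s.ab)
  have cC : c ∈ Ce x := mem_Ce.2 ((h.comm_iff hx s.hc).2 s.bc).symm
  obtain ⟨p, hp, hp', r, hr, rC, e⟩ : ∃ p ∈ Q, p ∈ Q' ∧ ∃ r ∈ Q, r ∈ Ce x ∧ β r p ≠ 0 := by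
    rcases h'.k9 a aC c cC (p9 h s.ha) (p9 h s.hc) (p9 h (mul_mem s.ha s.hc)) with f | ⟨e, f⟩
    · exact ⟨a, s.ha, f, c, s.hc, cC, by rw [h.anti s.ha s.hc, s.ac]; decide⟩
    · refine ⟨_, mul_mem s.hc (pw_mem s.ha e), f, a, s.ha, aC, ?_⟩
      rw [h.mul_r s.hc (pw_mem s.ha e) s.ha, h.pw_r s.ha s.ha, h.self s.ha, s.ac]; simp
  have zQ : z ∈ Q' := by
    have : pw z (β r p) ∈ Q' := by
      have := mul_mem (h'.nC r rC p hp') (inv_mem hp')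
      rwa [h.conj hr hp, mul_inv_cancel_right] at this
    rcases zm3 (β r p) with f | f | f
    · exact absurd f e
    · simpa [f] using this
    · simpa [f, pw_neg_one h.z3] using this
  refine ⟨zQ, p, hp, hp', ?_⟩
  obtain ⟨-, -, y, hy, -, -, e1, e2⟩ := h'.dual2 zQ hp'
    (fun f => h1 (zp_symm h'.z3 h.z1 f)) fun k f => e (by
      obtain ⟨l, hl⟩ := (mem_zp h'.z3).1 f
      have := h.mul_r hp (pw_mem h.zQ k) hr
      rw [← hl, h.pw_r hx hr, (h.comm_iff hr hx).1 (mem_Ce.1 rC),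
        h.z_r (pw_mem (mem_zpowers z) k) hr] at this
      linear_combination -this)
  refine ⟨y, hy, mem_Ce.2 ((h'.comm_iff zQ hy).2 e1).symm, ?_⟩
  rw [h'.toEx.conj hy hp', h'.anti hp' hy, e2, pw_neg_one h'.z3]

variable {z a1 a2 b1 b2 t i y c : G} {Q : Subgroup G} {β : G → G → ZMod 3} {lam ε : ZMod 3}

section
variable (h : O83.Hy z Q β a1 a2 b1 b2 t i y c lam ε)
include h

theorem QC {q : G} (hq : q ∈ Q) : q ∈ Ce z := mem_Ce.2 (h.zc q hq)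

theorem nC {g : G} (hg : g ∈ Ce z) {q : G} (hq : q ∈ Q) : g * q * g⁻¹ ∈ Q := h.nQ g (cz' hg) q hq

theorem cocj {g : G} (hg : g ∈ Ce z) {q : G} (hq : q ∈ Q) :
    co β a1 a2 b1 b2 (g * q * g⁻¹) = mv (mt β a1 a2 b1 b2 g) (co β a1 a2 b1 b2 q) :=
  h.co_cj (cz' hg) (h.nQ g (cz' hg)) hq

theorem m_mul {g k : G} (hg : g ∈ Ce z) (hk : k ∈ Ce z) :
    mt β a1 a2 b1 b2 (g * k) = mt β a1 a2 b1 b2 g * mt β a1 a2 b1 b2 k := by
  have hgk := cz' (mul_mem hg hk)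
  refine h.mt_eq hgk (h.nQ _ hgk) fun q hq => ?_
  rw [mv_mul, ← cocj h hk hq, ← cocj h hg (nC h hk hq)]
  congr 1; group

theorem m_pow {g : G} (hg : g ∈ Ce z) (n : ℕ) :
    mt β a1 a2 b1 b2 (g ^ n) = mt β a1 a2 b1 b2 g ^ n := by
  induction n with
  | zero => rw [pow_zero, pow_zero]; exact h.mt_Q (one_mem _)
  | succ n ih => rw [pow_succ, pow_succ, m_mul h (pow_mem hg n) hg, ih]

theorem cen4 {g : G} (hz : g * z = z * g) (e1 : g * a1 = a1 * g) (e2 : g * a2 = a2 * g)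
    (e3 : g * b1 = b1 * g) (e4 : g * b2 = b2 * g) : g ∈ Q := by
  refine h.cQ g fun q hq => ?_
  obtain ⟨k, e⟩ := h.surj hq
  rw [e]
  have c : ∀ {u : G} (l : ZMod 3), g * u = u * g → Commute g (pw u l) := fun l f =>
    (pw_comm f.symm l).symm
  exact ((((c _ e1).mul_right (c _ e2)).mul_right (c _ e3)).mul_right (c _ e4)).mul_right (c _ hz)

/-- the kernel of the action on `Q / Z` -/
theorem m_ker {g : G} (hg : g ∈ Ce z) (e : mt β a1 a2 b1 b2 g = 1) : g ∈ Q := by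
  have k : ∀ q ∈ Q, ∃ k, g * q * g⁻¹ = q * pw z k := fun q hq =>
    h.eq_of_co (nC h hg hq) hq (by rw [cocj h hg hq, e, mv_one])
  obtain ⟨k1, e1⟩ := k a1 h.ha
  obtain ⟨k2, e2⟩ := k a2 h.hb
  obtain ⟨k3, e3⟩ := k b1 h.hc
  obtain ⟨k4, e4⟩ := k b2 h.hd
  obtain ⟨q, hq, hc⟩ : ∃ q ∈ Q, co β a1 a2 b1 b2 q = (k3, k4, -k1, -k2) :=
    ⟨_, h.ve_mem _, h.co_ve _⟩
  have f : ∀ p ∈ Q, ∀ k, g * p * g⁻¹ = p * pw z k → β q p = k → q⁻¹ * g * p = p * (q⁻¹ * g) :=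
    fun p hp k f1 f2 => by
      have := h.conj hq hp
      rw [f2, h.pc hp, ← f1] at this
      calc _ = q⁻¹ * (g * p * g⁻¹) * g := by group
        _ = _ := by rw [← this]; group
  have := cen4 h (mem_Ce.1 (mul_mem (inv_mem (QC h hq)) hg))
    (f _ h.ha _ e1 (by rw [h.form hq h.ha, hc, h.co_a]; simp [fm]))
    (f _ h.hb _ e2 (by rw [h.form hq h.hb, hc, h.co_b]; simp [fm]))
    (f _ h.hc _ e3 (by rw [h.form hq h.hc, hc, h.co_c]; simp [fm]))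
    (f _ h.hd _ e4 (by rw [h.form hq h.hd, hc, h.co_d]; simp [fm]))
  simpa using mul_mem hq this

theorem iC : i ∈ Ce z := mem_Ce.2 h.iz
theorem yC : y ∈ Ce z := mem_Ce.2 h.yz
theorem tC : t ∈ Ce z := mem_Ce.2 h.tz
theorem jC : y * i * y⁻¹ ∈ Ce z := mul_mem (mul_mem (yC h) (iC h)) (inv_mem (yC h))

theorem m_j : mt β a1 a2 b1 b2 (y * i * y⁻¹) = mJ := by
  have e : y * i * y⁻¹ = y * i * y ^ 2 * (y ^ 3)⁻¹ := by group
  rw [e, m_mul h (mul_mem (mul_mem (yC h) (iC h)) (pow_mem (yC h) 2)) (QC h (inv_mem h.y3)),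
    h.mt_Q (inv_mem h.y3), mul_one, m_mul h (mul_mem (yC h) (iC h)) (pow_mem (yC h) 2),
    m_mul h (yC h) (iC h), m_pow h (yC h), h.my, h.mi]
  exact (F0 lam).2

theorem m_B (k l : ℕ) : i ^ k * (y * i * y⁻¹) ^ l ∈ Ce z ∧
    mt β a1 a2 b1 b2 (i ^ k * (y * i * y⁻¹) ^ l) = mI ^ k * mJ ^ l :=
  ⟨mul_mem (pow_mem (iC h) k) (pow_mem (jC h) l), by
    rw [m_mul h (pow_mem (iC h) k) (pow_mem (jC h) l), m_pow h (iC h), m_pow h (jC h), m_j h, h.mi]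
    rfl⟩

theorem m_gm {g : G} (hg : g ∈ Ce z) : ∃ k l m n, mt β a1 a2 b1 b2 g = gm lam ε k l m n := by
  obtain ⟨q, hq, k, l, m, n, rfl⟩ := h.gen g (mem_Ce.1 hg)
  have cC : c ∈ Ce z := mem_Ce.2 h.cz
  obtain ⟨f1, f2⟩ := m_B h k l
  have c2 : dg ε 1 ε 1 ^ 2 = 1 :=
    (by decide +kernel : ∀ e : ZMod 3, e * e = 1 → dg e 1 e 1 ^ 2 = 1) ε h.ε2
  refine ⟨⟨k % 4, Nat.mod_lt _ (by norm_num)⟩, ⟨l % 4, Nat.mod_lt _ (by norm_num)⟩,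
    ⟨m % 3, Nat.mod_lt _ (by norm_num)⟩, ⟨n % 2, Nat.mod_lt _ (by norm_num)⟩, ?_⟩
  rw [m_mul h (QC h hq) (mul_mem (mul_mem f1 (pow_mem (yC h) m)) (pow_mem cC n)), h.mt_Q hq,
    one_mul, m_mul h (mul_mem f1 (pow_mem (yC h) m)) (pow_mem cC n), m_mul h f1 (pow_mem (yC h) m),
    f2, m_pow h (yC h), m_pow h cC, h.my, h.mc, gm,
    ← pow_eq_pow_mod k (show mI ^ 4 = 1 by decide +kernel),
    ← pow_eq_pow_mod l (show mJ ^ 4 = 1 by decide +kernel), ← pow_eq_pow_mod m (F0 lam).1,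
    ← pow_eq_pow_mod n c2]
  rfl

theorem m_c3 {g : G} (hg : g ∈ Ce z) (e : g ^ 9 = 1) : mt β a1 a2 b1 b2 g ∈ L3 lam := by
  obtain ⟨k, l, m, n, f⟩ := m_gm h hg
  rw [f]
  exact F1 lam ε h.ε2 k l m n (by
    rw [← f, ← pow_add, ← pow_add, ← m_pow h hg, e]; exact h.mt_Q (one_mem _))

theorem ky : Ky z Q β :=
  { h.toSb.toEx with
    nC := fun g hg q hq => nC h hg hq
    k9 := fun r hr s hs r9 s9 rs => by
      refine (F2 lam _ (m_c3 h hr r9) _ (m_c3 h hs s9) ?_).imp (m_ker h hr) fun ⟨u, f⟩ =>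
        ⟨u, m_ker h (mul_mem hs (pw_mem hr u)) ?_⟩
      · rw [← m_mul h hr hs]; exact m_c3 h (mul_mem hr hs) rs
      · rw [m_mul h hs (pw_mem hr u), pw, m_pow h hr, f] }

theorem co_ne {x : G} (hx : x ∈ Q) (h1 : x ∉ zpowers z) : co β a1 a2 b1 b2 x ≠ 0 := fun e => by
  obtain ⟨k, f⟩ := h.eq_of_co hx (one_mem _) (by rw [e, h.co_z (one_mem _)])
  exact h1 (by rw [f, one_mul]; exact pw_mem (mem_zpowers z) k)

/-- the conjugates of `z` in `Q` -/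
theorem conj_z {g : G} (hx : g * z * g⁻¹ ∈ Q) (h1 : g * z * g⁻¹ ∉ zpowers z) :
    z ∈ Q ^ᶜ g ∧ lam = -1 ∧ (co β a1 a2 b1 b2 (g * z * g⁻¹)).1 ≠ 0 ∧
    (co β a1 a2 b1 b2 (g * z * g⁻¹)).2.2.1 = 0 ∧
    ((co β a1 a2 b1 b2 (g * z * g⁻¹)).2.1 ≠ 0 ∨ (co β a1 a2 b1 b2 (g * z * g⁻¹)).2.2.2 ≠ 0) ∧
    ((co β a1 a2 b1 b2 (g * z * g⁻¹)).2.2.2 = 0 → ∃ v : V4, v.2.2.1 ≠ 0 ∧ v.2.2.2 ≠ 0 ∧
      ∀ q ∈ Q, q ∈ Q ^ᶜ g → fm (co β a1 a2 b1 b2 q) v = 0) := by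
  obtain ⟨β', h'⟩ := (ky h).conj g
  obtain ⟨zQ, p, hp, hp', u, hu, uC, e⟩ := pair h.toSb.toEx h' hx h1
  generalize g * z * g⁻¹ = x at hx h1 h' e
  generalize Q ^ᶜ g = Q' at h' zQ hp' hu
  have e1 : co β a1 a2 b1 b2 p - mv (mt β a1 a2 b1 b2 u) (co β a1 a2 b1 b2 p) =
      co β a1 a2 b1 b2 x := by
    rw [← cocj h uC hp, e, h.co_mul (inv_mem hx) hp, h.co_inv hx]; abel
  have cm : ∀ q ∈ Q, q ∈ Q' → fm (co β a1 a2 b1 b2 q) (co β a1 a2 b1 b2 p) = 0 := fun q hq hq' => by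
    rw [← h.form hq hp]
    have e2 : pw z (β q p) = pw x (β' q p) :=
      mul_right_cancel ((h.com q hq p hp).symm.trans (h'.com q hq' p hp'))
    rcases zm3 (β q p) with f | f | f
    · exact f
    · rw [f, pw_one] at e2
      exact absurd (zp_symm h'.z3 h.z1 (e2 ▸ pw_mem (mem_zpowers x) _)) h1
    · rw [f, pw_neg_one h.z3] at e2
      exact absurd (zp_symm h'.z3 h.z1 (by
        rw [← inv_mem_iff, e2]; exact pw_mem (mem_zpowers x) _)) h1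
  have := F3 lam (co β a1 a2 b1 b2 p) _ (m_c3 h uC (p9 h'.toEx hu))
  rw [e1] at this
  obtain ⟨f1, f2, f3, f4, f5⟩ := this (co_ne h hx h1) (cm x hx h'.zQ)
  exact ⟨zQ, f1, f2, f3, f4, fun f => ⟨_, (f5 f).1, (f5 f).2, cm⟩⟩

end

end H65.IB
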