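import Cfsg.Agent.Lib.O83.IB2a

/-! The normalizer of `J` (package IB2). -/

set_option autoImplicit false
set_option linter.unusedSectionVars false

namespace H12.O83

open Subgroup H20.L43 H69

variable {G : Type*} [Group G] [Finite G]

namespace IB2

theorem F8 : ∀ x : V4, -x = x → x = 0 := by decide +kernel
theorem F9 : ∀ m n : Fin 3, (mO ^ m.val * mB ^ n.val = 1 → m = 0 ∧ n = 0) ∧
    (mT * (mO ^ m.val * mB ^ n.val) * mT * (mO ^ m.val * mB ^ n.val) = 1 → m = 0) := by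
  decide +kernel
theorem F10 : ∀ x : V4, mv mT x + mv (mB * mB) x = 0 → dt x vz = 0 ∧
    (x = 0 ∨ x = v1 - mv mB v1 ∨ x = (v1 + v1) - mv mB (v1 + v1)) := by decide +kernel
theorem F11 : ∀ x : V4, dt x vz = 0 → ∃ α γ δ : ZMod 3, x = α • vz + γ • vr + δ • e4 := by
  decide +kernel
theorem F12 : ∀ x : V4, mv mT x = -x → x = 0 ∨ x = vr ∨ x = -vr := by decide +kernel
theorem F13 : ∀ x : V4, (x + mv mT x = 0 → x + x - mv mT x = 0) ∧ x + x = -x := by decide +kernel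

variable {Q : Subgroup G} {f : V4 → G} {t a b : G}

section
variable (h : Mid Q f t a b)
include h

theorem mQ3 {g : G} (hg : g ∈ Q) :
    ∃ x, ∃ m n : Fin 3, dt x vz = 0 ∧ g = f x * (a ^ m.val * b ^ n.val) := by
  obtain ⟨x, m, n, e, rfl⟩ := (h.mQ g).1 hg
  refine ⟨x, ⟨m % 3, Nat.mod_lt _ (by decide)⟩, ⟨n % 3, Nat.mod_lt _ (by decide)⟩, e, ?_⟩
  rw [← pow_eq_pow_mod _ h.a3, ← pow_eq_pow_mod _ h.b3]

theorem reQ (x : V4) (m n : ℕ) : Re f (f x * (a ^ m * b ^ n)) (mO ^ m * mB ^ n) := by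
  simpa using (reJ h.toPre x).mul ((Re.pow h.aO m).mul (Re.pow h.bB n))

theorem fQ {x : V4} : f x ∈ Q ↔ dt x vz = 0 := by
  refine ⟨fun k => ?_, fun k => (h.mQ _).2 ⟨x, 0, 0, k, by simp⟩⟩
  obtain ⟨y, m, n, e, k⟩ := mQ3 h k
  obtain ⟨rfl, rfl⟩ := (F9 m n).1 (uniq h.toPre (reQ h y m n) (k ▸ reJ h.toPre x))
  rw [h.finj (x := x) (y := y) (by simpa using k), e]

theorem aQ : a ∈ Q := (h.mQ _).2 ⟨0, 1, 0, by decide, by simp [h.f0]⟩
theorem bQ : b ∈ Q := (h.mQ _).2 ⟨0, 0, 1, by decide, by simp [h.f0]⟩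

theorem exσ : ∃ σ, Re f σ (-1) ∧ σ * σ = 1 ∧ σ * t = t * σ := by
  have sq : ∀ σ, Re f σ (-1) → σ * σ = 1 := fun σ e => by
    obtain ⟨x, k⟩ := dJ h (Re.one (f := f)) (by simpa using e.mul e)
    have := e x
    rw [mv_negm, mv_one, ← mul_one (f x), ← k, show σ * (σ * σ) * σ⁻¹ = σ * σ by group, k,
      mul_one] at this
    rw [k, F8 x (h.finj this).symm, h.f0, one_mul]
  obtain ⟨σ, e⟩ := GW h (M := -1) (by decide +kernel) (by decide +kernel)
  obtain ⟨x, k⟩ := dJ h (M := mT) h.tT (g' := σ * t * σ⁻¹)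
    (by simpa using (e.mul h.tT).mul (e.inv (N := -1) (by simp)))
  have e' : Re f (f x * σ) (-1) := by simpa using (reJ h.toPre x).mul e
  refine ⟨_, e', sq _ e', ?_⟩
  have k1 : f (x + mv mT x) = 1 := by
    rw [h.add, ← h.tT, inv_eq_of_mul_eq_one_right h.t2, ← mul_assoc, ← mul_assoc, mul_assoc _ (f x),
      ← k]
    calc _ = σ * (t * t) * σ⁻¹ := by group
      _ = 1 := by rw [h.t2]; group
  have k2 := congrArg f ((F13 x).1 (h.inj _ k1))
  rw [h.fsub, h.add, h.f0, ← h.tT] at k2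
  calc f x * σ * t = f x * (σ * t * σ⁻¹) * σ := by group
    _ = f x * f x * (t * f x * t⁻¹)⁻¹ * (t * (f x * σ)) := by rw [k]; group
    _ = _ := by rw [k2, one_mul]

theorem exs : ∃ l, ∃ s : M4 → G, (∀ M, W l M → Re f (s M) M) ∧
    (∀ M N, W l M → W l N → s (M * N) = s M * s N) ∧
    (∀ g ∈ NJ f, ∃ x M, W l M ∧ g = f x * s M) ∧ s mT = t ∧ Mid Q f t (s mO) (s mB) := by
  classical
  obtain ⟨l, hl⟩ := exl h
  obtain ⟨σ, e, sq, st⟩ := exσ h
  have sf : ∀ x, σ * f x = f (-x) * σ := fun x => by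
    have := e x
    rw [mv_negm, mv_one] at this
    rw [← this]; group
  have ex : ∀ M, ∃ n, W l M → Re f n M ∧ σ * n = n * σ := fun M => by
    by_cases k : W l M
    swap
    · exact ⟨1, fun k' => absurd k' k⟩
    obtain ⟨n, hn⟩ := (hl M).2 k
    obtain ⟨x, k⟩ := dJ h hn (g' := σ * n * σ⁻¹)
      (by simpa using (e.mul hn).mul (e.inv (N := -1) (by simp)))
    refine ⟨f (-x) * n, fun _ => ⟨by simpa using (reJ h.toPre (-x)).mul hn, ?_⟩⟩
    rw [← mul_assoc, sf, neg_neg, ← (F13 x).2, h.add]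
    calc _ = f x * (σ * n * σ⁻¹) * σ := by group
      _ = _ := by rw [k]; group
  choose s hs using ex
  have un : ∀ {M n}, W l M → Re f n M → σ * n = n * σ → s M = n := fun {M n} k r c => by
    obtain ⟨x, k1⟩ := dJ h r (hs M k).1
    have := (hs M k).2
    rw [k1, ← mul_assoc, sf, mul_assoc, c, ← mul_assoc, mul_left_inj, mul_left_inj] at this
    rw [k1, F8 x (h.finj this), h.f0, one_mul]
  have mu : ∀ M N, W l M → W l N → s (M * N) = s M * s N := fun M N k k' =>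
    un (k.mul k') ((hs M k).1.mul (hs N k').1) (by
      rw [← mul_assoc, (hs M k).2, mul_assoc, (hs N k').2, mul_assoc])
  have s1 : s 1 = 1 := un W.one Re.one (by simp)
  have sT : s mT = t := un W_mT h.tT st
  have rO := (hs mO W_mO).1
  have rB := (hs mB W_mB).1
  have rr : ∀ m n : ℕ, Re f (s mO ^ m * s mB ^ n) (mO ^ m * mB ^ n) := fun m n =>
    (rO.pow m).mul (rB.pow n)
  have c3 : ∀ M, W l M → M * M * M = 1 → s M ^ 3 = 1 := fun M k e => by
    rw [pow_three', ← mu _ _ k k, ← mu _ _ (k.mul k) k, e, s1]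
  have b3 := c3 mB W_mB (by decide +kernel)
  have tb : t * s mB * t⁻¹ = (s mB)⁻¹ := by
    refine eq_inv_of_mul_eq_one_left ?_
    rw [inv_eq_of_mul_eq_one_right h.t2, ← sT, ← mu _ _ W_mT W_mB, ← mu _ _ (W_mT.mul W_mB) W_mT,
      ← mu _ _ ((W_mT.mul W_mB).mul W_mT) W_mB, show mT * mB * mT * mB = 1 by decide +kernel, s1]
  have OQ : s mO ∈ Q := by
    obtain ⟨x, k⟩ := dJ h h.aO rO
    have k1 := (hs mO W_mO).2
    have k2 := h.nQ σ (by rw [e, mv_negm, mv_one, h.fneg]; exact inv_mem (mem_zpowers _)) a (aQ h)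
    rw [k, ← mul_assoc, sf, h.fneg] at k1
    have : σ * a * σ⁻¹ * a⁻¹ = f (-x) := by
      rw [← (F13 x).2, h.add]
      calc _ = f x * ((f x)⁻¹ * σ * a) * σ⁻¹ * a⁻¹ := by group
        _ = _ := by rw [k1]; group
    have k3 := mul_mem k2 (inv_mem (aQ h))
    rw [this, h.fneg, inv_mem_iff] at k3
    exact k ▸ mul_mem k3 (aQ h)
  have BQ : s mB ∈ Q := by
    obtain ⟨x, k⟩ := dJ h h.bB rB
    have k1 := tb
    have k2 := Re.inv h.bB (N := mB * mB) (by decide +kernel) x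
    have : f (mv mT x + mv (mB * mB) x) = 1 := by
      rw [h.add, ← h.tT, ← k2]
      calc _ = t * f x * (t⁻¹ * b⁻¹ * t) * t⁻¹ * f x * b := by group
        _ = t * (f x * b) * t⁻¹ * (f x * b) := by
          rw [← h.tb, show t⁻¹ * (t * b * t⁻¹) * t = b by group]; group
        _ = 1 := by rw [← k, k1]; group
    exact k ▸ mul_mem ((fQ h).2 (F10 x (h.inj _ this)).1) (bQ h)
  refine ⟨l, s, fun M k => (hs M k).1, mu, fun g hg => ?_, sT,
    ⟨⟨h.add, h.inj, c3 mO W_mO (by decide +kernel), b3, rO, rB, fun P hP => ?_⟩, fun g => ?_, ?_,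
      h.cQ, h.nQ, h.tN, h.t2, h.tT, ?_, tb, h.cJ, h.sing, h.fus, h.lin, h.tr⟩⟩
  · obtain ⟨M, hM⟩ := h.mat hg
    have k := (hl M).1 ⟨g, hM⟩
    obtain ⟨x, e⟩ := dJ h (hs M k).1 hM
    exact ⟨x, M, k, e⟩
  · obtain ⟨k, hk⟩ := h.syl P hP
    refine ⟨k, fun g hg => ?_⟩
    obtain ⟨x, m, n, e⟩ := hk g hg
    obtain ⟨y, e'⟩ := dJ h (rr m n) (reQ h x m n)
    exact ⟨y, m, n, e.trans e'⟩
  · refine ⟨fun k => ?_, ?_⟩
    · obtain ⟨x, m, n, -, e⟩ := (h.mQ g).1 k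
      obtain ⟨y, e'⟩ := dJ h (rr m n) (reQ h x m n)
      refine ⟨y, m, n, (fQ h).1 ?_, e.trans e'⟩
      rw [eq_mul_inv_of_mul_eq (e.trans e').symm]
      exact mul_mem k (inv_mem (mul_mem (pow_mem OQ _) (pow_mem BQ _)))
    · rintro ⟨x, m, n, e, rfl⟩
      exact mul_mem ((fQ h).2 e) (mul_mem (pow_mem OQ _) (pow_mem BQ _))
  · rw [← mu _ _ W_mO W_mB, ← mu _ _ W_mB W_mO, show mO * mB = mB * mO by decide +kernel]
  · rw [← sT, ← mu _ _ W_mO W_mT, ← mu _ _ W_mT W_mO, show mT * mO = mO * mT by decide +kernel]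

theorem fc {x : V4} (k : mv mT x = x) : f x * t = t * f x := by
  have := h.tT x
  rw [k, mul_inv_eq_iff_eq_mul] at this
  exact this.symm

theorem tr' : t * f vr * t⁻¹ = (f vr)⁻¹ := by
  rw [h.tT, ← h.fneg, show mv mT vr = -vr by decide]

theorem yb (y : V4) : f y * b * (f y)⁻¹ = f (y - mv mB y) * b := by
  rw [h.fsub, ← h.bB]; group

theorem Qz {q : G} (k : q ∈ Q) : q * f vz = f vz * q := by
  obtain ⟨x, m, n, -, rfl⟩ := mQ3 h k
  have := reQ h x m n vz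
  rw [show ∀ m n : Fin 3, mv (mO ^ m.val * mB ^ n.val) vz = vz by decide +kernel] at this
  exact mul_inv_eq_iff_eq_mul.1 this

theorem exi : ∃ i, i * i = t ∧ (∀ q ∈ Q, q * t = t * q → i * q = q * i) ∧ i * f vr * i⁻¹ = b ∧
    f v1 * jj f i * (f v1)⁻¹ = i * jj f i ∧ i * jj f i * i⁻¹ = (jj f i)⁻¹ := by
  have nb : ∀ x, f x ≠ b := fun x e =>
    absurd (uniq h.toPre (reJ h.toPre x) (e ▸ h.bB)) (by decide)
  obtain ⟨i, it, iC, i2, ir⟩ := h.tr b (bQ h) (fun e => nb 0 (h.f0.trans e.symm)) h.tb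
  replace i2 : i * i = t := by
    rcases i2 with k | rfl | rfl
    · exact k
    · exact absurd (by simpa using ir) (nb vr)
    · exact absurd ((h.tT vr).symm.trans ir) (nb _)
  have yt := fc h (x := v1) (by decide)
  have y3 := h.f3 v1
  have yz := h.fcomm v1 vz
  have yr := h.fcomm v1 vr
  have zQ := (fQ h (x := vz)).2 (by decide)
  have zt := fc h (x := vz) (by decide)
  have ybb := yb h v1
  rw [show v1 - mv mB v1 = vr - vz by decide, h.fsub] at ybb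
  have br := h.bB vr
  rw [show mv mB vr = vr + vz by decide, h.add] at br
  have cy : ∀ k : G, (∀ q ∈ Q, q * t = t * q → k * q = q * k) →
      ∀ q ∈ Q, q * t = t * q → f v1 * k * (f v1)⁻¹ * q = q * (f v1 * k * (f v1)⁻¹) := by
    intro k hk q hq qt
    have k1 := h.nQ (f v1)⁻¹ (by
      rw [inv_inv, mul_assoc, ← yz, inv_mul_cancel_left]; exact mem_zpowers _) q hq
    have k2 := hk _ k1 ((((Commute.inv_left yt).mul_left qt).mul_left
      (Commute.inv_left (Commute.inv_left yt)) :))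
    calc _ = f v1 * (k * ((f v1)⁻¹ * q * (f v1)⁻¹⁻¹)) * (f v1)⁻¹ := by group
      _ = _ := by rw [k2]; group
  have jC : ∀ q ∈ Q, q * t = t * q → jj f i * q = q * jj f i := cy i iC
  have kC := cy _ jC
  have ib : i * b * i⁻¹ = (f vr)⁻¹ := by rw [← ir, ← tr' h, ← i2]; group
  have iz := iC _ zQ zt
  have j2 : jj f i * jj f i = t := by
    calc _ = f v1 * (i * i) * (f v1)⁻¹ := by rw [jj]; group
      _ = t := by rw [i2, yt]; group
  have k2 : f v1 * jj f i * (f v1)⁻¹ * (f v1 * jj f i * (f v1)⁻¹) = t := by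
    calc _ = f v1 * (jj f i * jj f i) * (f v1)⁻¹ := by group
      _ = t := by rw [j2, yt]; group
  have gz : i * f v1 * f vz * (i * f v1)⁻¹ = f vz := by
    rw [mul_assoc i, yz, ← mul_assoc, iz]; group
  have gr : i * f v1 * f vr * (i * f v1)⁻¹ = b := by
    rw [mul_assoc i, yr, ← ir]; group
  have gb : i * f v1 * b * (i * f v1)⁻¹ = b * (f vz)⁻¹ * (f vr)⁻¹ := by
    calc _ = i * (f v1 * b * (f v1)⁻¹) * i⁻¹ := by group
      _ = i * f vr * i⁻¹ * (i * f vz * i⁻¹)⁻¹ * (i * b * i⁻¹) := by rw [ybb]; group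
      _ = _ := by rw [iz, ir, ib]; group
  have g3 : (i * f v1) ^ 3 = i * jj f i * (f v1 * jj f i * (f v1)⁻¹) := by
    rw [← mul_one (i * jj f i * _), ← y3, jj, pow_three', pow_three']; group
  have bz := Qz h (bQ h)
  have g3r : (i * f v1) ^ 3 * f vr * ((i * f v1) ^ 3)⁻¹ = (f vr)⁻¹ := by
    generalize i * f v1 = g at gz gr gb
    calc _ = g * (g * (g * f vr * g⁻¹) * g⁻¹) * g⁻¹ := by rw [pow_three']; group
      _ = g * b * g⁻¹ * (g * f vz * g⁻¹)⁻¹ * (g * f vr * g⁻¹)⁻¹ := by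
        conv_lhs => rw [gr, gb]
        group
      _ = b * (f vr * f vz * f vz)⁻¹ * b⁻¹ := by
        rw [gb, gz, gr, mul_assoc (f vr), ← mul_assoc (f vr), h.fcomm vr vz]; group
      _ = (b * f vr * b⁻¹ * (b * f vz * b⁻¹) * (b * f vz * b⁻¹))⁻¹ := by group
      _ = (f vr * f vz ^ 3)⁻¹ := by rw [br, bz, pow_three']; group
      _ = _ := by rw [h.f3, mul_one]
  have g3b : (i * f v1) ^ 3 * b * ((i * f v1) ^ 3)⁻¹ = b⁻¹ := by
    generalize i * f v1 = g at g3r gr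
    calc _ = g * (g ^ 3 * f vr * (g ^ 3)⁻¹) * g⁻¹ := by rw [← gr]; group
      _ = _ := by rw [g3r, ← gr]; group
  rw [g3] at g3r g3b
  refine ⟨i, i2, iC, ir, ?_⟩
  generalize f v1 * jj f i * (f v1)⁻¹ = k at *
  generalize jj f i = j at *
  have dc : ∀ q ∈ Q, q * t = t * q → Commute (t⁻¹ * (i * j * k)) q := fun q hq e =>
    (Commute.inv_left e.symm).mul_left ((Commute.mul_left (iC q hq e) (jC q hq e)).mul_left (kC q hq e))
  have di : ∀ q, t * q * t⁻¹ = q⁻¹ → i * j * k * q * (i * j * k)⁻¹ = q⁻¹ →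
      Commute (t⁻¹ * (i * j * k)) q := fun q e e' => by
    change _ = _
    calc _ = t⁻¹ * (i * j * k * q * (i * j * k)⁻¹) * (i * j * k) := by group
      _ = _ := by rw [e', ← e]; group
  obtain ⟨c, hc⟩ := h.toPre.mem_zp.1 (h.cQ (t⁻¹ * (i * j * k)) fun q hq => by
    obtain ⟨x, m, n, e, rfl⟩ := mQ3 h hq
    obtain ⟨α, γ, δ, rfl⟩ := F11 x e
    rw [h.add, h.add, h.fsmul, h.fsmul, h.fsmul]
    exact ((((dc _ zQ zt).pow_right _).mul_right ((di _ (tr' h) g3r).pow_right _)).mul_right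
      ((dc _ ((fQ h).2 (by decide)) (fc h (by decide))).pow_right _)).mul_right
      (((dc _ (aQ h) h.ta.symm).pow_right _).mul_right ((di _ h.tb g3b).pow_right _)))
  have d3 := h.f3 (c • vz)
  have dt' : Commute (f (c • vz)) t := by rw [h.fsmul]; exact Commute.pow_left zt _
  have dk : Commute (f (c • vz)) k := by rw [h.fsmul]; exact Commute.pow_left (kC _ zQ zt).symm _
  have d_i : Commute (f (c • vz)) i := by rw [h.fsmul]; exact Commute.pow_left iz.symm _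
  generalize f (c • vz) = d at hc d3 dt' dk d_i
  have u : i * j = d * k := by
    calc _ = t * (t⁻¹ * (i * j * k)) * k⁻¹ := by group
      _ = _ := by rw [← hc, ← dt', ← k2]; group
  have u2 : i * j * (i * j) = d * d * t := by
    rw [u, ← k2, mul_assoc d k, ← mul_assoc k, ← dk]; group
  have u3 : i * (i * j) * i⁻¹ * (i * j) = 1 := by
    calc _ = i * i * (j * j) := by group
      _ = 1 := by rw [i2, j2, h.t2]
  have d1 : d = 1 := by
    have c1 : Commute i (d * d * t) := (d_i.symm.mul_right d_i.symm).mul_right it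
    calc d = d ^ 3 * d * (t * t) := by rw [d3, h.t2]; group
      _ = i * (d * d * t) * i⁻¹ * (d * d * t) := by
        rw [c1, mul_inv_cancel_right, mul_assoc (d * d) t, ← (dt'.mul_left dt').left_comm,
          pow_three']
        group
      _ = i * (i * j) * i⁻¹ * (i * (i * j) * i⁻¹ * (i * j)) * (i * j) := by rw [← u2]; group
      _ = 1 := by rw [u3, mul_one, u3]
  rw [d1, one_mul] at u
  rw [d1, one_mul, one_mul] at u2
  refine ⟨u.symm, ?_⟩
  calc _ = i * j * (i * j) * j⁻¹ * (i * i)⁻¹ := by group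
    _ = _ := by rw [u2, i2, ← j2]; group

theorem nz {i : G} (i2 : i * i = t) (iz : i * f vz = f vz * i) (ir : i * f vr * i⁻¹ = b)
    (yj : f v1 * jj f i * (f v1)⁻¹ = i * jj f i) (g : G)
    (hg : g * f vz * g⁻¹ ∈ zpowers (f vz)) : ∃ c ∈ Bq f i, g * c ∈ NJ f := by
  have iB : i ∈ Bq f i := subset_closure (by simp)
  have jB : jj f i ∈ Bq f i := subset_closure (by simp)
  have tB : t ∈ Bq f i := i2 ▸ mul_mem iB iB
  have Bz : Bq f i ≤ centralizer {f vz} := (closure_le _).2 (by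
    have y : f v1 ∈ centralizer {f vz} := mem_centralizer_singleton_iff.2 (h.fcomm _ _)
    have k : i ∈ centralizer {f vz} := mem_centralizer_singleton_iff.2 iz
    rintro _ (rfl | rfl)
    · exact k
    · exact mul_mem (mul_mem y k) (inv_mem y))
  have QN : ∀ q ∈ Q, q ∈ NJ f := fun q hq => by
    obtain ⟨x, m, n, -, rfl⟩ := mQ3 h hq
    exact reN h.toPre (reQ h x m n)
  have ti := inv_eq_of_mul_eq_one_right h.t2
  have gi : ∀ p, (∃ c ∈ Bq f i, c * f vr * c⁻¹ = p⁻¹) → ∃ c ∈ Bq f i, c * f vr * c⁻¹ = p := by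
    rintro p ⟨c, hc, e⟩
    refine ⟨c * t, mul_mem hc tB, ?_⟩
    calc _ = c * (t * f vr * t⁻¹) * c⁻¹ := by group
      _ = _ := by rw [tr' h, ← inv_inv p, ← e]; group
  have g1 : ∀ x, t * (f x * b) * t⁻¹ = (f x * b)⁻¹ → ∃ c ∈ Bq f i, c * f vr * c⁻¹ = f x * b := by
    intro x e
    have k2 := Re.inv h.bB (N := mB * mB) (by decide +kernel) x
    have : f (mv mT x + mv (mB * mB) x) = 1 := by
      rw [h.add, ← h.tT, ← k2]
      calc _ = t * f x * (t⁻¹ * b⁻¹ * t) * t⁻¹ * f x * b := by group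
        _ = t * (f x * b) * t⁻¹ * (f x * b) := by
          rw [← h.tb, show t⁻¹ * (t * b * t⁻¹) * t = b by group]; group
        _ = 1 := by rw [e]; group
    have cy : ∀ y, f y * i * (f y)⁻¹ * f vr * (f y * i * (f y)⁻¹)⁻¹ = f (y - mv mB y) * b :=
      fun y => by
        rw [← yb h, ← ir]
        calc _ = f y * i * ((f y)⁻¹ * (f vr * f y)) * i⁻¹ * (f y)⁻¹ := by group
          _ = _ := by rw [h.fcomm vr y]; group
    rcases (F10 x (h.inj _ this)).2 with rfl | rfl | rfl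
    · exact ⟨i, iB, by rw [ir, h.f0, one_mul]⟩
    · exact ⟨_, jB, cy v1⟩
    · refine ⟨_, mul_mem iB jB, ?_⟩
      rw [← cy, ← yj, h.add, jj]
      group
  have g2 : ∀ p ∈ Q, p ≠ 1 → t * p * t⁻¹ = p⁻¹ → ∃ c ∈ Bq f i, c * f vr * c⁻¹ = p := by
    intro p hp p1 e
    obtain ⟨x, m, n, -, rfl⟩ := mQ3 h hp
    have r := ((Re.mul h.tT (reQ h x m n)).mul h.tT).mul (reQ h x m n)
    rw [← ti] at r
    nth_rw 1 [ti] at r
    rw [e, inv_mul_cancel] at r
    obtain rfl := (F9 m n).2 (uniq h.toPre r Re.one)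
    obtain rfl | rfl | rfl := (show ∀ n : Fin 3, n = 0 ∨ n = 1 ∨ n = 2 by decide) n
    · simp only [Fin.val_zero, pow_zero, mul_one] at e p1 ⊢
      rw [h.tT, ← h.fneg] at e
      rcases F12 x (h.finj e) with rfl | rfl | rfl
      · exact absurd h.f0 p1
      · exact ⟨1, one_mem _, by simp⟩
      · exact gi _ ⟨1, one_mem _, by simp [h.fneg]⟩
    · simp only [Fin.val_zero, Fin.val_one, pow_zero, pow_one, one_mul] at e ⊢
      exact g1 x e
    · simp only [Fin.val_zero, Fin.val_two, pow_zero, one_mul] at e ⊢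
      have k : (f x * b ^ 2)⁻¹ = f (mv mT x) * b := by
        calc _ = t * f x * t⁻¹ * (t * b * t⁻¹ * (t * b * t⁻¹)) := by rw [← e, pow_two]; group
          _ = _ := by rw [h.tT, h.tb, cube_inv h.b3]
      refine gi _ (k ▸ g1 _ ?_)
      rw [← k]
      calc _ = (t * (f x * b ^ 2) * t⁻¹)⁻¹ := by group
        _ = _ := by rw [e]
  have q0 := h.tN g hg
  have q9 : (g * t * g⁻¹ * t) ^ 9 = 1 := by
    obtain ⟨x, m, n, -, e⟩ := mQ3 h q0
    have r := (reQ h x m n).pow 3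
    rw [show ∀ m n : Fin 3, (mO ^ m.val * mB ^ n.val) ^ 3 = 1 by decide +kernel] at r
    obtain ⟨y, k⟩ := dJ h Re.one r
    rw [e, show 9 = 3 * 3 from rfl, pow_mul, k, mul_one, h.f3]
  have qt : t * (g * t * g⁻¹ * t) * t⁻¹ = (g * t * g⁻¹ * t)⁻¹ := by
    simp only [mul_inv_rev, ti, inv_inv]
    calc _ = t * g * t * g⁻¹ * (t * t) := by group
      _ = _ := by rw [h.t2]; group
  have e0 : g * t * g⁻¹ = g * t * g⁻¹ * t * t := by rw [mul_assoc _ t t, h.t2, mul_one]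
  generalize g * t * g⁻¹ * t = q at q0 q9 qt e0
  have q5 := pow_mem q0 5
  have gt : (q ^ 5)⁻¹ * g * t * ((q ^ 5)⁻¹ * g)⁻¹ = t := by
    calc _ = (q ^ 5)⁻¹ * (g * t * g⁻¹) * q ^ 5 := by group
      _ = (q ^ 5)⁻¹ * q * (t * q * t⁻¹) ^ 5 * t := by rw [e0, conj_pow]; group
      _ = (q ^ 9)⁻¹ * t := by rw [qt]; group
      _ = t := by rw [q9]; group
  obtain ⟨c0, hc0⟩ := h.toPre.mem_zp.1 hg
  have gz : (q ^ 5)⁻¹ * g * f vz * ((q ^ 5)⁻¹ * g)⁻¹ = f (c0 • vz) := by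
    have : Commute (q ^ 5) (f (c0 • vz)) := by rw [h.fsmul]; exact Commute.pow_right (Qz h q5) _
    calc _ = (q ^ 5)⁻¹ * (g * f vz * g⁻¹ * q ^ 5) := by group
      _ = _ := by rw [← hc0, ← this]; group
  suffices ∃ c ∈ Bq f i, (q ^ 5)⁻¹ * g * c ∈ NJ f by
    obtain ⟨c, hc, e⟩ := this
    exact ⟨c, hc, by simpa [mul_assoc] using mul_mem (QN _ q5) e⟩
  generalize (q ^ 5)⁻¹ * g = n at gt gz
  have nz' : n⁻¹ * f vz * n⁻¹⁻¹ ∈ zpowers (f vz) := by
    have : n ∈ 𝐍(zpowers (f vz)) := mem_norm (by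
      rintro _ ⟨k, rfl⟩
      rw [← conj_zpow, gz]
      exact zpow_mem (h.toPre.mem_zp.2 ⟨_, rfl⟩) _)
    exact conj_mem (inv_mem this) (mem_zpowers _)
  obtain ⟨c, hc, e⟩ := g2 _ (h.nQ _ nz' _ ((fQ h (x := vr)).2 (by decide)))
    (fun e => absurd (h.inj vr (conj_eq_one_iff.1 e)) (by decide)) (by
      calc _ = n⁻¹ * (n * t * n⁻¹ * f vr * (n * t * n⁻¹)⁻¹) * n := by group
        _ = _ := by rw [gt, tr' h]; group)
  have cz := mem_centralizer_singleton_iff.1 (Bz hc)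
  have k1 : n * c * f vz * (n * c)⁻¹ = f (c0 • vz) := by rw [mul_assoc n, cz, ← gz]; group
  refine ⟨c, hc, h.toPre.NA (A := {vz, e4, vr}) (fun k hk => ?_) ?_⟩
  · obtain ⟨x, rfl⟩ := h.cJ k (hk _ (by simp)) (hk _ (by simp)) (hk _ (by simp))
    exact h.fN x
  · rintro _ (rfl | rfl | rfl)
    · exact ⟨_, k1⟩
    · obtain ⟨c, k, e⟩ := h.lin (n * c) (by rw [k1]; exact h.toPre.mem_zp.2 ⟨_, rfl⟩)
      exact ⟨_, e⟩
    · refine ⟨vr, ?_⟩
      calc _ = n * (c * f vr * c⁻¹) * n⁻¹ := by group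
        _ = _ := by rw [e]; group

end

end IB2

theorem Mid.st {Q : Subgroup G} {f : V4 → G} {t a b : G} (h : Mid Q f t a b) :
    ∃ l s i, St l f s i := by
  obtain ⟨l, s, act, mul, dec, rfl, k⟩ := IB2.exs h
  obtain ⟨i, i2, iC, ir, yj, ij⟩ := IB2.exi k
  have iz := iC _ ((IB2.fQ k (x := vz)).2 (by decide)) (IB2.fc k (by decide))
  exact ⟨l, s, i, k.toPre, mul, act, dec, i2, iz,
    iC _ ((IB2.fQ k (x := e4)).2 (by decide)) (IB2.fc k (by decide)), iC _ (IB2.aQ k) k.ta.symm,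
    ir, ij, yj, IB2.nz k i2 iz ir yj⟩

end H12.O83
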