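import Cfsg.Agent.Lib.O83.Bas

/-! The matrices realised by the normalizer of `J` (package IB2). -/

set_option autoImplicit false
set_option linter.unusedSectionVars false

namespace H12.O83.IB2

open Subgroup H20.L43 H69

theorem F1 : ∀ p : V4, dt p p = 0 → dt p vz ≠ 0 → ∃ m n : Fin 3,
    p = mv (mO ^ m.val * mB ^ n.val) z2 ∨ p = -mv (mO ^ m.val * mB ^ n.val) z2 := by
  decide +kernel

set_option synthInstance.maxSize 2000 in
theorem F2 : ∀ p q : V4, dt p p = 0 → dt p vz = 0 → p ≠ 0 → p ≠ vz → p ≠ -vz →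
    dt q q = 0 → dt q vz = 0 → ∃ n : Fin 3, ∃ k : Fin 2,
    q = 0 ∨ q = vz ∨ q = -vz ∨ q = mv (mB ^ n.val * mT ^ k.val) p ∨
      q = -mv (mB ^ n.val * mT ^ k.val) p := by
  decide +kernel

theorem F3 : ∀ p : V4, dt p p = 0 → (dt (p - vz) (p - vz) = 0 ∨ dt (p - -vz) (p - -vz) = 0) →
    dt p vz = 0 := by
  decide +kernel

theorem F4k : ∀ a b c d e g : ZMod 3, a + b + c + 2 * (d + e + g) = 0 →
    a + b + c + 2 * (d - e - g) = 0 → a + b + c + 2 * (e - d - g) = 0 →
    a + b + c + 2 * (g - d - e) = 0 → d = 0 ∧ e = 0 ∧ g = 0 ∧ a + b + c = 0 := by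
  decide +kernel

theorem F4t {a b c : V4} (h1 : dt (a + b + c) (a + b + c) = 0) (h2 : dt (a + b - c) (a + b - c) = 0)
    (h3 : dt (a - b + c) (a - b + c) = 0) (h4 : dt (a - b - c) (a - b - c) = 0) :
    dt a b = 0 ∧ dt a c = 0 ∧ dt b c = 0 ∧ dt a a + dt b b + dt c c = 0 := by
  refine F4k _ _ _ _ _ _ ?_ ?_ ?_ ?_
  · rw [← h1]; simp only [dt, Prod.fst_add, Prod.snd_add]; ring
  · rw [← h2]; simp only [dt, Prod.fst_add, Prod.snd_add, Prod.fst_sub, Prod.snd_sub]; ring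
  · rw [← h3]; simp only [dt, Prod.fst_add, Prod.snd_add, Prod.fst_sub, Prod.snd_sub]; ring
  · rw [← h4]; simp only [dt, Prod.fst_sub, Prod.snd_sub]; ring

theorem F4 {M : M4} (h : ∀ p, dt p p = 0 → dt (mv M p) (mv M p) = 0) :
    ∃ lam : ZMod 3, ∀ x y, dt (mv M x) (mv M y) = lam * dt x y := by
  have k : ∀ a b c : V4, dt (a + b + c) (a + b + c) = 0 → dt (a + b - c) (a + b - c) = 0 →
      dt (a - b + c) (a - b + c) = 0 → dt (a - b - c) (a - b - c) = 0 →
      dt (mv M a) (mv M b) = 0 ∧ dt (mv M a) (mv M c) = 0 ∧ dt (mv M b) (mv M c) = 0 ∧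
        dt (mv M a) (mv M a) + dt (mv M b) (mv M b) + dt (mv M c) (mv M c) = 0 :=
    fun a b c h1 h2 h3 h4 => F4t (by simpa only [mv_add] using h _ h1)
      (by simpa only [mv_add, mv_sub] using h _ h2) (by simpa only [mv_add, mv_sub] using h _ h3)
      (by simpa only [mv_add, mv_sub] using h _ h4)
  obtain ⟨a12, a13, a23, s1⟩ := k e1 e2 e3 (by decide) (by decide) (by decide) (by decide)
  obtain ⟨-, a14, a24, s2⟩ := k e1 e2 e4 (by decide) (by decide) (by decide) (by decide)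
  obtain ⟨-, -, a34, s3⟩ := k e1 e3 e4 (by decide) (by decide) (by decide) (by decide)
  obtain ⟨-, -, -, s4⟩ := k e2 e3 e4 (by decide) (by decide) (by decide) (by decide)
  refine ⟨dt (mv M e1) (mv M e1), fun x y => ?_⟩
  simp only [dt, mv, e1, e2, e3, e4, mul_one, mul_zero, add_zero, zero_add] at *
  linear_combination (x.1 * y.2.1 + x.2.1 * y.1) * a12 + (x.1 * y.2.2.1 + x.2.2.1 * y.1) * a13 +
    (x.1 * y.2.2.2 + x.2.2.2 * y.1) * a14 + (x.2.1 * y.2.2.1 + x.2.2.1 * y.2.1) * a23 +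
    (x.2.1 * y.2.2.2 + x.2.2.2 * y.2.1) * a24 + (x.2.2.1 * y.2.2.2 + x.2.2.2 * y.2.2.1) * a34 +
    x.2.1 * y.2.1 * (s4 - s3) + x.2.2.1 * y.2.2.1 * (s4 - s2) + x.2.2.2 * y.2.2.2 * (s4 - s1)

theorem F5k : ∀ w y : V4, dt e1 w = dt e1 y → dt e2 w = dt e2 y → dt e3 w = dt e3 y →
    dt e4 w = dt e4 y → w = y := by
  decide +kernel

theorem F5 {M : M4} (h : ∀ x y, dt (mv M x) (mv M y) = dt x y) : Orth M := by
  have k : ∀ x y, dt x (mv (tr M * M) y) = dt x y := fun x y => by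
    rw [← h x y, mv_mul]; generalize mv M y = w; simp only [dt, mv, tr]; ring
  exact mv_ext fun y => by rw [mv_one]; exact F5k _ _ (k _ y) (k _ y) (k _ y) (k _ y)

theorem F6 {N : M4} (h : Orth N) : mv N z2 = z2 → N * N * N = 1 → N = 1 ∨
    mB * N * N * mT * N * mB * mB = p1 ∨ mB * N * mT * N * N * mB * mB = p1 ∨
    N * N * mB * N * N * mB * N * mB * mT * N = p1 :=
  forall_orth (P := fun N => mv N z2 = z2 → N * N * N = 1 → N = 1 ∨
    mB * N * N * mT * N * mB * mB = p1 ∨ mB * N * mT * N * N * mB * mB = p1 ∨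
    N * N * mB * N * N * mB * N * mB * mT * N = p1) (by decide +kernel) N h

theorem F7 : ∀ c k : ZMod 3, dt (c • e4 + k • vz) (c • e4 + k • vz) = c * c ∧ (c * c = 1 ∨ c = 0) ∧
    k • vz ≠ e4 := by
  decide +kernel

variable {G : Type*} [Group G] [Finite G] {f : V4 → G}

/-- `g` acts on `J` by the matrix `M` -/
def Re (f : V4 → G) (g : G) (M : M4) : Prop := ∀ x, g * f x * g⁻¹ = f (mv M x)

/-- the realised matrices -/
def Ga (f : V4 → G) (M : M4) : Prop := ∃ g, Re f g M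

/-- conjugates of `z` and its inverse -/
def Si (f : V4 → G) (x : V4) : Prop := ∃ g, g * f vz * g⁻¹ = f x ∨ g * f vz * g⁻¹ = f (-x)

theorem eqns_IB2a : True := by
  have := @Re.eq_1.{0}
  have := @Ga.eq_1.{0}
  have := @Si.eq_1.{0}
  trivial

variable {g g' : G} {M N : M4}

theorem Re.one : Re f 1 1 := fun x => by simp [mv_one]

theorem Re.mul (h : Re f g M) (k : Re f g' N) : Re f (g * g') (M * N) := fun x => by
  rw [mv_mul, ← h, ← k]; group

theorem Re.pow (h : Re f g M) (n : ℕ) : Re f (g ^ n) (M ^ n) := by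
  induction n with
  | zero => simpa using Re.one
  | succ n ih => rw [pow_succ, pow_succ]; exact ih.mul h

theorem Re.inv (h : Re f g M) (e : M * N = 1) : Re f g⁻¹ N := fun x => by
  have := h (mv N x)
  rw [← mv_mul, e, mv_one] at this
  rw [← this]; group

theorem Ga.one : Ga f 1 := ⟨1, Re.one⟩

theorem Ga.mul (h : Ga f M) (k : Ga f N) : Ga f (M * N) :=
  let ⟨_, a⟩ := h; let ⟨_, b⟩ := k; ⟨_, a.mul b⟩

theorem Ga.pow (h : Ga f M) (n : ℕ) : Ga f (M ^ n) := let ⟨_, a⟩ := h; ⟨_, a.pow n⟩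

theorem Ga.inv (h : Ga f M) (e : M * N = 1) : Ga f N := let ⟨_, a⟩ := h; ⟨_, a.inv e⟩

theorem Si.neg {x : V4} (h : Si f x) : Si f (-x) :=
  let ⟨g, a⟩ := h; ⟨g, by rw [neg_neg]; exact a.symm⟩

theorem Si.mv {x : V4} (h : Si f x) (k : Ga f M) : Si f (mv M x) := by
  obtain ⟨g, a⟩ := h
  obtain ⟨n, b⟩ := k
  refine ⟨n * g, a.imp (fun e => ?_) fun e => ?_⟩
  · rw [← b, ← e]; group
  · rw [← mv_neg, ← b, ← e]; group

section
variable {a b : G} (h : Pre f a b)
include h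

theorem reJ (x : V4) : Re f (f x) 1 := fun y => by
  rw [mv_one, h.fcomm]; group

theorem uniq (e : Re f g M) (k : Re f g N) : M = N :=
  mv_ext fun x => h.finj ((e x).symm.trans (k x))

theorem inj (k : Ga f M) {x y : V4} (e : mv M x = mv M y) : x = y := by
  obtain ⟨n, k⟩ := k
  have := (k x).trans ((congrArg f e).trans (k y).symm)
  exact h.finj (by simpa using this)

theorem reN (e : Re f g M) : g ∈ NJ f := h.mem_NJ.2 fun x => ⟨_, e x⟩

end

variable {Q : Subgroup G} {t a b : G} (h : Mid Q f t a b)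
include h

theorem dJ (e : Re f g M) (k : Re f g' M) : ∃ x, g' = f x * g := by
  have c : ∀ x, g' * g⁻¹ * f x = f x * (g' * g⁻¹) := fun x => by
    obtain ⟨N, hN⟩ := h.mat (inv_mem (reN h.toPre e))
    have e1 := uniq h.toPre (Re.mul e hN) (by simpa using Re.one)
    have := Re.mul k hN x
    rw [e1, mv_one] at this
    rw [← mul_inv_eq_iff_eq_mul, this]
  obtain ⟨x, hx⟩ := h.cJ _ (c _) (c _) (c _)
  exact ⟨x, by rw [← hx]; group⟩

theorem GT : Ga f mT := ⟨t, h.tT⟩
theorem GO : Ga f mO := ⟨a, h.aO⟩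
theorem GB : Ga f mB := ⟨b, h.bB⟩

theorem Si.dt0 {x : V4} (k : Si f x) : dt x x = 0 := by
  obtain ⟨g, k | k⟩ := k
  · exact h.sing g x k
  · have := h.sing g _ k
    rwa [dt_neg, dt_comm, dt_neg, neg_neg] at this

theorem exM : ∃ M M', Ga f M ∧ Ga f M' ∧ M * M' = 1 ∧ M' * M = 1 ∧
    (mv M' z2 = vz ∨ mv M' z2 = -vz) := by
  obtain ⟨g, hg⟩ := h.fus
  obtain ⟨n, hn, e⟩ := h.toPre.fus (g := g) (A := {vz}) (by
    rintro _ rfl
    exact hg.elim (fun e => ⟨_, e⟩) fun e => ⟨_, e⟩)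
  obtain ⟨M, hM⟩ := h.mat hn
  obtain ⟨M', hM'⟩ := h.mat (inv_mem hn)
  have e1 := uniq h.toPre (Re.mul hM' hM) (by simpa using Re.one)
  refine ⟨M, M', ⟨_, hM⟩, ⟨_, hM'⟩, uniq h.toPre (Re.mul hM hM') (by simpa using Re.one), e1, ?_⟩
  rw [← e vz rfl, hM] at hg
  refine hg.imp (fun k => ?_) fun k => ?_
  · rw [← h.finj k, ← mv_mul, e1, mv_one]
  · rw [← neg_neg z2, ← h.finj k, mv_neg, ← mv_mul, e1, mv_one]

theorem si1 {p : V4} (h1 : dt p p = 0) (h2 : dt p vz ≠ 0) : Si f p := by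
  have k : Si f z2 := h.fus
  obtain ⟨m, n, rfl | rfl⟩ := F1 p h1 h2
  · exact k.mv (((GO h).pow _).mul ((GB h).pow _))
  · exact (k.mv (((GO h).pow _).mul ((GB h).pow _))).neg

theorem si {q : V4} (h1 : dt q q = 0) : q = 0 ∨ Si f q := by
  by_cases h2 : dt q vz = 0
  swap
  · exact Or.inr (si1 h h1 h2)
  obtain ⟨M, M', -, hM', -, -, e⟩ := exM h
  have s1 := (si1 h (p := (1, 0, 1, 1)) (by decide) (by decide)).mv hM'
  have s2 := (si1 h (p := (1, 0, 1, 1) - z2) (by decide) (by decide)).mv hM'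
  have sz : Si f vz := ⟨1, Or.inl (by simp)⟩
  have ne : ∀ c : V4, (1, 0, 1, 1) ≠ c → mv M' (1, 0, 1, 1) ≠ mv M' c :=
    fun c k e => k (inj h.toPre hM' e)
  have n0 := ne 0 (by decide)
  have n1 := ne z2 (by decide)
  have n2 := ne (-z2) (by decide)
  rw [mv_zero] at n0
  rw [mv_neg] at n2
  have d2 := s2.dt0 h
  rw [mv_sub] at d2
  have d3 := F3 _ (s1.dt0 h) (e.imp (fun e => by rwa [e] at d2) fun e => by rwa [e] at d2)
  obtain ⟨n, k, rfl | rfl | rfl | rfl | rfl⟩ := F2 _ q (s1.dt0 h) d3 n0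
    (by rcases e with e | e <;> rw [e] at n1 n2 <;> simp_all)
    (by rcases e with e | e <;> rw [e] at n1 n2 <;> simp_all) h1 h2
  · exact Or.inl rfl
  · exact Or.inr sz
  · exact Or.inr sz.neg
  · exact Or.inr (s1.mv (((GB h).pow _).mul ((GT h).pow _)))
  · exact Or.inr (s1.mv (((GB h).pow _).mul ((GT h).pow _))).neg

theorem mult (k : Ga f M) : ∃ lam : ZMod 3, ∀ x y, dt (mv M x) (mv M y) = lam * dt x y :=
  F4 fun p hp => by
    rcases si h hp with rfl | s
    · rw [mv_zero]; exact hp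
    · exact (s.mv k).dt0 h

theorem Gp1 : Ga f p1 := by
  obtain ⟨M, M', hM, hM', e1, e2, e⟩ := exM h
  obtain ⟨lam, hl⟩ := mult h hM
  have hN := (hM.mul (GB h)).mul hM'
  have o : Orth (M * mB * M') := F5 fun x y => by
    rw [mv_mul, mv_mul, mv_mul, mv_mul, hl, (W_mB (l := true)).1.dt, ← hl, ← mv_mul, ← mv_mul, e1,
      mv_one, mv_one]
  have fx : mv (M * mB * M') z2 = z2 := by
    have : mv mB (mv M' z2) = mv M' z2 := by rcases e with e | e <;> rw [e] <;> decide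
    rw [mv_mul, mv_mul, this, ← mv_mul, e1, mv_one]
  have cb : M * mB * M' * (M * mB * M') * (M * mB * M') = 1 := by
    calc _ = M * mB * (M' * M) * mB * (M' * M) * mB * M' := by simp only [mul_assoc]
      _ = M * (mB * mB * mB) * M' := by simp only [e2, mul_one, mul_assoc]
      _ = 1 := by rw [show mB * mB * mB = 1 by decide +kernel, mul_one, e1]
  have B := GB h
  have T := GT h
  rcases F6 o fx cb with k | k | k | k
  · have : mB = 1 := by
      calc mB = M' * M * mB * (M' * M) := by simp only [e2, mul_one, one_mul]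
        _ = M' * (M * mB * M') * M := by simp only [mul_assoc]
        _ = 1 := by rw [k, mul_one, e2]
    exact absurd this (by decide)
  all_goals
    rw [← k]
    generalize M * mB * M' = N at hN
    repeat (first | with_reducible apply Ga.mul | with_reducible assumption)

theorem GW0 (k : W0 M) : Ga f M := by
  have O := GO h
  have k1 := Gp1 h
  have k3 : Ga f p3 := by
    rw [show p3 = mO * p1 * mO * mO by decide +kernel]; exact ((O.mul k1).mul O).mul O
  refine W0_ind Ga.one (fun _ _ _ _ => Ga.mul) (GT h) ?_ k3 ?_ M k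
  · rw [show s23 = mB * mT by decide +kernel]; exact (GB h).mul (GT h)
  · rw [show p2 = mO * p3 * mO * mO by decide +kernel]; exact ((O.mul k3).mul O).mul O

theorem GW (k : Orth M) (e : sg M = 1) : Ga f M := by
  obtain ⟨c, n, N, hN, e1, e2⟩ := W_dec k
  rw [e1, e2 e, pow_zero, one_mul]
  exact ((GO h).pow n).mul (GW0 h hN)

theorem Ga.orth (k : Ga f M) : Orth M := by
  obtain ⟨lam, hl⟩ := mult h k
  have z0 : mv M vz ≠ 0 := fun e => absurd (inj h.toPre k (e.trans (mv_zero M).symm)) (by decide)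
  obtain ⟨N, hN, e⟩ := W0_sing (p := mv M vz) (by rw [hl]; exact mul_zero _) z0
  have k' := ((GW0 h hN).inv hN.1.mul_tr).mul k
  have ez : mv (tr N * M) vz = vz := by rw [mv_mul, ← e, hN.1.tr_mv]
  obtain ⟨n, hn⟩ := id k'
  obtain ⟨c, d, e4'⟩ := h.lin n (by rw [hn, ez]; exact mem_zpowers _)
  have e5 := h.finj ((hn e4).symm.trans e4')
  obtain ⟨a1, a2, a3⟩ := F7 c d
  rw [← e5, mv_mul, hN.1.tr.dt, hl, show dt e4 e4 = 1 by decide, mul_one] at a1
  rcases a2 with a2 | rfl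
  · exact F5 fun x y => by rw [hl, a1, a2, one_mul]
  · rw [zero_smul, zero_add, ← ez, ← mv_smul] at e5
    exact absurd (inj h.toPre k' e5).symm a3

theorem exl : ∃ l, ∀ M, Ga f M ↔ W l M := by
  classical
  have o : Orth u4 := by decide +kernel
  have sgu : ∀ M, Orth M → sg M ≠ 1 → Ga f (M * u4) := fun M k e => by
    refine GW h (k.mul o) ?_
    have := sg_sq k
    rw [sg_mul k o, show sg u4 = -1 by decide +kernel]
    revert this e
    generalize sg M = c
    revert c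
    decide
  refine ⟨decide (Ga f u4), fun M => ⟨fun k => ⟨k.orth h, ?_⟩, fun k => ?_⟩⟩
  · refine or_iff_not_imp_right.2 fun e => decide_eq_true ?_
    have := (k.inv (k.orth h).mul_tr).mul (sgu M (k.orth h) e)
    rwa [← mul_assoc, k.orth h, one_mul] at this
  · by_cases e : sg M = 1
    · exact GW h k.1 e
    · have := (sgu M k.1 e).mul (of_decide_eq_true (k.2.resolve_right e))
      rwa [mul_assoc, show u4 * u4 = 1 by decide +kernel, mul_one] at this

end H12.O83.IB2
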