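import Cfsg.Agent.Lib.O83.Gen
import Cfsg.Agent.Lib.U63.Gen

/-! The centralizer of `t` and a short vector (package LL, helper47; plan by helper12). -/

set_option autoImplicit false
set_option linter.unusedSectionVars false
set_option linter.unusedVariables false
set_option synthInstance.maxSize 4096

namespace H12.O83

open Subgroup H20.L43 H69

variable {G : Type*} [Group G] [Finite G] {l : Bool} {f : V4 → G} {s : M4 → G} {i : G}

namespace LL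

open H87.U6 (cm_inv cm_mul cm_pow cm_conj mem_z2)

theorem cmj {g x : G} : g * x = x * g ↔ g * x * g⁻¹ = x := mul_inv_eq_iff_eq_mul.symm

theorem sec (l : Bool) : Sec l mT e4 0 v1 e3 where
  hW := W_mT
  sq := by decide +kernel
  f0 := by decide +kernel
  f1 := by decide +kernel
  fw := by decide +kernel
  fy := by decide +kernel
  dec := by decide +kernel
  inj := by decide +kernel
  nd := by decide +kernel
  big := ⟨vz, v1, by decide +kernel⟩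
  two M hM a b _ := forall_orth (P := fun M => M * mT = mT * M → mv M e4 = e4 → M ^ 4 = 1 ∧
    (mv M v1 = v1 → mv M e3 = e3 → M = 1 ∨ M = mT)) (by decide +kernel) M hM.1 a b

theorem hm (M : M4) (hM : Orth M) : M * mT = mT * M → mv M e4 = e4 →
    (mv M v1 = v1 ∨ mv M v1 = -v1) ∧ (mv M e3 = e3 ∨ mv M e3 = -e3) ∧ (sg M = 1 → mv M e3 = e3) :=
  forall_orth (P := fun M => M * mT = mT * M → mv M e4 = e4 →
    (mv M v1 = v1 ∨ mv M v1 = -v1) ∧ (mv M e3 = e3 ∨ mv M e3 = -e3) ∧ (sg M = 1 → mv M e3 = e3))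
    (by decide +kernel) M hM

theorem vec : ∀ a b : ZMod 3, b ≠ 0 → ∃ c : ZMod 3, c * c = 1 ∧
    (a • v1 + b • e3 = c • e3 ∨ a • v1 + b • e3 = c • vz ∨ a • v1 + b • e3 = c • mv p1 vz) := by
  decide +kernel

theorem vec0 : ∀ a b : ZMod 3, ¬(a = 0 ∧ b = 0) → b = 0 → a * a = 1 ∧ a • v1 + b • e3 = a • v1 := by
  decide +kernel

/-- a core of the centralizer of `v` in `L` -/
def Core (L N : Subgroup G) (v : G) (O : Subgroup G) : Prop :=
  O ≤ L ∧ (∀ o ∈ O, o ^ 4 = 1 ∧ o * v = v * o) ∧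
    ∀ g ∈ L, g * v = v * g → (∀ o ∈ O, g * o * g⁻¹ ∈ O) ∧ ∃ o ∈ O, o * g ∈ N

theorem Core.cj {L N O : Subgroup G} {v n : G} (h : Core L N v O) (hL : n ∈ L) (hN : n ∈ N) :
    Core L N (n * v * n⁻¹) (O ^ᶜ n) := by
  refine ⟨cj_le_of_mem h.1 hL, fun o ho => ?_, fun g hg c => ?_⟩
  · obtain ⟨a, ha, rfl⟩ := mem_cj'.1 ho
    exact ⟨by rw [conj_pow, (h.2.1 a ha).1]; simp, cm_conj (h.2.1 a ha).2 n⟩
  · obtain ⟨k, o, ho, k'⟩ := h.2.2 (n⁻¹ * g * n) (mul_mem (mul_mem (inv_mem hL) hg) hL)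
      (by simpa only [mul_assoc, inv_mul_cancel_left, inv_inv, inv_mul_cancel, mul_one]
        using cm_conj c n⁻¹)
    refine ⟨fun o ho => mem_cj.2 ?_, _, cj_mem n ho, ?_⟩
    · convert k _ (mem_cj.1 ho) using 1
      group
    · convert mul_mem (mul_mem hN k') (inv_mem hN) using 1
      group

theorem Core.congr {L N O : Subgroup G} {v v' : G} (h : Core L N v O)
    (e : ∀ g, g * v = v * g ↔ g * v' = v' * g) : Core L N v' O :=
  ⟨h.1, fun o ho => ⟨(h.2.1 o ho).1, (e o).1 (h.2.1 o ho).2⟩, fun g hg c => h.2.2 g hg ((e g).2 c)⟩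

theorem pow_div {O : Subgroup G} {o n : G} (ho : o ∈ O) (hn : ∀ a ∈ O, n * a * n⁻¹ ∈ O) (k : ℕ) :
    (o * n) ^ k * (n ^ k)⁻¹ ∈ O := by
  induction k with
  | zero => simp
  | succ k ih =>
    convert mul_mem ho (hn _ ih) using 1
    rw [pow_succ' (o * n), pow_succ' n]
    group

theorem Core.pow {L N O : Subgroup G} {v g : G} (h : Core L N v O)
    (h12 : ∀ n ∈ L, n ∈ N → n ^ 12 = 1) (hg : g ∈ L) (c : g * v = v * g) : g ^ 1296 = 1 := by
  obtain ⟨-, o, ho, hN⟩ := h.2.2 g hg c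
  have hL := mul_mem (h.1 ho) hg
  have := pow_div (inv_mem ho) (h.2.2 _ hL (cm_mul (h.2.1 o ho).2 c)).1 12
  rw [inv_mul_cancel_left, h12 _ hL hN, inv_one, mul_one] at this
  rw [show 1296 = 12 * 4 * 27 from rfl, pow_mul, pow_mul, (h.2.1 _ this).1, one_pow]

/-- the elements of `Y` which are central modulo `U` -/
def Zc (Y U : Subgroup G) (nU : ∀ k ∈ Y, ∀ u ∈ U, k * u * k⁻¹ ∈ U) : Subgroup G where
  carrier := {k | k ∈ Y ∧ ∀ k' ∈ Y, k * k' * k⁻¹ * k'⁻¹ ∈ U}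
  one_mem' := ⟨one_mem _, fun _ _ => by simp⟩
  mul_mem' {a b} ha hb := ⟨mul_mem ha.1 hb.1, fun k hk => by
    convert mul_mem (nU a ha.1 _ (hb.2 k hk)) (ha.2 k hk) using 1
    group⟩
  inv_mem' {a} ha := ⟨inv_mem ha.1, fun k hk => by
    convert nU _ (inv_mem ha.1) _ (inv_mem (ha.2 k hk)) using 1
    group⟩

theorem Fcomm {a y : G} {F : Subgroup G} (hF : Fc f a y F) {φ ψ : G} (h1 : φ ∈ F) (h2 : ψ ∈ F) :
    φ * ψ = ψ * φ := by
  have := hF.sq _ (mul_mem h1 h2)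
  rwa [mul_eq_one_iff_eq_inv, mul_inv_rev, inv_eq_of_mul_eq_one_right (hF.sq _ h1),
    inv_eq_of_mul_eq_one_right (hF.sq _ h2)] at this

/-- every element of the core is a commutator with `y` -/
theorem Fcm {a y : G} {F : Subgroup G} (hF : Fc f a y F) (y3 : y ^ 3 = 1)
    (yF : ∀ φ ∈ F, y * φ * y⁻¹ ∈ F) {φ : G} (h : φ ∈ F) :
    ∃ c ∈ F, φ = c * y * c⁻¹ * y⁻¹ ∨ φ = c * y * c⁻¹ * y⁻¹ * a := by
  have h1 := yF _ h
  have h2 := yF _ h1
  have h3 : y * (y * (y * φ * y⁻¹) * y⁻¹) * y⁻¹ = φ := by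
    rw [show y * (y * (y * φ * y⁻¹) * y⁻¹) * y⁻¹ = y * y * y * φ * (y * y * y)⁻¹ by group,
      ← pow_three', y3]
    simp
  obtain ⟨c, hc⟩ : ∃ c, y * φ * y⁻¹ = c := ⟨_, rfl⟩
  rw [hc] at h1 h2 h3
  obtain ⟨d, hd⟩ : ∃ d, y * c * y⁻¹ = d := ⟨_, rfl⟩
  rw [hd] at h2 h3
  have e : c * y * c⁻¹ * y⁻¹ = c * d := by
    rw [← inv_eq_of_mul_eq_one_right (hF.sq d h2), ← hd]; group
  have n := hF.fp (φ * (c * d)) (mul_mem h (mul_mem h1 h2)) (by
    rw [← conj_mul, ← conj_mul, hc, hd, h3, ← mul_assoc c, ← Fcomm hF h (mul_mem h1 h2),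
      mul_inv_cancel]
    exact one_mem _)
  refine ⟨c, h1, e ▸ ((mem_z2 (hF.sq a hF.aF)).1 n).imp (fun k => ?_) fun k => ?_⟩
  · exact mul_left_cancel ((hF.sq φ h).trans k.symm)
  · exact mul_left_cancel ((hF.sq φ h).trans (by rw [← mul_assoc φ, k, hF.sq a hF.aF]))

theorem F_le {a y : G} {F S : Subgroup G} (hF : Fc f a y F) (a1 : a ≠ 1) (ya : y * a = a * y)
    (yF : ∀ φ ∈ F, y * φ * y⁻¹ ∈ F) (yS : ∀ φ ∈ S, y * φ * y⁻¹ ∈ S) (aS : a ∈ S) {o : G}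
    (oF : o ∈ F) (oS : o ∈ S) (ho : o ∉ zpowers a) : F ≤ S := by
  by_contra hn
  have T : zpowers a ≤ F ⊓ S := zpowers_le.2 ⟨hF.aF, aS⟩
  have c2 : Nat.card (zpowers a) = 2 := by
    rw [Nat.card_zpowers, orderOf_eq_prime (by rw [sq, hF.sq a hF.aF]) a1]
  have d1 := card_mul_index ((zpowers a).subgroupOf (F ⊓ S))
  have d2 := card_mul_index ((F ⊓ S).subgroupOf F)
  rw [Nat.card_congr (subgroupOfEquivOfLe T).toEquiv, c2] at d1
  rw [Nat.card_congr (subgroupOfEquivOfLe inf_le_left).toEquiv] at d2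
  have n1 : ((zpowers a).subgroupOf (F ⊓ S)).index ≠ 1 := fun e =>
    ho (mem_subgroupOf.1 ((index_eq_one.1 e).ge (mem_top (⟨o, oF, oS⟩ : (F ⊓ S : Subgroup G)))))
  have n2 : ((F ⊓ S).subgroupOf F).index ≠ 1 := fun e =>
    hn fun φ h => (mem_subgroupOf.1 ((index_eq_one.1 e).ge (mem_top (⟨φ, h⟩ : F)))).2
  have n3 := index_ne_zero_of_finite (H := (zpowers a).subgroupOf (F ⊓ S))
  have n4 := index_ne_zero_of_finite (H := (F ⊓ S).subgroupOf F)
  have n5 := hF.card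
  have i2 : ((zpowers a).subgroupOf (F ⊓ S)).index = 2 := by
    rw [← d2, ← d1] at n5
    generalize ((zpowers a).subgroupOf (F ⊓ S)).index = m at *
    generalize ((F ⊓ S).subgroupOf F).index = n at *
    have : 2 ≤ n := by omega
    have : 2 ≤ m := by omega
    nlinarith
  refine ho (hF.fp o oF (mem_subgroupOf.1 ((mul_mem_iff_of_index_two i2
    (a := ⟨y * o * y⁻¹, yF o oF, yS o oS⟩) (b := ⟨o, oF, oS⟩⁻¹)).2 ?_)))
  rw [inv_mem_iff, mem_subgroupOf, mem_subgroupOf]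
  refine iff_of_false (fun c => ho ?_) ho
  rcases (mem_z2 (hF.sq a hF.aF)).1 c with e | e
  · rw [conj_eq_one_iff.1 e]; exact one_mem _
  · rw [mul_left_cancel (mul_right_cancel (e.trans (cmj.1 ya).symm))]; exact mem_zpowers _

variable (h : St l f s i)
include h

theorem cm_smul {c : ZMod 3} (hc : c * c = 1) (x : V4) (g : G) :
    g * f x = f x * g ↔ g * f (c • x) = f (c • x) * g := by
  have k : ∀ (c : ZMod 3) (x : V4), g * f x = f x * g → g * f (c • x) = f (c • x) * g :=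
    fun c x e => by rw [h.fsmul]; exact (cm_pow e.symm _).symm
  exact ⟨k c x, fun e => by simpa only [smul_smul, hc, one_smul] using k c _ e⟩

theorem mL {g : G} (h1 : g * s mT = s mT * g) (h2 : g * f e4 = f e4 * g) : g ∈ Lc f (s mT) e4 0 :=
  mem_Lc.2 ⟨h1, h2, by rw [h.f0, mul_one, one_mul]⟩

theorem fL {x : V4} (hx : mv mT x = x) : f x ∈ Lc f (s mT) e4 0 :=
  mL h (h.sfc W_mT hx).symm (h.fcomm _ _)

theorem p1L : s p1 ∈ Lc f (s mT) e4 0 :=
  mL h (h.scomm W_p1 W_mT (by decide +kernel)) (h.sfc W_p1 (by decide +kernel))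

theorem hw : ∀ g ∈ Lc f (s mT) e4 0, g * f v1 = f v1 * g → g ∈ NJ f := fun g hg c =>
  h.cz (p := v1 + e4) (x := v1) (by decide +kernel)
    (by rw [h.add]; exact (cm_mul c.symm (mem_Lc.1 hg).2.1.symm).symm) c

theorem coreB : Core (Lc f (s mT) e4 0) (NJ f) (f vz) (Bq f i) := by
  refine ⟨fun b hb => mL h (h.Bt hb) (h.Be hb), fun b hb => ⟨h.B4 hb, h.Bz hb⟩, fun g hg c => ?_⟩
  have hz : g * f vz * g⁻¹ ∈ zpowers (f vz) := by rw [cmj.1 c]; exact mem_zpowers _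
  obtain ⟨b, hb, k⟩ := h.nz g hz
  exact ⟨fun b hb => h.nB hz (mem_Lc.1 hg).1 hb, _, h.nB hz (mem_Lc.1 hg).1 hb, by
    rwa [inv_mul_cancel_right]⟩

theorem coreF {F : Subgroup G} (hF : Fc f (s mT) (f v1) F) :
    Core (Lc f (s mT) e4 0) (NJ f) (f e3) F :=
  ⟨fun φ a => mL h (Fcomm hF a hF.aF) (hF.c4 φ a), fun φ a => ⟨by
    rw [show 4 = 2 * 2 from rfl, pow_mul, sq φ, hF.sq φ a, one_pow], hF.c3 φ a⟩,
    fun g hg c => hF.nF g (mem_Lc.1 hg).1 c (mem_Lc.1 hg).2.1⟩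

theorem core {F : Subgroup G} (hF : Fc f (s mT) (f v1) F) (a b : ZMod 3) (hb : b ≠ 0) :
    ∃ O, (O = F ∨ O = Bq f i ∨ O = Bq f i ^ᶜ s p1) ∧
      Core (Lc f (s mT) e4 0) (NJ f) (f (a • v1 + b • e3)) O := by
  obtain ⟨c, hc, e | e | e⟩ := vec a b hb <;> rw [e]
  · exact ⟨_, Or.inl rfl, (coreF h hF).congr (cm_smul h hc _)⟩
  · exact ⟨_, Or.inr (Or.inl rfl), (coreB h).congr (cm_smul h hc _)⟩
  · have := (coreB h).cj (p1L h) (h.sN W_p1)
    rw [h.act _ W_p1] at this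
    exact ⟨_, Or.inr (Or.inr rfl), this.congr (cm_smul h hc _)⟩

theorem exists_yd {F : Subgroup G} (hF : Fc f (s mT) (f v1) F) :
    ∃ Y, YD f mT (Lc f (s mT) e4 0) (Uc f (s mT) e4 0) Y v1 e3 := by
  cases l
  · refine h.three (sec _) (fun M hM a b _ => ?_) (hw h) fun a b hb g hg c => ?_
    · obtain ⟨k1, -, k2⟩ := hm M hM.1 a b
      exact ⟨k2 (hM.2.resolve_left (by decide)), k1⟩
    · obtain ⟨O, -, k⟩ := core h hF a b hb
      refine k.pow (fun n hn hN => ?_) hg c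
      obtain ⟨x, M, hM, rfl⟩ := h.dec n hN
      obtain ⟨y, e⟩ := h.fs_pow hM x 4
      rw [((sec false).two M hM ((h.com_s hM W_mT).1 (mem_Lc.1 hn).1).2
        ((h.com_f hM).1 (mem_Lc.1 hn).2.1) (mv_zero M)).1, h.s1, mul_one] at e
      rw [show 12 = 4 * 3 from rfl, pow_mul, e, h.f3]
  · refine h.nine (sec _) (σ := p1) (τ := u3) W_p1 (by decide +kernel) (by decide +kernel)
      (by decide +kernel) (by decide +kernel) (by decide +kernel) (by decide +kernel)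
      (by decide +kernel) (by decide +kernel) (by decide +kernel) (by decide +kernel)
      (by decide +kernel) (by decide +kernel) (by decide +kernel) (by decide +kernel)
      (fun M hM a b _ => ⟨(hm M hM.1 a b).1, (hm M hM.1 a b).2.1⟩) (hw h) fun a b hb => ?_
    obtain ⟨O, -, k⟩ := core h hF a b hb
    exact ⟨O, k⟩

theorem B_le {S : Subgroup G} (yS : ∀ φ ∈ S, f v1 * φ * (f v1)⁻¹ ∈ S) (tS : s mT ∈ S) {o : G}
    (oB : o ∈ Bq f i) (oS : o ∈ S) (ho : o ∉ zpowers (s mT)) : Bq f i ≤ S := by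
  have y3 : ∀ x : G, f v1 * (f v1 * (f v1 * x * (f v1)⁻¹) * (f v1)⁻¹) * (f v1)⁻¹ = x := fun x => by
    rw [show f v1 * (f v1 * (f v1 * x * (f v1)⁻¹) * (f v1)⁻¹) * (f v1)⁻¹ =
      f v1 * f v1 * f v1 * x * (f v1 * f v1 * f v1)⁻¹ by group, ← pow_three', h.f3]
    simp
  have k1 : i ∈ S → Bq f i ≤ S := fun a => (closure_le _).2 (by
    rintro _ (rfl | rfl)
    exacts [a, yS _ a])
  have k2 : jj f i ∈ S → Bq f i ≤ S := fun a => k1 (y3 i ▸ yS _ (yS _ a))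
  have k3 : i * jj f i ∈ S → Bq f i ≤ S := fun a => k1 (by
    rw [← h.yj] at a
    exact y3 i ▸ yS _ a)
  have T : zpowers (s mT) ≤ S := zpowers_le.2 tS
  obtain ⟨m, n, rfl⟩ := h.mem_B.1 oB
  have pw : ∀ {x : G} (m : ℕ), x * x = s mT → x ^ m ∈ zpowers (s mT) ∨
      ∃ c ∈ zpowers (s mT), x ^ m = c * x ∧ x ^ m = x * c := fun {x} m e => by
    rcases Nat.even_or_odd' m with ⟨k, rfl | rfl⟩
    · left; rw [pow_mul, sq, e]; exact pow_mem (mem_zpowers _) k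
    · exact Or.inr ⟨_, pow_mem (mem_zpowers _) k, by rw [pow_succ, pow_mul, sq, e],
        by rw [pow_succ', pow_mul, sq, e]⟩
  rcases pw m h.i2 with a | ⟨c, hc, a, -⟩ <;> rcases pw n h.j2 with b | ⟨d, hd, -, b⟩
  · exact absurd (mul_mem a b) ho
  · rw [b] at oS
    exact k2 ((mul_mem_cancel_right (T hd)).1 ((mul_mem_cancel_left (T a)).1 oS))
  · rw [a] at oS
    exact k1 ((mul_mem_cancel_left (T hc)).1 ((mul_mem_cancel_right (T b)).1 oS))
  · rw [a, b, mul_assoc, ← mul_assoc i] at oS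
    exact k3 ((mul_mem_cancel_right (T hd)).1 ((mul_mem_cancel_left (T hc)).1 oS))

end LL

open LL H87.U6 in
theorem St.ll (h : St l f s i) {F : Subgroup G} (hF : Fc f (s mT) (f v1) F)
    (hl : l = false → F ≤ zpowers (s mT)) :
    (∀ φ ∈ F, ∀ b ∈ Bq f i, φ * b = b * φ) ∧ (∀ φ ∈ F, ∀ b ∈ Bq f i ^ᶜ s p1, φ * b = b * φ) ∧
    (F ≤ zpowers (s mT) → ∀ a ∈ Bq f i, ∀ b ∈ Bq f i ^ᶜ s p1, a * b = b * a) ∧
    ∀ g, g * s mT = s mT * g → g * f e4 = f e4 * g →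
      ∃ k ∈ Bq f i ⊔ Bq f i ^ᶜ s p1 ⊔ F, k * g ∈ NJ f := by
  obtain ⟨Y, y⟩ := exists_yd h hF
  have G9 := h.g9 (sec l) le_rfl
  have tU : s mT ∈ Uc f (s mT) e4 0 := subset_closure (by simp)
  have TU : zpowers (s mT) ≤ Uc f (s mT) e4 0 := zpowers_le.2 tU
  have BL := (coreB h).1
  have FL := (coreF h hF).1
  have pL := p1L h
  have p2 : s p1 * s p1 = 1 := h.ssq W_p1 (by decide +kernel)
  have yL : f v1 ∈ Lc f (s mT) e4 0 := fL h (by decide +kernel)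
  have yF : ∀ φ ∈ F, f v1 * φ * (f v1)⁻¹ ∈ F := ((coreF h hF).2.2 _ yL (h.fcomm _ _)).1
  have cY : ∀ {O : Subgroup G} {x : V4} {b : G}, O ≤ Lc f (s mT) e4 0 → s mT ∈ O →
      (∀ o ∈ O, o ^ 4 = 1) → mv mT x = x → b ∈ O →
      (∃ c ∈ O, b = c * f x * c⁻¹ * (f x)⁻¹ ∨ b = c * f x * c⁻¹ * (f x)⁻¹ * s mT) → b ∈ Y := by
    rintro O x b h1 h2 h3 h4 h5 ⟨c, hc, rfl | rfl⟩
    · exact y.core c (h1 hc) x h4 (by rw [h3 _ h5]; exact one_mem _)
    · exact mul_mem (y.core c (h1 hc) x h4 (by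
        rw [h3 _ ((mul_mem_cancel_right h2).1 h5)]; exact one_mem _)) (y.UY tU)
  have BY : Bq f i ≤ Y := fun b hb => cY BL h.tB (fun _ => h.B4) (x := e3) (by decide +kernel) hb
    (h.Bcm (by decide +kernel) (by decide +kernel) hb)
  have cj : ∀ {O S : Subgroup G}, (∀ g ∈ Lc f (s mT) e4 0, ∀ k ∈ S, g * k * g⁻¹ ∈ S) → O ≤ S →
      O ^ᶜ s p1 ≤ S := fun n a b hb => by
    obtain ⟨c, hc, rfl⟩ := mem_cj'.1 hb
    exact n _ pL c (a hc)
  have FY : F ≤ Y := fun φ a => cY FL hF.aF (fun o ho => ((coreF h hF).2.1 o ho).1) (x := v1)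
    (by decide +kernel) a (Fcm hF (h.f3 _) yF a)
  have OY : ∀ {O}, (O = F ∨ O = Bq f i ∨ O = Bq f i ^ᶜ s p1) → O ≤ Y := by
    rintro _ (rfl | rfl | rfl)
    exacts [FY, BY, cj y.nm BY]
  have v0 : ∀ a b : ZMod 3, ¬(a = 0 ∧ b = 0) → b = 0 → ∀ k ∈ Y,
      k * f (a • v1 + b • e3) = f (a • v1 + b • e3) * k → k ∈ Uc f (s mT) e4 0 :=
    fun a b h0 hb k hk c => y.inN k hk (hw h k (y.le hk) (by
      rw [(vec0 a b h0 hb).2] at c
      exact (cm_smul h (vec0 a b h0 hb).1 _ _).2 c))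
  let Z := Zc Y (Uc f (s mT) e4 0) fun k hk => G9.nU k (y.le hk)
  have UZ : Uc f (s mT) e4 0 ≤ Z := fun u hu => ⟨y.UY hu, fun k hk => by
    rw [← Uc_cen (y.le hk) hu, mul_inv_cancel_right, mul_inv_cancel]; exact one_mem _⟩
  have nZ : ∀ g ∈ Lc f (s mT) e4 0, ∀ k ∈ Z, g * k * g⁻¹ ∈ Z := fun g hg k hk =>
    ⟨y.nm g hg k hk.1, fun k' hk' => by
      convert G9.nU g hg _ (hk.2 _ (y.nm _ (inv_mem hg) k' hk')) using 1
      group⟩
  have key : Bq f i ≤ Z ∨ F ≤ Z ∧ ¬ F ≤ zpowers (s mT) := by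
    rcases y.cen with c | ⟨k, kY, kU, kZ, a, b, h0, c⟩
    · have := h.i2
      rcases h.BN h.iB (G9.UH (c (BY h.iB))) with e | e <;> rw [e] at this
      · exact absurd (by rw [← this, mul_one]) h.t1
      · exact absurd (h.t2.symm.trans this).symm h.t1
    by_cases hb : b = 0
    · exact absurd (v0 a b h0 hb k kY c) kU
    obtain ⟨O, hO, k1⟩ := core h hF a b hb
    obtain ⟨-, o, ho, oN⟩ := k1.2.2 k (y.le kY) c
    have oU := y.inN _ (mul_mem (OY hO ho) kY) oN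
    have oZ : o ∈ Z := (mul_mem_cancel_right (show k ∈ Z from ⟨kY, kZ⟩)).1 (UZ oU)
    have oT : o ∉ zpowers (s mT) := fun e => kU ((mul_mem_cancel_left (TU e)).1 oU)
    rcases hO with rfl | rfl | rfl
    · exact Or.inr ⟨F_le hF h.t1 (mem_Lc.1 yL).1 yF (nZ _ yL) (UZ tU) ho oZ oT, fun e => oT (e ho)⟩
    · exact Or.inl (B_le h (nZ _ yL) (UZ tU) ho oZ oT)
    · obtain ⟨b, hb, rfl⟩ := mem_cj'.1 ho
      refine Or.inl (B_le h (nZ _ yL) (UZ tU) hb ?_ fun e => oT ?_)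
      · simpa only [mul_assoc, inv_mul_cancel_left, inv_inv, inv_mul_cancel, mul_one]
          using nZ _ (inv_mem pL) _ oZ
      · rwa [cmj.1 (Uc_cen pL (TU e))]
  have av : ∀ {x : V4} {c b : G}, mv mT x = x → dt x vz ≠ 0 → c ∈ Lc f (s mT) e4 0 →
      f x * c = c * f x → (∀ b ∈ Bq f i, b * c * b⁻¹ * c⁻¹ ∈ Uc f (s mT) e4 0) → b ∈ Bq f i →
      b * c = c * b := fun {x c b} h1 h2 h3 h4 h5 hb => by
    obtain ⟨b', hb', e⟩ := h.Bcm h1 h2 hb
    have := avg h4 (Uc_cen (fL h h1) (h5 b' hb')).symm (Uc_cen (BL hb') (h5 b' hb')).symm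
    rcases e with rfl | rfl
    · exact this
    · exact cm_mul this (mem_Lc.1 h3).1.symm
  have FB : ∀ φ ∈ F, ∀ b ∈ Bq f i, φ * b = b * φ := fun φ a b hb =>
    (av (x := e3) (by decide +kernel) (by decide +kernel) (FL a) (hF.c3 φ a).symm (fun b hb => by
      rcases key with c | c
      · exact (c hb).2 φ (FY a)
      · convert inv_mem ((c.1 a).2 b (BY hb)) using 1
        group) hb).symm
  refine ⟨FB, fun φ a b hb => ?_, fun e a ha b hb => ?_, fun g h1 h2 => ?_⟩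
  · obtain ⟨c, hc, rfl⟩ := mem_cj'.1 hb
    have := cm_conj (FB _ (((coreF h hF).2.2 _ (inv_mem pL)
      (cm_inv (h.sfc W_p1 (by decide +kernel)))).1 φ a) c hc) (s p1)
    simpa only [mul_assoc, mul_inv_cancel_left, inv_inv, mul_inv_cancel, mul_one] using this
  · have k := (coreB h).cj pL (h.sN W_p1)
    rw [h.act _ W_p1] at k
    exact av (x := mv p1 vz) (by decide +kernel) (by decide +kernel) (k.1 hb) (k.2.1 b hb).2.symm
      (fun c hc => (key.resolve_right (fun c => c.2 e) hc).2 b (cj y.nm BY hb)) ha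
  · obtain ⟨k, kY, kN⟩ := y.dec g (mL h h1 h2)
    have DL : Bq f i ⊔ Bq f i ^ᶜ s p1 ⊔ F ≤ Lc f (s mT) e4 0 :=
      sup_le (sup_le BL (cj_le_of_mem BL pL)) FL
    have := y.gen (Bq f i ⊔ Bq f i ^ᶜ s p1 ⊔ F ⊔ Uc f (s mT) e4 0) le_sup_right
      (fun a b h0 k hk c => by
        by_cases hb : b = 0
        · exact mem_sup_right (v0 a b h0 hb k hk c)
        obtain ⟨O, hO, k1⟩ := core h hF a b hb
        obtain ⟨-, o, ho, oN⟩ := k1.2.2 k (y.le hk) c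
        refine (mul_mem_cancel_left (mem_sup_left ?_)).1
          (mem_sup_right (y.inN _ (mul_mem (OY hO ho) hk) oN))
        rcases hO with rfl | rfl | rfl
        exacts [mem_sup_right ho, mem_sup_left (mem_sup_left ho), mem_sup_left (mem_sup_right ho)]) kY
    obtain ⟨d, hd, u, hu, rfl⟩ := (mem_sup_of_le_normalizer_left (le_normalizer_of_le_centralizer
      fun u hu => mem_centralizer_iff_commute.2 fun a ha => Uc_cen (DL ha) hu)).1 this
    refine ⟨d, hd, (mul_mem_cancel_right (G9.UH hu)).1 ?_⟩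
    rwa [mul_assoc, Uc_cen (mL h h1 h2) hu, ← mul_assoc]

end H12.O83
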