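import Cfsg.Agent.Lib.O83.Gen
import Cfsg.Agent.Lib.O83.E2

/-! The centralizer of two orthogonal short vectors: the alternative (package XNa). -/

set_option autoImplicit false
set_option linter.unusedSectionVars false

namespace H12.O83

open Subgroup H20.L43 H69

variable {G : Type*} [Group G] [Finite G] {l : Bool} {f : V4 → G} {s : M4 → G} {i : G}

namespace XNA

/-- the span of three vectors -/
def Sp (u v w x : V4) : Prop := ∃ a b c : ZMod 3, x = a • u + b • v + c • w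

instance (u v w x : V4) : Decidable (Sp u v w x) := by unfold Sp; infer_instance

/-- the rotation -/
def mR : M4 := ⟨0, -1, 0, 0, 1, 0, 0, 0, 0, 0, 1, 0, 0, 0, 0, 1⟩

theorem eqns_xna : True := by
  have := @Sp.eq_1
  have := @mR.eq_1
  trivial

theorem com_sp {a b : G} (h : Pre f a b) {g : G} {u v w x : V4} (hu : g * f u = f u * g)
    (hv : g * f v = f v * g) (hw : g * f w = f w * g) (hx : Sp u v w x) : g * f x = f x * g := by
  obtain ⟨a, b, c, rfl⟩ := hx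
  rw [h.add, h.add, h.fsmul, h.fsmul, h.fsmul]
  exact (((Commute.pow_right hu _).mul_right (Commute.pow_right hv _)).mul_right
    (Commute.pow_right hw _)).eq

theorem good (h : St l f s i) {Θ : M4} {y0 y1 v g : _} (hg : g ∈ Lc f (s Θ) y0 y1)
    (hv : g * f v = f v * g) (c : ∃ p x, Good p x ∧ Sp y0 y1 v p ∧ Sp y0 y1 v x) : g ∈ NJ f := by
  obtain ⟨p, x, c1, c2, c3⟩ := c
  obtain ⟨-, k1, k2⟩ := mem_Lc.1 hg
  exact h.cz c1 (com_sp h.toPre k1 k2 hv c2) (com_sp h.toPre k1 k2 hv c3)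

set_option synthInstance.maxSize 4000 in
theorem two34 (M : M4) (hM : Orth M) : mv M e3 = e3 → mv M e4 = e4 → M ^ 4 = 1 ∧
    ((mv M vr = vr → mv M v1 = v1 → M = 1) ∧ (mv M e2 = e2 → mv M e1 = e1 → M = 1)) ∧
    (mv M vr = vr ∨ mv M vr = -vr ∨ mv M vr = v1 ∨ mv M vr = -v1) ∧
    (mv M e2 = e2 ∨ mv M e2 = -e2 ∨ mv M e2 = e1 ∨ mv M e2 = -e1) ∧
    (sg M = 1 → (mv M vr = vr ∨ mv M vr = -vr) ∧ (mv M v1 = v1 ∨ mv M v1 = -v1)) :=
  forall_orth (P := fun M => mv M e3 = e3 → mv M e4 = e4 → M ^ 4 = 1 ∧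
    ((mv M vr = vr → mv M v1 = v1 → M = 1) ∧ (mv M e2 = e2 → mv M e1 = e1 → M = 1)) ∧
    (mv M vr = vr ∨ mv M vr = -vr ∨ mv M vr = v1 ∨ mv M vr = -v1) ∧
    (mv M e2 = e2 ∨ mv M e2 = -e2 ∨ mv M e2 = e1 ∨ mv M e2 = -e1) ∧
    (sg M = 1 → (mv M vr = vr ∨ mv M vr = -vr) ∧ (mv M v1 = v1 ∨ mv M v1 = -v1)))
    (by decide +kernel) M hM

theorem sec1 : Sec l 1 e3 e4 vr v1 :=
  ⟨W.one, one_mul _, mv_one _, mv_one _, mv_one _, mv_one _, by decide +kernel, by decide +kernel,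
    by decide +kernel, ⟨vz, e3, by decide +kernel⟩, fun M hM _ a b =>
    ⟨(two34 M hM.1 a b).1, fun c d => Or.inl ((two34 M hM.1 a b).2.1.1 c d)⟩⟩

theorem sec2 : Sec l 1 e3 e4 e2 e1 :=
  ⟨W.one, one_mul _, mv_one _, mv_one _, mv_one _, mv_one _, by decide +kernel, by decide +kernel,
    by decide +kernel, ⟨vz, e3, by decide +kernel⟩, fun M hM _ a b =>
    ⟨(two34 M hM.1 a b).1, fun c d => Or.inl ((two34 M hM.1 a b).2.1.2 c d)⟩⟩

theorem mem_L (h : St l f s i) {g : G} (h3 : g * f e3 = f e3 * g) (h4 : g * f e4 = f e4 * g) :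
    g ∈ Lc f (s 1) e3 e4 := mem_Lc.2 ⟨by rw [h.s1, mul_one, one_mul], h3, h4⟩

theorem core (h : St true f s i) {w y : V4} (c : Sec true 1 e3 e4 w y) {σ ρ : M4} (hσ : W true σ)
    (hρ : W true ρ) (σ2 : σ * σ = 1) (σρ : σ * ρ * (σ * ρ) = 1) (σ3 : mv σ e3 = e3)
    (σ4 : mv σ e4 = e4) (ρ3 : mv ρ e3 = e3) (ρ4 : mv ρ e4 = e4) (σw : mv σ w + w = 0)
    (σy : mv σ y = y) (ρw : mv ρ w = y) (ρy : mv ρ y + w = 0)
    (hm : ∀ M, Orth M → mv M e3 = e3 → mv M e4 = e4 →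
      mv M w = w ∨ mv M w = -w ∨ mv M w = y ∨ mv M w = -y)
    (hv : ∀ a b : ZMod 3, ¬(a = 0 ∧ b = 0) →
      ∃ p x, Good p x ∧ Sp e3 e4 (a • w + b • y) p ∧ Sp e3 e4 (a • w + b • y) x) :
    XN f ∨ ∃ F : Subgroup G, Fc f (s σ) (f y) F ∧ Nat.card F = 8 ∧
      ∃ φ ∈ F, ∃ k, k * f e3 = f e3 * k ∧ k * f e4 = f e4 * k ∧ k * s (σ * ρ) * k⁻¹ = φ := by
  have hp := h.toPre
  obtain ⟨k1, k2, k3⟩ := h.pre8 c (fun M hM _ => hm M hM.1)
    fun a b hab g hg e => good h hg e (hv a b hab)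
  have g9 := h.g9 c (le_refl (NJ f))
  have ss := h.ssq hσ σ2
  have sr := h.ssq (hσ.mul hρ) σρ
  set L := Lc f (s 1) e3 e4
  set U := Uc f (s 1) e3 e4
  have o : ∀ {x : G}, x = 1 → x ∈ U := fun e => e ▸ one_mem U
  have U3 : ∀ u ∈ U, u * u * u = 1 := fun u hu => by
    obtain ⟨a, b, e⟩ := (h.mem_Uc c).1 hu
    rw [h.s1, mul_one, or_self] at e
    rw [e, ← hp.f3 (a • e3 + b • e4), pow_succ, sq]
  have U2 : ∀ u ∈ U, u * u = 1 → u = 1 := fun u hu e => by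
    have := U3 u hu
    rwa [e, one_mul] at this
  rcases eight2 g9 (mem_L h (h.sfc hσ σ3) (h.sfc hσ σ4)) (mem_L h (h.sfc hρ ρ3) (h.sfc hρ ρ4)) (o ss)
    (o (by rw [← h.mul _ _ hσ hρ, sr])) (o (by rw [h.act _ hσ, ← hp.add, σw, hp.f0]))
    (o (by rw [h.act _ hσ, σy, mul_inv_cancel])) (o (by rw [h.act _ hρ, ρw, mul_inv_cancel]))
    (o (by rw [h.act _ hρ, ← hp.add, ρy, hp.f0])) k1 k2 k3 with
    e | ⟨-, F, FL, UF, σF, cF, a1, a2, a3, φ, hφ, k, hk, a4⟩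
  · exact Or.inl fun g h3 h4 => e (mem_L h h3 h4)
  have cm : ∀ a ∈ F, ∀ b ∈ F, a * b = b * a := fun a ha b hb => by
    have m : a * b * a⁻¹ * b⁻¹ ∈ U := by
      have := mul_mem (mul_mem (a1 _ (mul_mem ha hb)).1 (g9.nU _ (FL (inv_mem hb)) _
        (inv_mem (a1 a ha).1))) (inv_mem (a1 b hb).1)
      rwa [show a * b * (a * b) * (b⁻¹ * (a * a)⁻¹ * b⁻¹⁻¹) * (b * b)⁻¹ = a * b * a⁻¹ * b⁻¹ by group]
        at this
    have e1 := Uc_cen (FL ha) m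
    have e2 := Uc_cen (FL hb) (a1 a ha).1
    rw [← mul_inv_eq_iff_eq_mul, ← mul_inv_eq_one]
    refine U2 _ m ?_
    calc _ = a * b * a⁻¹ * b⁻¹ * a * (b * a⁻¹ * b⁻¹) := by group
      _ = a * (a * b) * (a * a)⁻¹ * (a * b⁻¹ * b * a⁻¹) * b⁻¹ := by rw [← e1]; group
      _ = 1 := by rw [← mul_assoc a a b, ← e2]; group
  let F0 : Subgroup G :=
    { carrier := {a | a ∈ F ∧ a * a = 1}
      mul_mem' := fun {a b} ha hb => ⟨mul_mem ha.1 hb.1, by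
        rw [mul_assoc, ← mul_assoc b, ← cm a ha.1 b hb.1, mul_assoc, hb.2, mul_one, ha.2]⟩
      one_mem' := ⟨one_mem _, mul_one _⟩
      inv_mem' := fun {a} ha => by rwa [inv_eq_of_mul_eq_one_right ha.2] }
  have cu : ∀ a ∈ F, a * a * a ∈ F0 := fun a ha => ⟨mul_mem (mul_mem ha ha) ha, by
    rw [← U3 _ (a1 a ha).1]; group⟩
  have c8 : Nat.card F0 = 8 := by
    refine Nat.eq_of_mul_eq_mul_right (Nat.card_pos (α := U)) ?_
    rw [← cF, ← Nat.card_prod]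
    refine Nat.card_eq_of_bijective (fun v => ⟨v.1 * v.2, mul_mem v.1.2.1 (UF v.2.2)⟩)
      ⟨fun a b e => ?_, fun a => ⟨(⟨_, cu a a.2⟩, ⟨_, inv_mem (a1 a a.2).1⟩), Subtype.ext (by
        simp only; group)⟩⟩
    have e1 : (a.1 : G) * a.2 = b.1 * b.2 := congrArg Subtype.val e
    have e2 : (b.1 : G)⁻¹ * a.1 = 1 := U2 _ (by
      rw [show (b.1 : G)⁻¹ * a.1 = b.2 * (a.2 : G)⁻¹ by
        rw [inv_mul_eq_iff_eq_mul, ← mul_assoc, ← e1, mul_inv_cancel_right]]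
      exact mul_mem b.2.2 (inv_mem a.2.2)) (mul_mem (inv_mem b.1.2) a.1.2 : _ ∈ F0).2
    have e3 : a.1 = b.1 := Subtype.ext (inv_mul_eq_one.1 e2).symm
    exact Prod.ext e3 (Subtype.ext (mul_left_cancel (e3 ▸ e1)))
  refine Or.inr ⟨F0, ⟨⟨σF, ss⟩, fun a ha => ha.2, fun a ha => (mem_Lc.1 (FL ha.1)).2.1,
    fun a ha => (mem_Lc.1 (FL ha.1)).2.2, fun g g1 g2 g3 => ?_, fun a ha e => ?_, c8.le⟩, c8, _,
    ⟨(mul_mem_cancel_right hφ).1 (h.mul _ _ hσ hρ ▸ UF a4), by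
      rw [show ∀ x : G, k * x * k⁻¹ * (k * x * k⁻¹) = k * (x * x) * k⁻¹ from fun x => by group, sr]
      group⟩, k, (mem_Lc.1 hk).2.1, (mem_Lc.1 hk).2.2, rfl⟩
  · obtain ⟨b1, a, ha, b2⟩ := a2 g (mem_L h g2 g3) (o (by rw [g1]; group))
    refine ⟨fun a ha => ⟨b1 a ha.1, by
      rw [show g * a * g⁻¹ * (g * a * g⁻¹) = g * (a * a) * g⁻¹ by group, ha.2]; group⟩,
      _, cu a ha, ?_⟩
    rw [mul_assoc (a * a)]
    exact mul_mem (g9.UH (a1 a ha).1) b2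
  · obtain ⟨n, hn⟩ := mem_zpowers_iff.1 e
    have s2 : s σ ^ (2 : ℤ) = 1 := by rw [zpow_two, ss]
    rcases a3 a ha.1 (by
      rw [← hn]
      rcases Int.even_or_odd' n with ⟨r, rfl | rfl⟩
      · exact Or.inl (o (by rw [zpow_mul, s2, one_zpow]))
      · exact Or.inr (o (by rw [zpow_add, zpow_mul, s2, one_zpow, one_mul, zpow_one, ss]))) with e | e
    · exact U2 a e ha.2 ▸ one_mem _
    · rw [eq_inv_of_mul_eq_one_left (U2 _ e (mul_mem ha (⟨σF, ss⟩ : _ ∈ F0)).2)]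
      exact inv_mem (mem_zpowers _)

end XNA

open XNA

theorem St.xn_one (h : St false f s i) : XN f := fun _ h3 h4 =>
  h.nine0 sec1 W_mT W_p1 (by decide) (by decide) (by decide) (by decide) (by decide) (by decide)
    (by decide) (by decide) (by decide) (by decide) (by decide) (by decide) (by decide)
    (fun M hM _ a b => (two34 M hM.1 a b).2.2.2.2 (hM.2.resolve_left (by decide)))
    (fun a b hab g hg e => good h hg e ((by decide +kernel : ∀ a b : ZMod 3, ¬(a = 0 ∧ b = 0) →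
      ∃ p, Good p e3 ∧ Sp e3 e4 (a • vr + b • v1) p ∧ Sp e3 e4 (a • vr + b • v1) e3) a b hab |>.imp
        fun _ k => ⟨_, k⟩)) (mem_L h h3 h4)

theorem St.xn_or (h : St true f s i) : XN f ∨ ∃ F F' : Subgroup G, Fc f (s mT) (f v1) F ∧
    Nat.card F = 8 ∧ Fc f (s u2) (f e1) F' ∧ ∃ φ ∈ F, ∃ k, k * f e3 = f e3 * k ∧ k * f e4 = f e4 * k ∧
    k * s u2 * k⁻¹ = φ := by
  rcases core h sec1 (ρ := mR) W_mT (by decide) (by decide) (by decide) (by decide) (by decide)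
    (by decide) (by decide) (by decide) (by decide) (by decide) (by decide)
    (fun M hM a b => (two34 M hM a b).2.2.1)
    (fun a b hab => ((by decide +kernel : ∀ a b : ZMod 3, ¬(a = 0 ∧ b = 0) →
      ∃ p, Good p e3 ∧ Sp e3 e4 (a • vr + b • v1) p ∧ Sp e3 e4 (a • vr + b • v1) e3) a b hab).imp
        fun _ k => ⟨_, k⟩) with e | ⟨F, k1, k2, k3⟩
  · exact Or.inl e
  rcases core h sec2 (σ := u2) (ρ := tr mR) (by decide) (by decide) (by decide) (by decide) (by decide)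
    (by decide) (by decide) (by decide) (by decide) (by decide) (by decide) (by decide)
    (fun M hM a b => (two34 M hM a b).2.2.2.1)
    (fun a b hab => ((by decide +kernel : ∀ a b : ZMod 3, ¬(a = 0 ∧ b = 0) →
      ∃ p, Good p e3 ∧ Sp e3 e4 (a • e2 + b • e1) p ∧ Sp e3 e4 (a • e2 + b • e1) e3) a b hab).imp
        fun _ k => ⟨_, k⟩) with e | ⟨F', k4, -⟩
  · exact Or.inl e
  exact Or.inr ⟨F, F', k1, k2, k4, (by decide : mT * mR = u2) ▸ k3⟩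

theorem St.fc_of_xn (h : St l f s i) (hX : XN f) : Fc f (s mT) (f v1) (zpowers (s mT)) := by
  refine ⟨mem_zpowers _, ?_, ?_, ?_, fun g g1 g2 g3 => ⟨?_, 1, one_mem _, by
    rw [one_mul]; exact hX g g2 g3⟩, fun _ k _ => k, ?_⟩
  · rintro _ ⟨n, rfl⟩
    simp only [← zpow_add]
    rw [← two_mul, zpow_mul, zpow_two, h.t2, one_zpow]
  · rintro _ ⟨n, rfl⟩; exact (Commute.zpow_left (h.sfc W_mT (by decide)) n).eq
  · rintro _ ⟨n, rfl⟩; exact (Commute.zpow_left (h.sfc W_mT (by decide)) n).eq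
  · rintro _ ⟨n, rfl⟩
    exact ⟨n, by simp only; rw [(Commute.zpow_right g1 n).eq, mul_inv_cancel_right]⟩
  · rw [Nat.card_zpowers]
    exact (orderOf_le_of_pow_eq_one two_pos (by rw [sq, h.t2])).trans (by decide)

end H12.O83
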