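import Cfsg.Agent.Lib.O83.LL
import Cfsg.Agent.Lib.O83.XNa

/-! The centralizer of `t` and a vector (package RR). -/

set_option autoImplicit false
set_option linter.unusedSectionVars false

namespace H12.O83

open Subgroup H20.L43 H69

variable {G : Type*} [Group G] [Finite G] {l : Bool} {f : V4 → G} {s : M4 → G} {i : G}

open XNA

namespace RR

/-- the second rotation -/
def mS : M4 := ⟨1, 0, 0, 0, 0, 1, 0, 0, 0, 0, 0, -1, 0, 0, 1, 0⟩
/-- exchanging the two planes -/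
def mX : M4 := ⟨0, 0, 1, 0, 0, 0, 0, 1, 1, 0, 0, 0, 0, 1, 0, 0⟩

theorem eqns_rr : True := by
  have := @mS.eq_1
  have := @mX.eq_1
  trivial

theorem loc (h : St l f s i) (hX : XN f) {Θ : M4} {v g : _} (hg : g ∈ Lc f (s Θ) v1 0)
    (hv : g * f v = f v * g) (c : (∃ p, Good p v1 ∧ Sp v1 0 v p) ∨
      ∃ M ∈ [mX, mO, mO * mO], Sp v1 0 v (mv M e3) ∧ Sp v1 0 v (mv M e4)) : g ∈ NJ f := by
  obtain ⟨-, k1, k2⟩ := mem_Lc.1 hg
  rcases c with ⟨p, c1, c2⟩ | ⟨M, hM, c1, c2⟩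
  · exact h.cz c1 (com_sp h.toPre k1 k2 hv c2) k1
  · exact h.xn_cj hX (W.of ((by decide : ∀ M ∈ [mX, mO, mO * mO], W false M) M hM))
      (com_sp h.toPre k1 k2 hv c1) (com_sp h.toPre k1 k2 hv c2)

set_option synthInstance.maxSize 4000 in
theorem twoU (M : M4) (hM : Orth M) : mv M v1 = v1 → M * u4 = u4 * M → M ^ 4 = 1 ∧
    (mv M e3 = e3 → mv M vr = vr → M = 1 ∨ M = u4) ∧
    (mv M e3 = e3 ∨ mv M e3 = -e3) ∧ (mv M vr = vr ∨ mv M vr = -vr) :=
  forall_orth (P := fun M => mv M v1 = v1 → M * u4 = u4 * M → M ^ 4 = 1 ∧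
    (mv M e3 = e3 → mv M vr = vr → M = 1 ∨ M = u4) ∧
    (mv M e3 = e3 ∨ mv M e3 = -e3) ∧ (mv M vr = vr ∨ mv M vr = -vr)) (by decide +kernel) M hM

set_option synthInstance.maxSize 4000 in
theorem twoT (M : M4) (hM : Orth M) : mv M v1 = v1 → M * mT = mT * M → M ^ 4 = 1 ∧
    (mv M e3 = e3 → mv M e4 = e4 → M = 1 ∨ M = mT) ∧
    (mv M v2 = v2 → mv M v3 = v3 → M = 1 ∨ M = mT) ∧
    (mv M e3 = e3 ∨ mv M e3 = -e3 ∨ mv M e3 = e4 ∨ mv M e3 = -e4) ∧
    (sg M = 1 → (mv M v2 = v2 ∨ mv M v2 = -v2) ∧ (mv M v3 = v3 ∨ mv M v3 = -v3)) :=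
  forall_orth (P := fun M => mv M v1 = v1 → M * mT = mT * M → M ^ 4 = 1 ∧
    (mv M e3 = e3 → mv M e4 = e4 → M = 1 ∨ M = mT) ∧
    (mv M v2 = v2 → mv M v3 = v3 → M = 1 ∨ M = mT) ∧
    (mv M e3 = e3 ∨ mv M e3 = -e3 ∨ mv M e3 = e4 ∨ mv M e3 = -e4) ∧
    (sg M = 1 → (mv M v2 = v2 ∨ mv M v2 = -v2) ∧ (mv M v3 = v3 ∨ mv M v3 = -v3)))
    (by decide +kernel) M hM

theorem secU : Sec true u4 v1 0 e3 vr :=
  ⟨by decide, by decide, by decide, by decide, by decide, by decide, by decide +kernel,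
    by decide +kernel, by decide +kernel, ⟨vz, e3, by decide +kernel⟩, fun M hM c a _ =>
    ⟨(twoU M hM.1 a c).1, (twoU M hM.1 a c).2.1⟩⟩

theorem secA : Sec l mT v1 0 v2 v3 :=
  ⟨W_mT, by decide, by decide, by decide, by decide, by decide, by decide +kernel,
    by decide +kernel, by decide +kernel, ⟨vz, e3, by decide +kernel⟩, fun M hM c a _ =>
    ⟨(twoT M hM.1 a c).1, (twoT M hM.1 a c).2.2.1⟩⟩

theorem secB : Sec l mT v1 0 e3 e4 :=
  ⟨W_mT, by decide, by decide, by decide, by decide, by decide, by decide +kernel,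
    by decide +kernel, by decide +kernel, ⟨vz, e3, by decide +kernel⟩, fun M hM c a _ =>
    ⟨(twoT M hM.1 a c).1, (twoT M hM.1 a c).2.1⟩⟩

theorem mem_L (h : St l f s i) {a g : G} (h1 : g * a = a * g) (h2 : g * f v1 = f v1 * g) :
    g ∈ Lc f a v1 0 := mem_Lc.2 ⟨h1, h2, by rw [h.toPre.f0, mul_one, one_mul]⟩

end RR

open RR

theorem St.vv (h : St true f s i) (hX : XN f) (g : G) (h1 : g * s u4 = s u4 * g)
    (h2 : g * f v1 = f v1 * g) : g ∈ NJ f :=
  h.nine0 secU (σ := u3) (by decide) W_mT (by decide) (by decide) (by decide) (by decide) (by decide)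
    (by decide) (by decide) (by decide) (by decide) (by decide) (by decide) (by decide) (by decide)
    (fun M hM c a _ => (twoU M hM.1 a c).2.2)
    (fun a b hab g hg e => loc h hX hg e (by clear e; revert a b; decide +kernel)) (RR.mem_L h h1 h2)

theorem St.rr (h : St l f s i) (hX : XN f) (g : G) (h1 : g * s mT = s mT * g)
    (h2 : g * f v1 = f v1 * g) : g ∈ NJ f := by
  cases l
  · exact h.nine0 secA W_p2 W_p3 (by decide) (by decide) (by decide) (by decide) (by decide)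
      (by decide) (by decide) (by decide) (by decide) (by decide) (by decide) (by decide) (by decide)
      (fun M hM c a _ => (twoT M hM.1 a c).2.2.2.2 (hM.2.resolve_left (by decide)))
      (fun a b hab g hg e => loc h hX hg e (by clear e; revert a b; decide +kernel)) (RR.mem_L h h1 h2)
  have hp := h.toPre
  obtain ⟨k1, k2, k3⟩ := h.pre8 secB (fun M hM c a _ => (twoT M hM.1 a c).2.2.2.1)
    fun a b hab g hg e => loc h hX hg e (by clear e; revert a b; decide +kernel)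
  have o : ∀ {x : G}, x = 1 → x ∈ Uc f (s mT) v1 0 := fun e => e ▸ one_mem _
  have w3 : W true u3 := by decide
  have w4 : W true u4 := by decide
  have wS : W true mS := by decide
  have mL : ∀ {M}, W true M → M * mT = mT * M → mv M v1 = v1 → s M ∈ Lc f (s mT) v1 0 :=
    fun a b c => RR.mem_L h (h.scomm a W_mT b) (h.sfc a c)
  have iv : ∀ {M x y}, W true M → mv M x + y = 0 → s M * f x * (s M)⁻¹ * f y ∈ Uc f (s mT) v1 0 :=
    fun a b => o (by rw [h.act _ a, ← hp.add, b, hp.f0])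
  have fx : ∀ {M x y}, W true M → mv M x = y → s M * f x * (s M)⁻¹ * (f y)⁻¹ ∈ Uc f (s mT) v1 0 :=
    fun a b => o (by rw [h.act _ a, b, mul_inv_cancel])
  have m3 := mL w3 (by decide) (by decide)
  have m4 := mL w4 (by decide) (by decide)
  rcases (h.g9 secB (le_refl (NJ f))).eight m3 (mL wS (by decide) (by decide)) (iv w3 (by decide))
    (fx w3 (by decide)) (fx wS (by decide)) (iv wS (by decide)) k1 k2 k3 with e | ⟨-, e⟩
  · exact e (RR.mem_L h h1 h2)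
  obtain ⟨m, hm, mN, -, -, -, -, e⟩ := e _ m3 _ m4 (o (h.ssq w3 (by decide))) (o (h.ssq w4 (by decide)))
    (o (by rw [h.scomm w3 w4 (by decide)]; group)) (iv w3 (by decide)) (fx w3 (by decide))
    (fx w4 (by decide)) (iv w4 (by decide))
  refine (mN ?_).elim
  have e1 := ((e m⁻¹ (inv_mem hm)).2 ⟨0, 0, orderOf m - 1, o (by
    rw [pow_zero, pow_zero, one_mul, one_mul, ← mul_inv_rev, ← pow_succ',
      Nat.sub_add_cancel (orderOf_pos m), pow_orderOf_eq_one, inv_one])⟩).2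
  obtain ⟨mt, m1, -⟩ := mem_Lc.1 hm
  have c3 : ∀ u ∈ Uc f (s mT) v1 0, f e3 * u = u * f e3 := fun u hu =>
    Uc_cen (RR.mem_L h (h.sfc W_mT (by decide)).symm (hp.fcomm _ _)) hu
  have e2 : m * f e3 * m⁻¹ * s u4 = s u4 * (m * f e3 * m⁻¹) := by
    have e3' := h.sfc w4 (by decide : mv u4 e3 = e3)
    calc _ = m * (f e3 * (m⁻¹ * s u4 * m⁻¹⁻¹ * (s u4)⁻¹)) * s u4 * m⁻¹ := by group
      _ = m * (m⁻¹ * s u4 * m⁻¹⁻¹ * (s u4)⁻¹) * (f e3 * s u4) * m⁻¹ := by rw [c3 _ e1]; group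
      _ = _ := by rw [← e3']; group
  have cj : ∀ x : G, m * x = x * m → f e3 * x = x * f e3 →
      m * f e3 * m⁻¹ * x = x * (m * f e3 * m⁻¹) := fun x a b =>
    (((show Commute m x from a).mul_left b).mul_left (Commute.inv_left a)).eq
  have e4' := cj _ m1 (hp.fcomm _ _)
  have e5 := cj _ mt (h.sfc W_mT (by decide)).symm
  obtain ⟨x, M, hM, e6⟩ := h.dec _ (h.vv hX _ e2 e4')
  have e7 : (f x * s M) ^ 3 = 1 := by rw [← e6, conj_pow, hp.f3]; group
  rw [e6] at e4' e5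
  obtain ⟨y, e8⟩ := h.fs_pow hM x 3
  have e9 := (h.uniq (hM.pow 3) W.one (y := 0) (by rw [← e8, e7, hp.f0, h.s1, mul_one])).2
  have e10 := (twoT M hM.1 ((h.com_f hM).1 e4') ((h.com_s hM W_mT).1 e5).2).1
  rw [pow_succ, e9, one_mul] at e10
  rw [e10, h.s1, mul_one] at e6
  refine hp.NA (A := {v1, e3}) (fun c hc => h.cz (p := vz) (x := v1) (by decide)
    (com_sp hp (hc v1 (by simp)) (hc e3 (by simp)) (hc e3 (by simp)) (by decide)) (hc v1 (by simp))) ?_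
  rintro _ (rfl | rfl)
  · exact ⟨v1, by rw [m1, mul_inv_cancel_right]⟩
  · exact ⟨x, e6⟩

set_option synthInstance.maxSize 4000 in
theorem St.ck (h : St l f s i) (hX : XN f) (x : V4) (x0 : x ≠ 0) (hx : mv mT x = x) (g : G)
    (h1 : g * s mT = s mT * g) (h2 : g * f x = f x * g) : ∃ a ∈ Eg f s i, a * g ∈ NJ f := by
  obtain ⟨M, hM, MT, e⟩ : ∃ M, W l M ∧ M * mT = mT * M ∧
      (mv M vz = x ∨ mv M v1 = x ∨ mv M e4 = x) := by
    obtain ⟨d, b, e⟩ := (by decide +kernel : ∀ x : V4, x ≠ 0 → mv mT x = x → ∃ d : D3,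
      ∃ N ∈ [1, mO, mO * mO, -1, -mO, -(mO * mO)], W false (dm d * N) ∧
      dm d * N * mT = mT * (dm d * N) ∧
      (mv (dm d * N) vz = x ∨ mv (dm d * N) v1 = x ∨ mv (dm d * N) e4 = x)) x x0 hx
    exact ⟨_, W.of e.2.1, e.2.2⟩
  have st := h.scomm hM W_mT MT
  have k1 : (s M)⁻¹ * g * s M * s mT = s mT * ((s M)⁻¹ * g * s M) :=
    (((show Commute (s M) (s mT) from st).inv_left.mul_left h1).mul_left st).eq
  have k2 : ∀ {y}, mv M y = x → (s M)⁻¹ * g * s M * f y = f y * ((s M)⁻¹ * g * s M) := fun {y} e => by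
    rw [← e, ← h.act _ hM] at h2
    calc _ = (s M)⁻¹ * (g * (s M * f y * (s M)⁻¹)) * s M := by group
      _ = _ := by rw [h2]; group
  have BE : Bq f i ≤ Eg f s i := le_sup_left.trans (le_sup_left.trans le_sup_left)
  obtain ⟨a, ha, k⟩ : ∃ a ∈ Eg f s i, a * ((s M)⁻¹ * g * s M) ∈ NJ f := by
    generalize (s M)⁻¹ * g * s M = g at k1 k2
    rcases e with e | e | e
    · have hz : g * f vz * g⁻¹ ∈ zpowers (f vz) := by
        rw [k2 e, mul_inv_cancel_right]; exact mem_zpowers _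
      obtain ⟨b, hb, k⟩ := h.nz g hz
      exact ⟨_, BE (h.nB hz k1 hb), by rwa [inv_mul_cancel_right]⟩
    · exact ⟨1, one_mem _, by rw [one_mul]; exact h.rr hX g k1 (k2 e)⟩
    · obtain ⟨a, ha, k⟩ := (h.ll (h.fc_of_xn hX) fun _ => le_rfl).2.2.2 g k1 (k2 e)
      exact ⟨a, sup_le (le_sup_left.trans le_sup_left) (zpowers_le.2 (BE h.tB)) ha, k⟩
  refine ⟨_, h.nE (h.sN hM) st ha, ?_⟩
  have := mul_mem (mul_mem (h.sN hM) k) (inv_mem (h.sN hM))
  rwa [show s M * (a * ((s M)⁻¹ * g * s M)) * (s M)⁻¹ = s M * a * (s M)⁻¹ * g by group] at this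

end H12.O83
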