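import Cfsg.Agent.Lib.O83.Bas

/-! Restriction of the configuration to a subgroup of index two. -/

set_option autoImplicit false
set_option linter.unusedSectionVars false

namespace H12.O83

open Subgroup H20.L43 H69

variable {G : Type*} [Group G] [Finite G] {l : Bool} {f : V4 → G} {s : M4 → G} {i : G}

theorem St.cent (h : St l f s i) {N : Subgroup G} (fN : ∀ x, f x ∈ N) (σN : s (-1) ∈ N) :
    centralizer (N : Set G) = ⊥ := eq_bot_iff.2 fun g hg => by
  obtain ⟨x, rfl⟩ := h.cJ fun x => (hg _ (fN x)).symm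
  have := hg _ σN
  rw [h.sf W.one.neg, mul_left_inj] at this
  rw [(by decide +kernel : ∀ x, mv (-1) x = x → x = 0) x (h.finj this), h.f0]
  exact one_mem _

theorem St.two (h : St true f s i) {H : Subgroup G} [n : H.Normal] (hi : H.index = 2)
    (u : s u4 ∉ H) : (∀ x, f x ∈ H) ∧ (∀ M, W true M → (s M ∈ H ↔ sg M = 1)) ∧ i ∈ H := by
  have h3 : ∀ g : G, g ^ 3 = 1 → g ∈ H := fun g e =>
    (mul_mem_cancel_left (sq_mem_of_index_two hi g)).1 (by rw [← pow_succ, e]; exact one_mem _)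
  have fH : ∀ x, f x ∈ H := fun x => h3 _ (h.f3 x)
  have cj : ∀ {a} b, a ∈ H → (a * b * a⁻¹ ∈ H ↔ b ∈ H) := fun b ha => by
    rw [mul_mem_cancel_right (inv_mem ha), mul_mem_cancel_left ha]
  have iH : i ∈ H := by
    have := cj (jj f i) (fH v1)
    rw [h.yj, mul_mem_iff_of_index_two hi] at this
    tauto
  have tH : s mT ∈ H := h.i2 ▸ mul_mem iH iH
  have r : ∀ M, W true M → s (M * mT * tr M) ∈ H := fun M hM => h.scj hM W_mT ▸ n.conj_mem _ tH _
  have w0 : ∀ M, W0 M → s M ∈ H := W0_ind (h.s1 ▸ one_mem _)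
    (fun M N hM hN a b => h.mul _ _ hM.w hN.w ▸ mul_mem a b) tH
    ((by decide : mB * mB * mT * tr (mB * mB) = s23) ▸ r _ (by decide))
    ((by decide : mO * u2 * mT * tr (mO * u2) = p3) ▸ r _ (by decide))
    ((by decide : u4 * mO * u2 * mT * tr (u4 * mO * u2) = p2) ▸ r _ (by decide))
  refine ⟨fH, fun M hM => ?_, iH⟩
  obtain ⟨c, b, N, hN, rfl, e⟩ := W_dec hM.1
  have w : W true u4 := by decide
  rw [h.mul _ _ ((w.pow c).mul (W_mO.pow b)) hN.w, h.mul _ _ (w.pow c) (W_mO.pow b), h.spow w,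
    h.spow W_mO, mul_mem_cancel_right (w0 N hN), mul_mem_cancel_right (pow_mem (h3 _ h.a3) _)]
  refine ⟨fun k => ?_, fun k => by rw [e k, pow_zero]; exact one_mem _⟩
  obtain ⟨c, rfl | rfl⟩ := c.even_or_odd'
  · rw [pow_mul, show u4 ^ 2 = 1 by decide, one_pow, one_mul]
    exact (((W_mO (l := false)).pow b).mul hN.w).2.resolve_left (by decide)
  · rw [pow_succ, pow_mul, mul_mem_cancel_left (pow_mem (sq_mem_of_index_two hi _) _)] at k
    exact (u k).elim

open Classical in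
theorem St.res (h : St true f s i) {H : Subgroup G} (hi : H.index = 2) (u : s u4 ∉ H)
    (fH : ∀ x, f x ∈ H) (sH : ∀ M, W true M → (s M ∈ H ↔ sg M = 1)) (iH : i ∈ H) :
    St false (fun x => (⟨f x, fH x⟩ : H)) (fun M => if e : s M ∈ H then ⟨s M, e⟩ else 1) ⟨i, iH⟩ := by
  set s' : M4 → H := fun M => if e : s M ∈ H then ⟨s M, e⟩ else 1
  set f' : V4 → H := fun x => ⟨f x, fH x⟩
  have sv : ∀ {M}, W false M → (s' M : G) = s M := fun {M} hM => by
    simp only [s', dif_pos ((sH M hM.of).2 (hM.2.resolve_left (by decide)))]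
  have p : Pre f' (s' mO) (s' mB) :=
    { add := fun x y => Subtype.ext (h.add x y)
      inj := fun x e => h.inj x (congrArg Subtype.val e)
      a3 := Subtype.ext (by simpa [sv W_mO] using h.a3)
      b3 := Subtype.ext (by simpa [sv W_mB] using h.b3)
      aO := fun x => Subtype.ext (by simpa [sv W_mO] using h.aO x)
      bB := fun x => Subtype.ext (by simpa [sv W_mB] using h.bB x)
      syl := fun P hP => by
        obtain ⟨k, hk⟩ := h.syl _ (hP.map H.subtype)
        by_cases e : k ∈ H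
        · exact ⟨⟨k, e⟩, fun g hg => by
            simpa [Subtype.ext_iff, sv W_mO, sv W_mB] using hk _ ⟨g, hg, rfl⟩⟩
        refine ⟨⟨s u4 * k, (mul_mem_iff_of_index_two hi).2 (by tauto)⟩, fun g hg => ?_⟩
        obtain ⟨x, m, n, e⟩ := hk _ ⟨g, hg, rfl⟩
        have w : W true u4 := by decide
        refine ⟨mv u4 x, 2 * m, n, Subtype.ext ?_⟩
        simp only [coe_mul, coe_inv, coe_pow, sv W_mO, sv W_mB]
        calc _ = s u4 * (k * H.subtype g * k⁻¹) * (s u4)⁻¹ := by simp [mul_assoc]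
          _ = _ := by
            rw [e, ← conj_mul, ← conj_mul, ← conj_pow, ← conj_pow, h.act _ w, h.scj w W_mO,
              h.scj w W_mB, pow_mul, ← h.spow W_mO 2]
            rfl }
  have nj : ∀ g : H, g ∈ NJ f' ↔ (g : G) ∈ NJ f := fun g => by
    simp only [p.mem_NJ, h.mem_NJ, Subtype.ext_iff]; rfl
  exact
    { p with
      mul := fun M N hM hN => Subtype.ext (by
        rw [coe_mul, sv hM, sv hN, sv (hM.mul hN), h.mul _ _ hM.of hN.of])
      act := fun M hM x => Subtype.ext (by simpa [sv hM] using h.act M hM.of x)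
      dec := fun g hg => by
        obtain ⟨x, M, hM, e⟩ := h.dec _ ((nj g).1 hg)
        have w : W false M := ⟨hM.1, .inr ((sH M hM).1
          ((mul_mem_cancel_left (fH x)).1 (e ▸ g.2)))⟩
        exact ⟨x, M, w, Subtype.ext (by rw [coe_mul, sv w, e])⟩
      i2 := Subtype.ext (by simpa [sv W_mT] using h.i2)
      iz := Subtype.ext h.iz
      ie := Subtype.ext h.ie
      iw := Subtype.ext (by simpa [sv W_mO] using h.iw)
      ir := Subtype.ext (by simpa [sv W_mB] using h.ir)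
      ij := Subtype.ext h.ij
      yj := Subtype.ext h.yj
      nz := fun g hg => by
        obtain ⟨c, e⟩ := p.mem_zp.1 hg
        obtain ⟨b, hb, n⟩ := h.nz g (h.mem_zp.2 ⟨c, congrArg Subtype.val e⟩)
        obtain ⟨m, k, rfl⟩ := h.mem_B.1 hb
        exact ⟨⟨i, iH⟩ ^ m * jj f' ⟨i, iH⟩ ^ k, mul_mem (pow_mem (subset_closure (.inl rfl)) m)
          (pow_mem (subset_closure (.inr rfl)) k), (nj _).2 n⟩ }

/-- the subgroup of index six is normal -/
theorem St.norm6 (h : St true f s i) {H N : Subgroup G} (hi : H.index = 2) (u : s u4 ∉ H)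
    (NH : N ≤ H) (nN : H ≤ 𝐍(N)) (fN : ∀ x, f x ∈ N) (sN : ∀ M, W true M → (s M ∈ N ↔ W0 M)) :
    N.Normal := by
  have : H.Normal := normal_of_index_eq_two hi
  have w : W true u4 := by decide
  have nK : N ≤ 𝐍((N ⊓ N ^ᶜ s u4 : Subgroup G)) := le_normalizer_inf le_normalizer (NH.trans (by
    rw [← cj_normalizer, ← cj_eq_of_normal H (s u4)]
    exact cj_mono _ nN))
  have fK : ∀ x, f x ∈ N ⊓ N ^ᶜ s u4 := fun x =>
    ⟨fN x, w.1.mv_tr x ▸ h.act _ w _ ▸ cj_mem _ (fN _)⟩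
  have JK : Jg f ≤ N ⊓ N ^ᶜ s u4 := fun y hy => (h.mem_J.1 hy).elim fun x e => e ▸ fK x
  have le : N ≤ N ^ᶜ s u4 := fun n hn => by
    obtain ⟨P, hP, l1⟩ := exists_isSylowIn_le h.pJ JK
    obtain ⟨k, hk, l2⟩ := hP.exists_cj_le (isPGroup_cj h.pJ n)
      (cj_le_of_mem_normalizer JK (nK hn))
    obtain ⟨x, M, hM, e⟩ := h.dec _ (h.wc (g := k * n) fun x =>
      h.p3 hP.isP (fun x => l1 (h.mem_J.2 ⟨x, rfl⟩))
        (l2 (by rw [cj_cj]; exact cj_mem _ (h.mem_J.2 ⟨x, rfl⟩))))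
    have m := (sN M hM).1 ((mul_mem_cancel_left (fN x)).1 (e ▸ mul_mem hk.1 hn))
    refine (mul_mem_cancel_left (mem_inf.1 hk).2).1 (e ▸ mul_mem (mem_inf.1 (fK x)).2 (mem_cj.2 ?_))
    rw [← h.sinv w, ← h.mul _ _ w.tr hM, ← h.mul _ _ (w.tr.mul hM) w, sN _ ((w.tr.mul hM).mul w)]
    refine ⟨(w.1.tr.mul m.1).mul w.1, ?_, ?_⟩
    · rw [sg_mul (w.1.tr.mul m.1) w.1, sg_mul w.1.tr m.1, m.2.1]; decide
    · rw [rt_mul (w.1.tr.mul m.1) w.1, rt_mul w.1.tr m.1, m.2.2, show rt u4 = 0 by decide,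
        show rt (tr u4) = 0 by decide]
      simp
  have uN : s u4 ∈ 𝐍(N) := cj_eq_self_iff.1 (eq_of_le_of_card_ge le (card_cj _ _).le).symm
  refine normalizer_eq_top_iff.1 (eq_top_iff.2 fun g _ => ?_)
  by_cases e : g ∈ H
  · exact nN e
  · exact (mul_mem_cancel_left uN).1 (nN ((mul_mem_iff_of_index_two hi).2 (by tauto)))

end H12.O83
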