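import Cfsg.Agent.Lib.O83.T2b

/-! The short reflection is not fused into `E D` (package T2D). -/

set_option autoImplicit false
set_option linter.unusedSectionVars false

namespace H12.O83

open Subgroup H20.L43 H69

namespace T2d

/-- a function on `D3` from its eight values -/
def mk8 (a b c d e f g h : ZMod 2) (x : D3) : ZMod 2 :=
  if x.1 = 0 then (if x.2.1 = 0 then (if x.2.2 = 0 then a else b) else (if x.2.2 = 0 then c else d))
  else (if x.2.1 = 0 then (if x.2.2 = 0 then e else f) else (if x.2.2 = 0 then g else h))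

theorem forall8 {Q : (D3 → ZMod 2) → Prop} (h : ∀ a b c d e f g h, Q (mk8 a b c d e f g h))
    (v : D3 → ZMod 2) : Q v := by
  have e : v = mk8 (v (0, 0, 0)) (v (0, 0, 1)) (v (0, 1, 0)) (v (0, 1, 1)) (v (1, 0, 0))
      (v (1, 0, 1)) (v (1, 1, 0)) (v (1, 1, 1)) := by
    funext x
    have k : ∀ y : ZMod 2, y = 0 ∨ y = 1 := by decide
    obtain ⟨x1, x2, x3⟩ := x
    rcases k x1 with rfl | rfl <;> rcases k x2 with rfl | rfl <;> rcases k x3 with rfl | rfl <;> rfl
  rw [e]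
  exact h ..

/-- the action of the triality element on coordinates -/
def ro (v : D3 → ZMod 2) (d : D3) : ZMod 2 := v (d.2.2, d.1, d.2.1)
/-- shifts -/
def sh (c : D3) (v : D3 → ZMod 2) (d : D3) : ZMod 2 := v (d + c)
/-- the coordinates of the standard involution -/
def v0 : D3 → ZMod 2 := mk8 1 0 0 1 1 0 0 1
/-- the images of `vz` -/
def zz (d : D3) : V4 :=
  if d.1 = 0 then (if d.2.1 = 0 then (if d.2.2 = 0 then (1, 1, 1, 0) else (1, 1, 0, 1))
    else (if d.2.2 = 0 then (1, 1, 0, -1) else (1, 1, -1, 0)))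
  else (if d.2.1 = 0 then (if d.2.2 = 0 then (-1, -1, 1, 0) else (-1, -1, 0, 1))
    else (if d.2.2 = 0 then (-1, -1, 0, -1) else (-1, -1, -1, 0)))
/-- the action of `J₀` -/
def b3 (x : V4) (v : D3 → ZMod 2) (d : D3) : ZMod 2 :=
  if dt x (zz d) = 0 then v d else if dt x (zz d) = -1 then v (d + oo) else v d + v (d + oo)

theorem dt_zz : ∀ (x : V4) (d : D3), dt (mv (dm d) x) vz = dt x (zz d) := by decide +kernel

theorem a3_eq (x : V4) (v : D3 → ZMod 2) : a3 x v = b3 x v := by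
  funext d
  simp only [a3, b3, dt_zz]

/-- the end points -/
def Fin0 (v : D3 → ZMod 2) : Prop := (∀ d, ro v d = v d) ∨ ∀ d, v d = v0 d

instance (v : D3 → ZMod 2) : Decidable (Fin0 v) := by unfold Fin0; infer_instance

set_option synthInstance.maxSize 4096 in
theorem orb (v : D3 → ZMod 2) : Qe v = 0 → ∃ u ∈ [v, ro v, ro (ro v)], ∃ c ∈ [(0 : D3), (0, 0, 1)],
    ∃ p q r : ZMod 3, Fin0 (b3 (p, p, q, r) (sh c u)) := by
  revert v
  refine forall8 ?_
  decide +kernel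

theorem mats : ∀ d : D3, d ≠ 0 → ∀ N ∈ [dm d, mT * dm d], ∃ M ∈ [1, u2, u2 * mO, u2 * mO * mO,
    mO * u2, mO * u2 * mO, mO * u2 * mO * mO], W true M ∧
    (M * N * tr M * mO = mO * (M * N * tr M) ∨ M * N * tr M = u1 * u2) := by
  decide +kernel

theorem img (d : D3) (hd : d ≠ 0) (v : D3 → ZMod 2) (h : v + sh d v = 0) :
    ∃ u, u + v + sh d u = 0 := by
  have k : ∀ d : D3, d ≠ 0 → ∃ c : D3, ∀ x : D3, c.1 * (x + d).1 + c.2.1 * (x + d).2.1 +
      c.2.2 * (x + d).2.2 = c.1 * x.1 + c.2.1 * x.2.1 + c.2.2 * x.2.2 + 1 := by decide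
  obtain ⟨c, hc⟩ := k d hd
  refine ⟨fun x => (c.1 * x.1 + c.2.1 * x.2.1 + c.2.2 * x.2.2) * v x, funext fun x => ?_⟩
  have h1 : v x + v (x + d) = 0 := congrFun h x
  change _ * v x + v x + (c.1 * (x + d).1 + c.2.1 * (x + d).2.1 + c.2.2 * (x + d).2.2) *
    v (x + d) = 0
  rw [hc]
  generalize c.1 * x.1 + c.2.1 * x.2.1 + c.2.2 * x.2.2 = m at *
  generalize v x = p at *
  generalize v (x + d) = q at *
  revert m p q
  decide

variable {G : Type*} [Group G] [Finite G] {f : V4 → G} {s : M4 → G} {i : G}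
  {φ : G → D3 → ZMod 2}

theorem phi_inv (e : EE true f s i φ) {a : G} (ha : a ∈ Eg f s i) : φ a⁻¹ = φ a := by
  have h1 := e.add a ha a⁻¹ (inv_mem ha)
  rw [mul_inv_cancel, (e.ker 1 (one_mem _)).2 (Or.inl rfl)] at h1
  funext x
  have h2 : (0 : ZMod 2) = φ a x + φ a⁻¹ x := congrFun h1 x
  generalize φ a x = p at *
  generalize φ a⁻¹ x = q at *
  revert p q
  decide

theorem coset (e : EE true f s i φ) {a b : G} (ha : a ∈ Eg f s i) (hb : b ∈ Eg f s i)
    (k : φ a = φ b) : a = b ∨ a = b * s mT := by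
  have h1 : φ (b⁻¹ * a) = 0 := by
    rw [e.add _ (inv_mem hb) _ ha, phi_inv e hb, k]
    funext x
    change φ b x + φ b x = 0
    generalize φ b x = p
    revert p
    decide
  rcases (e.ker _ (mul_mem (inv_mem hb) ha)).1 h1 with h2 | h2
  · exact Or.inl (inv_mul_eq_one.1 h2).symm
  · exact Or.inr (by rw [← h2]; group)

/-- vectors that are not coordinates of a conjugate of the short reflection -/
def Bad (f : V4 → G) (s : M4 → G) (i : G) (φ : G → D3 → ZMod 2) (v : D3 → ZMod 2) : Prop :=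
  ∀ a ∈ Eg f s i, φ a = v → ∀ g, g * s u4 * g⁻¹ ≠ a

theorem bad_of {v v' : D3 → ZMod 2} (n : G) (hn : ∀ a ∈ Eg f s i, φ a = v →
    n * a * n⁻¹ ∈ Eg f s i ∧ φ (n * a * n⁻¹) = v') (b : Bad f s i φ v') : Bad f s i φ v := by
  intro a ha k g hg
  exact b _ (hn a ha k).1 (hn a ha k).2 (n * g) (by rw [← hg]; group)

theorem wt (h : St true f s i) : s mO * s mT = s mT * s mO :=
  h.scomm W_mO W_mT (by decide +kernel)

theorem bad_ro (h : St true f s i) (e : EE true f s i φ) {v : D3 → ZMod 2}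
    (b : Bad f s i φ (ro v)) : Bad f s i φ v :=
  bad_of (s mO) (fun a ha k => ⟨e.nE _ (h.sN W_mO) (wt h) a ha, by rw [e.aw a ha, k]; rfl⟩) b

theorem bad_sh (e : EE true f s i φ) {v : D3 → ZMod 2} (c : D3)
    (b : Bad f s i φ (sh c v)) : Bad f s i φ v :=
  bad_of (s (dm c)) (fun a ha k => ⟨e.δE c a ha, by
    rw [e.δφ c a ha, k]; rfl⟩) b

theorem bad_b3 (h : St true f s i) (e : EE true f s i φ) {v : D3 → ZMod 2} {x : V4}
    (hx : mv mT x = x) (b : Bad f s i φ (b3 x v)) : Bad f s i φ v :=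
  bad_of (f x) (fun a ha k => ⟨e.nE _ (h.toPre.fN x) (h.sfc W_mT hx).symm a ha, by
    rw [e.aJ x hx a ha, k, a3_eq]⟩) b

theorem bad_fix (h : St true f s i) (e : EE true f s i φ) {v : D3 → ZMod 2}
    (hv : ∀ d, ro v d = v d) : Bad f s i φ v := by
  intro a ha k g hg
  have h1 : φ (s mO * a * (s mO)⁻¹) = φ a := by
    rw [e.aw a ha, k]
    exact funext hv
  rcases coset e (e.nE _ (h.sN W_mO) (wt h) a ha) ha h1 with h2 | h2
  · refine h.unw (g := g) (k := 1) ?_
    rw [hg, one_mul, inv_one, mul_one, ← mul_inv_eq_iff_eq_mul.1 h2]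
  · have h3 : s mO * s mT * (s mO)⁻¹ = s mT := mul_inv_eq_iff_eq_mul.2 (wt h)
    have h4 : s mO * (a * s mT) * (s mO)⁻¹ = a := by
      calc s mO * (a * s mT) * (s mO)⁻¹ = s mO * a * (s mO)⁻¹ * (s mO * s mT * (s mO)⁻¹) := by group
        _ = a := by rw [h2, h3, mul_assoc, h.t2, mul_one]
    have h5 : s mO ^ 3 * a * (s mO ^ 3)⁻¹ = a * s mT := by
      calc s mO ^ 3 * a * (s mO ^ 3)⁻¹
          = s mO * (s mO * (s mO * a * (s mO)⁻¹) * (s mO)⁻¹) * (s mO)⁻¹ := by
            simp only [pow_succ, pow_zero]; group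
        _ = a * s mT := by rw [h2, h4, h2]
    rw [h.a3, one_mul, inv_one, mul_one] at h5
    exact h.t1 (left_eq_mul.1 h5)

theorem bad_v0 (h : St true f s i) (hX : XN f) (e : EE true f s i φ) : Bad f s i φ v0 := by
  intro a ha k g hg
  have iE : i ∈ Eg f s i := mem_sup_left (mem_sup_left (mem_sup_left h.iB))
  have p : dm (1, 0, 0) = p1 := by decide +kernel
  have h0 := e.δE (1, 0, 0) i iE
  have h1 := e.δφ (1, 0, 0) i iE
  simp only [p] at h0 h1
  have h2 : φ a = φ (i * (s p1 * i * (s p1)⁻¹)) := by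
    rw [e.add _ iE _ h0, h1, e.fi, k]
    funext x
    revert x
    decide
  rcases coset e ha (mul_mem iE h0) h2 with h3 | h3
  · exact h.une0 hX e g (hg.trans h3)
  · refine h.une0 hX e ((jj f i)⁻¹ * g) ?_
    have h4 := e.cB _ h.jB _ (cj_mem (s p1) h.iB)
    have h5 : jj f i * i * (jj f i)⁻¹ = s mT * i := by
      have h6 : i * (jj f i)⁻¹ * i⁻¹ = jj f i := by
        calc i * (jj f i)⁻¹ * i⁻¹ = (i * jj f i * i⁻¹)⁻¹ := by group
          _ = jj f i := by rw [h.ij, inv_inv]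
      calc jj f i * i * (jj f i)⁻¹ = jj f i * (i * (jj f i)⁻¹ * i⁻¹) * i := by group
        _ = s mT * i := by rw [h6, h.j2]
    have h7 : jj f i * (i * (s p1 * i * (s p1)⁻¹)) * (jj f i)⁻¹ = a := by
      calc jj f i * (i * (s p1 * i * (s p1)⁻¹)) * (jj f i)⁻¹
          = jj f i * i * (jj f i)⁻¹ * (jj f i * (s p1 * i * (s p1)⁻¹)) * (jj f i)⁻¹ := by group
        _ = a := by
          rw [h5, h4, h3, e.tc _ (mul_mem iE h0)]; group
    calc (jj f i)⁻¹ * g * s u4 * ((jj f i)⁻¹ * g)⁻¹ = (jj f i)⁻¹ * (g * s u4 * g⁻¹) * jj f i := by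
          group
      _ = _ := by rw [hg, ← h7]; group

theorem bad_all (h : St true f s i) (hX : XN f) (e : EE true f s i φ) {v : D3 → ZMod 2}
    (hv : Qe v = 0) : Bad f s i φ v := by
  obtain ⟨u, hu, c, -, p, q, r, k⟩ := orb v hv
  have h0 : ∀ p q r : ZMod 3, mv mT (p, p, q, r) = (p, p, q, r) := by decide +kernel
  have h1 : Bad f s i φ u := by
    refine bad_sh e c (bad_b3 h e (h0 p q r) ?_)
    rcases k with k | k
    · exact bad_fix h e k
    · rw [funext k]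
      exact bad_v0 h hX e
  simp only [List.mem_cons, List.not_mem_nil, or_false] at hu
  rcases hu with rfl | rfl | rfl
  · exact h1
  · exact bad_ro h e h1
  · exact bad_ro h e (bad_ro h e h1)

theorem noN (h : St true f s i) (hX : XN f) {M N : M4} (hM : W true M) (hN : W true N)
    (k : M * N * tr M * mO = mO * (M * N * tr M) ∨ M * N * tr M = u1 * u2) (g : G) :
    g * s u4 * g⁻¹ ≠ s N := by
  intro hg
  have h1 : s M * g * s u4 * (s M * g)⁻¹ = s (M * N * tr M) := by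
    rw [← h.scj hM hN, ← hg]; group
  rcases k with k | k
  · refine h.unw (g := s M * g) (k := 1) ?_
    rw [h1, one_mul, inv_one, mul_one]
    exact h.scomm ((hM.mul hN).mul hM.tr) W_mO k
  · exact h.un12 hX _ (k ▸ h1)

end T2d

variable {G : Type*} [Group G] [Finite G] {l : Bool} {f : V4 → G} {s : M4 → G} {i : G}

variable {φ : G → D3 → ZMod 2}

theorem St.unf (h : St true f s i) (hX : XN f) (e : EE true f s i φ) (g a : G) (ha : a ∈ Eg f s i)
    (d : D3) : g * s u4 * g⁻¹ ≠ a * s (dm d) := by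
  intro hg
  have u2 : s u4 * s u4 = 1 := h.ssq (by decide +kernel) (by decide +kernel)
  have sq : a * s (dm d) * (a * s (dm d)) = 1 := by
    rw [← hg]
    calc g * s u4 * g⁻¹ * (g * s u4 * g⁻¹) = g * (s u4 * s u4) * g⁻¹ := by group
      _ = 1 := by rw [u2]; group
  by_cases hd : d = 0
  · have d0 : dm 0 = 1 := by decide +kernel
    rw [hd, d0, h.s1, mul_one] at hg sq
    exact T2d.bad_all h hX e ((e.sq a ha).1 sq) a ha rfl g hg
  have dd : ∀ d : D3, dm d * dm d = 1 := by decide +kernel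
  have d2 : s (dm d) * s (dm d) = 1 := h.ssq (W_dm d) (dd d)
  have sφ : ∀ b ∈ Eg f s i, φ (s (dm d) * b * (s (dm d))⁻¹) = T2d.sh d (φ b) := fun b hb =>
    e.δφ d b hb
  have sE : ∀ b ∈ Eg f s i, s (dm d) * b * (s (dm d))⁻¹ ∈ Eg f s i := fun b hb => e.δE d b hb
  have h1 : φ a + T2d.sh d (φ a) = 0 := by
    rw [← sφ a ha, ← e.add _ ha _ (sE a ha), e.ker _ (mul_mem ha (sE a ha))]
    left
    rw [← sq, inv_eq_of_mul_eq_one_right d2]
    group
  obtain ⟨u, hu⟩ := T2d.img d hd _ h1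
  obtain ⟨b, hb, rfl⟩ := e.surj u
  have cE := mul_mem (mul_mem (inv_mem hb) ha) (sE b hb)
  have h2 : φ (b⁻¹ * a * (s (dm d) * b * (s (dm d))⁻¹)) = 0 := by
    rw [e.add _ (mul_mem (inv_mem hb) ha) _ (sE b hb), e.add _ (inv_mem hb) _ ha, T2d.phi_inv e hb,
      sφ b hb, hu]
  have h3 : b⁻¹ * g * s u4 * (b⁻¹ * g)⁻¹ =
      b⁻¹ * a * (s (dm d) * b * (s (dm d))⁻¹) * s (dm d) := by
    calc b⁻¹ * g * s u4 * (b⁻¹ * g)⁻¹ = b⁻¹ * (g * s u4 * g⁻¹) * b := by group
      _ = _ := by rw [hg]; group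
  rcases (e.ker _ cE).1 h2 with h4 | h4
  · obtain ⟨M, -, hM, k⟩ := T2d.mats d hd (dm d) (by simp)
    rw [h4, one_mul] at h3
    exact T2d.noN h hX hM (W_dm d) k _ h3
  · obtain ⟨M, -, hM, k⟩ := T2d.mats d hd (mT * dm d) (by simp)
    rw [h4, ← h.mul _ _ W_mT (W_dm d)] at h3
    exact T2d.noN h hX hM (W_mT.mul (W_dm d)) k _ h3

end H12.O83
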