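import Cfsg.Agent.Lib.O83.XNc
import Cfsg.Agent.Lib.O83.RR
import Cfsg.Agent.Lib.O83.EE
import Cfsg.Agent.Lib.O83.T2d
import Cfsg.Agent.Lib.O83.Fa
import Cfsg.Agent.Lib.O83.Fb
import Cfsg.Agent.Lib.O83.Res
import Cfsg.Agent.S0111

/-! The two levels. -/

set_option autoImplicit false

namespace H12.O83

open Subgroup H20.L43 H69

variable {G : Type*} [Group G] [Finite G] {l : Bool} {f : V4 → G} {s : M4 → G} {i : G}

theorem St.exE (h : St l f s i) : ∃ φ, EE l f s i φ :=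
  h.ee ((h.ll (h.fc_of_xn h.xn) fun _ => le_rfl).2.2.1 le_rfl) (h.ck h.xn)

theorem St.main1 (h : St false f s i) : ∃ N, G0 f s N ∧
    Nonempty (N ≃* Cfsg.Omega (ZMod 2) (Cfsg.quadFormPlus 4 (ZMod 2))) := by
  obtain ⟨φ, e⟩ := h.exE
  obtain ⟨N, hN⟩ := h.t3
  exact ⟨N, hN, h.fin e hN (h.k0 e hN)⟩

theorem St.t2c (h : St true f s i) : ∃ H : Subgroup G, H.Normal ∧ H.index = 2 ∧ s u4 ∉ H := by
  obtain ⟨φ, e⟩ := h.exE
  obtain ⟨P, hP⟩ := h.syl2 e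
  obtain ⟨R, hR, u⟩ := h.max2 e
  have u2 : s u4 * s u4 = 1 := h.ssq (by decide) (by decide)
  have uP : s u4 ∈ (P : Subgroup G) :=
    (hP _).2 ⟨1, one_mem _, 0, 1, by rw [show dm 0 = 1 by decide, h.s1]; simp⟩
  refine (Cfsg.Agent.S0111.result P R (fun g hg => ?_) ?_ (s u4) (orderOf_eq_prime (by rw [sq, u2])
    fun k => u (k ▸ one_mem _)) uP u).resolve_right fun ⟨g, hg⟩ => ?_
  · obtain ⟨a, ha, d, k⟩ := (hR g).1 hg
    exact (hP g).2 ⟨a, ha, d, 0, by simpa using k⟩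
  · refine relIndex_eq_two_iff_exists_notMem_and.2 ⟨_, uP, u, fun b hb => ?_⟩
    obtain ⟨a, ha, d, c, rfl⟩ := (hP b).1 hb
    have m : a * s (dm d) ∈ R := (hR _).2 ⟨a, ha, d, rfl⟩
    obtain ⟨c, rfl | rfl⟩ := c.even_or_odd'
    · exact .inr (by simpa [pow_mul, sq, u2] using m)
    · exact .inl (by simpa [pow_succ, pow_mul, sq, u2, mul_assoc] using m)
  · obtain ⟨a, ha, d, k⟩ := (hR _).1 hg
    exact h.unf h.xn e g a ha d k

theorem St.main (h : St l f s i) : ∃ N : Subgroup G, N.Normal ∧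
    Nonempty (N ≃* Cfsg.Omega (ZMod 2) (Cfsg.quadFormPlus 4 (ZMod 2))) ∧
      centralizer (N : Set G) = ⊥ ∧ (N.index = 3 ∨ N.index = 6) := by
  cases l
  · obtain ⟨N, hN, e⟩ := h.main1
    exact ⟨N, hN.nm, e, h.cent hN.fH ((hN.sH _ (by decide)).2 (by decide)), .inl hN.ind⟩
  obtain ⟨H, n, hi, u⟩ := h.t2c
  obtain ⟨fH, sH, iH⟩ := h.two hi u
  obtain ⟨N, hN, ⟨e⟩⟩ := (h.res hi u fH sH iH).main1
  have fN : ∀ x, f x ∈ N.map H.subtype := fun x => ⟨_, hN.fH x, rfl⟩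
  have sN : ∀ M, W true M → (s M ∈ N.map H.subtype ↔ W0 M) := fun M hM => by
    by_cases k : s M ∈ H
    · have k1 := (sH M hM).1 k
      have := hN.sH M ⟨hM.1, .inr k1⟩
      rw [dif_pos k, ← mem_map_iff_mem H.subtype_injective] at this
      exact this.trans ⟨fun a => ⟨hM.1, k1, a⟩, fun a => a.2.2⟩
    · exact ⟨fun a => (k (map_subtype_le _ a)).elim, fun a => (k ((sH M hM).2 a.2.1)).elim⟩
  refine ⟨N.map H.subtype, h.norm6 hi u (map_subtype_le _) (fun g hg => mem_norm ?_) fN sN,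
    ⟨(equivMapOfInjective N _ H.subtype_injective).symm.trans e⟩,
    h.cent fN ((sN _ (by decide)).2 (by decide)), .inr (by rw [index_map_subtype, hN.ind, hi])⟩
  rintro _ ⟨x, hx, rfl⟩
  exact ⟨_, hN.nm.conj_mem x hx ⟨g, hg⟩, rfl⟩

end H12.O83
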