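import Cfsg.Agent.Lib.O83.Defs
import Cfsg.Agent.Lib.U63.G9
import Cfsg.Agent.Lib.P3L.Tools
import Cfsg.Agent.Lib.LocStruct.SylowIn

/-! Normalizer `S₃ × S₃ × S₃` (package N3A). -/

set_option autoImplicit false
set_option linter.unusedSectionVars false

namespace H12.O83

open Subgroup H20.L43 H69

variable {G : Type*} [Group G] [Finite G]

variable {p : X3 → G} {δ : D3 → G} {N : Subgroup G}

/-- an element whose square and cube are trivial -/
theorem one_of_23 {x : G} (h2 : x * x = 1) (h3 : x ^ 3 = 1) : x = 1 := by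
  rwa [pow_succ, sq, h2, one_mul] at h3

namespace P27

variable (h : P27 p δ N)
include h

theorem p0 : p 0 = 1 := by
  have := h.add 0 0
  rw [add_zero] at this
  exact left_eq_mul.1 this

theorem neg (u : X3) : p (-u) = (p u)⁻¹ :=
  eq_inv_of_mul_eq_one_left (by rw [← h.add, neg_add_cancel, h.p0])

theorem comm (u v : X3) : p u * p v = p v * p u := by rw [← h.add, add_comm, h.add]

theorem cube (u : X3) : p u ^ 3 = 1 := by
  rw [pow_succ, sq, ← h.add, ← h.add, show u + u + u = 0 by revert u; decide, h.p0]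

theorem ne {u : X3} (u0 : u ≠ 0) : p u ≠ 1 := mt (h.inj u) u0

theorem inj' {u v : X3} (e : p u = p v) : u = v :=
  sub_eq_zero.1 (h.inj _ (by rw [sub_eq_add_neg, h.add, h.neg, e, mul_inv_cancel]))

theorem nsm (n : ℕ) (u : X3) : p (n • u) = p u ^ n := by
  induction n with
  | zero => simpa using h.p0
  | succ n ih => rw [succ_nsmul, h.add, ih, pow_succ]

theorem f9 (w y : X3) (u : H53.Odd.V9) : H53.Odd.f9 (p w) (p y) u = p (u.1.val • w + u.2.val • y) := by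
  rw [h.add, h.nsm, h.nsm, H53.Odd.f9]

theorem δ0 : δ 0 = 1 := by
  have := h.δm 0 0
  rw [add_zero] at this
  exact left_eq_mul.1 this

theorem δ2 (d : D3) : δ d * δ d = 1 := by
  rw [← h.δm, show d + d = 0 by revert d; decide, h.δ0]

theorem δi (d : D3) : (δ d)⁻¹ = δ d := inv_eq_of_mul_eq_one_right (h.δ2 d)

theorem δc (c d : D3) : δ c * δ d = δ d * δ c := by rw [← h.δm, add_comm, h.δm]

theorem δn (n : ℕ) (d : D3) : δ (n • d) = δ d ^ n := by
  induction n with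
  | zero => simpa using h.δ0
  | succ n ih => rw [succ_nsmul, h.δm, ih, pow_succ]

theorem δinj {d : D3} (e : δ d = 1) : d = 0 := by
  have : ∀ u, sn d u = u := fun u => h.inj' (by rw [← h.act, e]; simp)
  exact (by decide : ∀ d, sn d (1, 1, 1) = (1, 1, 1) → d = 0) d (this _)

theorem act' (d : D3) (u : X3) : δ d * p u = p (sn d u) * δ d := by rw [← h.act]; simp

theorem fix {d : D3} {u : X3} : p u * δ d = δ d * p u ↔ sn d u = u := by
  rw [h.act', mul_left_inj]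
  exact ⟨fun e => (h.inj' e).symm, fun e => by rw [e]⟩

/-- the centralizer in `P` -/
theorem exists_C (b : G) : ∃ R : Subgroup G, ∀ x, x ∈ R ↔ (∃ y, x = p y) ∧ x * b = b * x :=
  ⟨{ carrier := {x | (∃ y, x = p y) ∧ x * b = b * x}
     mul_mem' := by
      rintro _ _ ⟨⟨x, rfl⟩, hx⟩ ⟨⟨y, rfl⟩, hy⟩
      exact ⟨⟨x + y, (h.add x y).symm⟩, Commute.mul_left hx hy⟩
     one_mem' := ⟨⟨0, h.p0.symm⟩, by simp⟩
     inv_mem' := by
      rintro _ ⟨⟨x, rfl⟩, hx⟩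
      exact ⟨⟨-x, (h.neg x).symm⟩, Commute.inv_left hx⟩ }, fun _ => Iff.rfl⟩

/-- three-elements normalizing a nontrivial subgroup of `P` -/
theorem three_N {R : Subgroup G} (hR : ∀ x ∈ R, ∃ y, x = p y) {v : X3} (v0 : v ≠ 0) (hv : p v ∈ R)
    {g : G} (hg : ∀ x ∈ R, g * x * g⁻¹ ∈ R) {k : ℕ} (g3 : g ^ 3 ^ k = 1) : g ∈ N := by
  obtain ⟨⟨x, x1, x2⟩, x3⟩ := ne_bot_iff_exists_ne_one.1 (inf_centralizer_ne_bot (p := 3) (R := R)
    (T := zpowers g) (pg3 (n := 1) fun x hx => by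
      obtain ⟨y, rfl⟩ := hR x hx
      exact h.cube y) (pg3 (n := k) (by
      rintro _ ⟨i, rfl⟩
      simp only
      rw [← zpow_natCast, ← zpow_mul, mul_comm, zpow_mul, zpow_natCast, g3, one_zpow]))
    (zpowers_le.2 (mem_norm hg)) fun e => h.ne v0 (by rwa [e] at hv))
  obtain ⟨y, rfl⟩ := hR x x1
  exact h.cN y (fun e => x3 (Subtype.ext (by simp [e, h.p0]))) g (x2 g (mem_zpowers g))

theorem cj_N (wc : ∀ g, (∀ u, g * p u * g⁻¹ ∈ N) → g ∈ N) {g : G} {u v : X3} (u0 : u ≠ 0)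
    (e : g * p u * g⁻¹ = p v) : g ∈ N :=
  wc g fun w => h.cN v (fun v0 => h.ne u0 (by simpa [v0, h.p0] using e)) _ (by
    rw [← e, conj_mul, conj_mul, h.comm])

end P27

/-- FUS: `wc` is weak closure, `h3` says that `C_P(b)` is Sylow in `C_N(b)` -/
theorem P27.fus (h : P27 p δ N) (wc : ∀ g, (∀ u, g * p u * g⁻¹ ∈ N) → g ∈ N) {a b g : G}
    {u v : X3} (u0 : u ≠ 0) (v0 : v ≠ 0) (au : a * p u = p u * a) (bv : b * p v = p v * b)
    (h3 : ∀ n ∈ N, n * b = b * n → (∃ k, n ^ 3 ^ k = 1) → ∃ x, n = p x) (e : g * a * g⁻¹ = b) :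
    ∃ c, c * b = b * c ∧ c * g ∈ N := by
  obtain ⟨R, hR⟩ := h.exists_C b
  obtain ⟨c, hc, e'⟩ := conj_into1 (N := Ce b) (R := R) (pg3 (n := 1) fun x hx => by
      obtain ⟨y, rfl⟩ := ((hR x).1 hx).1
      exact h.cube y) (fun g hg h1 h2 => by
      have g9 : g ^ 3 ^ 2 = 1 := by
        obtain ⟨y, e⟩ := ((hR _).1 h2).1
        rw [sq, pow_mul, e, h.cube]
      exact (hR g).2 ⟨h3 g (h.three_N (fun x hx => ((hR x).1 hx).1) v0
        ((hR _).2 ⟨⟨v, rfl⟩, bv.symm⟩) h1 g9) (mem_Ce.1 hg) ⟨2, g9⟩, mem_Ce.1 hg⟩)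
    (fun x hx => mem_Ce.2 ((hR x).1 hx).2) (t := g * p u * g⁻¹) (by rw [conj_pow, h.cube]; simp)
    (mem_Ce.2 (by rw [← e, conj_mul, conj_mul, au]))
  obtain ⟨y, e''⟩ := ((hR _).1 e').1
  exact ⟨c, mem_Ce.1 hc, h.cj_N wc u0 (v := y) (by rw [← e'']; group)⟩

namespace P27

variable (h : P27 p δ N) (dec : ∀ g ∈ N, ∃ u d, g = p u * δ d)
include h dec

theorem thr {n : G} (hn : n ∈ N) {k : ℕ} (e : n ^ 3 ^ k = 1) : ∃ x, n = p x := by
  obtain ⟨R, hR⟩ := h.exists_C 1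
  obtain ⟨u, d, rfl⟩ := dec n hn
  have h2 : (p u * δ d) ^ 2 ∈ R := (hR _).2 ⟨⟨u + sn d u, by
    rw [sq, h.add, ← h.act, h.δi]; group⟩, by simp⟩
  obtain ⟨m, hm⟩ : Odd (3 ^ k) := Odd.pow (by decide)
  rw [hm, pow_succ, pow_mul] at e
  exact ((hR _).1 (by rw [← inv_eq_of_mul_eq_one_right e]; exact inv_mem (pow_mem h2 m))).1

theorem wc (g : G) (e : ∀ u, g * p u * g⁻¹ ∈ N) : g ∈ N :=
  h.nP g fun u => h.thr dec (e u) (k := 1) (by rw [conj_pow, pow_one, h.cube]; simp)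

/-- the centralizer of a reflection -/
theorem refl {d0 d1 d2 : D3} {w y : X3} (w0 : w ≠ 0) (fw : sn d0 w = w) (fy : sn d0 y = y)
    (de : ∀ x, sn d0 x = x → ∃ u : H53.Odd.V9, x = u.1.val • w + u.2.val • y)
    (ij : ∀ u : H53.Odd.V9, u.1.val • w + u.2.val • y = 0 → u = 0)
    (h1 : sn d1 w = -w) (h2 : sn d1 y = y) (h3 : sn d2 w = w) (h4 : sn d2 y = -y)
    (dd : ∀ d, ∃ i j k : Fin 2, d = i.val • d1 + j.val • d2 + k.val • d0) :
    Ce (δ d0) ≤ N := by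
  obtain ⟨A, hA⟩ := h.exists_C (δ d0)
  have U2 : ∀ u ∈ zpowers (δ d0), u * u = 1 := by
    rintro _ ⟨i, rfl⟩
    simp only
    rw [← (Commute.refl _).mul_zpow, h.δ2, one_zpow]
  have Uc : ∀ g ∈ Ce (δ d0), ∀ u ∈ zpowers (δ d0), g * u = u * g := by
    rintro g hg _ ⟨i, rfl⟩
    exact (Commute.zpow_right (mem_Ce.1 hg) i).eq
  have AL : A ≤ Ce (δ d0) := fun x hx => mem_Ce.2 ((hA x).1 hx).2
  have A3 : ∀ a ∈ A, a ^ 3 = 1 := fun a ha => by
    obtain ⟨y, rfl⟩ := ((hA a).1 ha).1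
    exact h.cube y
  have wA : p w ∈ A := (hA _).2 ⟨⟨w, rfl⟩, h.fix.2 fw⟩
  have one : ∀ b ∈ A, ∀ c : G, c ^ 3 = 1 → b⁻¹ * c ∈ zpowers (δ d0) → c = b := fun b hb c c3 e => by
    have e1 : c = b * (b⁻¹ * c) := by group
    rw [e1, (Commute.mul_pow (Uc b (AL hb) _ e)), A3 b hb, one_mul] at c3
    rw [e1, one_of_23 (U2 _ e) c3, mul_one]
  have cen : ∀ v ∈ A, v ∉ zpowers (δ d0) → ∀ g ∈ Ce (δ d0), g * v * g⁻¹ * v⁻¹ ∈ zpowers (δ d0) →
      g ∈ N := fun v hv v1 g hg e => by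
    have := one v hv (g * v * g⁻¹) (by rw [conj_pow, A3 v hv]; simp) (by
      have := Uc v⁻¹ (inv_mem (AL hv)) _ e
      rw [show v⁻¹ * (g * v * g⁻¹) = v⁻¹ * (g * v * g⁻¹ * v⁻¹) * v by group, this]
      simpa using e)
    obtain ⟨x, rfl⟩ := ((hA v).1 hv).1
    exact h.cN x (fun x0 => v1 (by rw [x0, h.p0]; exact one_mem _)) g (mul_inv_eq_iff_eq_mul.1 this)
  have pU : ∀ x, p x ∈ zpowers (δ d0) → x = 0 := fun x e => h.inj x (one_of_23 (U2 _ e) (h.cube x))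
  have δL : ∀ d, δ d ∈ Ce (δ d0) := fun d => mem_Ce.2 (h.δc _ _)
  have g9 : H87.U6.G9 (Ce (δ d0)) (zpowers (δ d0)) A N (p w) (p y) :=
    { UL := zpowers_le.2 (δL _)
      nU := fun g hg u hu => by rwa [Uc g hg u hu, mul_inv_cancel_right]
      le := AL
      comm := fun a ha b hb => by
        obtain ⟨x, rfl⟩ := ((hA a).1 ha).1
        obtain ⟨y, rfl⟩ := ((hA b).1 hb).1
        exact h.comm x y
      cube := A3
      syl := fun g hg e ⟨k, g3⟩ => (hA g).2 ⟨h.thr dec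
        (h.three_N (fun x hx => ((hA x).1 hx).1) w0 wA e g3) g3, mem_Ce.1 hg⟩
      hw := wA
      hy := (hA _).2 ⟨⟨y, rfl⟩, h.fix.2 fy⟩
      dec := fun a ha => by
        obtain ⟨⟨x, rfl⟩, e⟩ := (hA a).1 ha
        obtain ⟨u, rfl⟩ := de x (h.fix.1 e)
        exact ⟨u, by rw [h.f9, inv_mul_cancel]; exact one_mem _⟩
      inj := fun u e => ij u (pU _ (h.f9 w y u ▸ e))
      UH := zpowers_le.2 (h.δN _)
      AH := fun a ha => by
        obtain ⟨x, rfl⟩ := ((hA a).1 ha).1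
        exact h.pN x
      hN := fun g hg e => by
        obtain ⟨b, hb, e⟩ := e _ wA
        have := one b hb _ (by rw [conj_pow, h.cube]; simp) e
        obtain ⟨x, rfl⟩ := ((hA b).1 hb).1
        exact h.cj_N (h.wc dec) w0 this }
  obtain ⟨Y, YL, -, -, c1, c2⟩ := g9.nine (δL d1) (δL d2) (h.δN _) (h.δN _)
    (h.δ2 d1 ▸ one_mem _) (h.δ2 d2 ▸ one_mem _) (by rw [h.δc]; simp)
    (by rw [h.act, h1, h.neg]; simp) (by rw [h.act, h2]; simp) (by rw [h.act, h3]; simp)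
    (by rw [h.act, h4, h.neg]; simp) (fun g hg gL => by
      obtain ⟨x, d, rfl⟩ := dec g hg
      obtain ⟨i, j, k, rfl⟩ := dd d
      refine ⟨p x, (hA _).2 ⟨⟨x, rfl⟩, mem_Ce.1 ((mul_mem_cancel_right (δL _)).1 gL)⟩, i, j, ?_⟩
      rw [h.δm, h.δm, h.δn, h.δn, h.δn, ← mul_assoc (p x) _ (δ d0 ^ _), inv_mul_cancel_left]
      exact pow_mem (mem_zpowers _) _)
    (cen _ wA (mt (pU w) w0)) fun v hv v1 => ⟨_, zpowers_le.2 (δL _), le_rfl, fun o ho => ⟨by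
      rw [show 4 = 2 * 2 from rfl, pow_mul, sq o, U2 o ho]; simp, by
      rw [← Uc v (AL hv) o ho]; simp⟩, fun g hg e => ⟨g9.nU g hg, g, cen v hv v1 g hg e, by simp⟩⟩
  intro g hg
  obtain ⟨k, hk, e⟩ := (c1 g hg).2
  exact (mul_mem_cancel_left (c2 N g9.UH (fun v hv v1 k hk => cen v hv v1 k (YL hk)) hk)).1 e

/-- conjugating a reflection into `D` -/
theorem refl_cj {d c : D3} (hd : Ce (δ d) ≤ N) {u : X3} (u0 : u ≠ 0) (du : sn d u = u)
    (hc : c ≠ oo) {n : G} (e : n * δ d * n⁻¹ = δ c) : n ∈ N := by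
  obtain ⟨v, v0, cv⟩ := (by decide : ∀ c, c ≠ oo → ∃ v, v ≠ 0 ∧ sn c v = v) c hc
  obtain ⟨k, hk, e'⟩ := h.fus (h.wc dec) u0 v0 (h.fix.2 du).symm (h.fix.2 cv).symm
    (fun n hn _ ⟨_, e⟩ => h.thr dec hn e) e
  have e1 : δ c = k * n * δ d * (k * n)⁻¹ := by
    rw [mul_inv_rev, ← mul_assoc, mul_assoc k n, mul_assoc k, e, hk, mul_inv_cancel_right]
  have : (k * n)⁻¹ * k * (k * n) ∈ N := hd (mem_Ce.2 (by
    have : δ d = (k * n)⁻¹ * δ c * (k * n) := by rw [e1]; group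
    rw [this]
    calc _ = (k * n)⁻¹ * (k * δ c) * (k * n) := by group
      _ = _ := by rw [hk]; group))
  rw [mul_mem_cancel_right e', mul_mem_cancel_left (inv_mem e')] at this
  exact (mul_mem_cancel_left this).1 e'

theorem nD {n : G} (e : ∀ d, ∃ c, n * δ d * n⁻¹ = δ c) : ∃ d, n = δ d := by
  have hn : n ∈ N := by
    obtain ⟨c1, e1⟩ := e (1, 0, 0)
    obtain ⟨c2, e2⟩ := e (0, 1, 0)
    by_cases c : c1 = oo
    · refine h.refl_cj dec (h.refl dec (d1 := (1, 0, 0)) (d2 := (0, 0, 1)) (w := (1, 0, 0))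
        (y := (0, 0, 1)) (by decide) (by decide) (by decide) (by decide) (by decide) (by decide)
        (by decide) (by decide) (by decide) (by decide)) (u := (1, 0, 0)) (by decide) (by decide)
        (fun c' => ?_) e2
      rw [c', ← c, ← e1, mul_left_inj, mul_right_inj] at e2
      exact absurd (h.δinj (d := (0, 1, 0) + (1, 0, 0)) (by rw [h.δm, e2, h.δ2])) (by decide)
    · exact h.refl_cj dec (h.refl dec (d1 := (0, 1, 0)) (d2 := (0, 0, 1)) (w := (0, 1, 0))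
        (y := (0, 0, 1)) (by decide) (by decide) (by decide) (by decide) (by decide) (by decide)
        (by decide) (by decide) (by decide) (by decide)) (u := (0, 1, 0)) (by decide) (by decide)
        c e1
  obtain ⟨x, d, rfl⟩ := dec n hn
  obtain ⟨c, e⟩ := e oo
  have e1 : p (x + -sn oo x) = δ (c + oo) := by
    rw [h.δm, ← e, h.add, h.neg, ← h.act, mul_assoc (p x), mul_assoc (p x), h.δc d, h.δi oo,
      mul_inv_rev, mul_inv_rev, h.δi oo]
    group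
  have := h.inj _ (one_of_23 (by rw [e1, h.δ2]) (h.cube _))
  refine ⟨d, ?_⟩
  rw [(by decide : ∀ x, x + -sn oo x = 0 → x = 0) x this, h.p0, one_mul]

end P27

theorem P27.n3a (h : P27 p δ N) (dec : ∀ g ∈ N, ∃ u d, g = p u * δ d) : N = ⊤ := by
  let D : Subgroup G :=
    { carrier := Set.range δ
      mul_mem' := by
        rintro _ _ ⟨c, rfl⟩ ⟨d, rfl⟩
        exact ⟨_, h.δm c d⟩
      one_mem' := ⟨0, h.δ0⟩
      inv_mem' := by
        rintro _ ⟨c, rfl⟩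
        exact ⟨c, (h.δi c).symm⟩ }
  have nD : 𝐍(D) ≤ D := fun n hn => by
    obtain ⟨d, rfl⟩ := h.nD dec (n := n) fun d => by
      obtain ⟨c, e⟩ := conj_mem hn (x := δ d) ⟨d, rfl⟩
      exact ⟨c, e.symm⟩
    exact ⟨d, rfl⟩
  have D2 : IsPGroup 2 D := isPGroup_iff_mem.2 (by
    rintro _ ⟨d, rfl⟩
    exact ⟨1, by rw [pow_one, sq, h.δ2]⟩)
  obtain ⟨S, hS⟩ := D2.exists_le_sylow
  have eS : D = S := hS.eq_or_lt.resolve_right fun l =>
    (lt_inf_normalizer_of_lt S.isPGroup' l).not_ge (inf_le_right.trans nD)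
  have bu := H4.hasNormalPComplement_of_normalizer_le_centralizer S (by
    rw [show (S : Set G) = D from congrArg SetLike.coe eS.symm]
    intro n hn
    obtain ⟨d, rfl⟩ := nD hn
    rintro _ ⟨c, rfl⟩
    exact h.δc c d)
  have mO := fun x => H4.mem_pResidual_iff_of_hasNormalPComplement bu (x := x)
  obtain ⟨P, hP⟩ := h.exists_C 1
  have P3 : ∀ a ∈ P, a ^ 3 = 1 := fun a ha => by
    obtain ⟨y, rfl⟩ := ((hP a).1 ha).1
    exact h.cube y
  have Pc : ∀ a ∈ P, ∀ b ∈ P, a * b = b * a := fun a ha b hb => by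
    obtain ⟨x, rfl⟩ := ((hP a).1 ha).1
    obtain ⟨y, rfl⟩ := ((hP b).1 hb).1
    exact h.comm x y
  have mP : ∀ x, p x ∈ P := fun x => (hP _).2 ⟨⟨x, rfl⟩, by simp⟩
  have PO : P ≤ Cfsg.pResidual 2 G := fun a ha => (mO a).2
    (Nat.Coprime.coprime_dvd_left (orderOf_dvd_of_pow_eq_one (P3 a ha)) (by norm_num))
  have YN : O3' (Cfsg.pResidual 2 G) ≤ N := H2.le_of_forall_centralizer_le (A := P)
    ⟨⟨fun a b => Subtype.ext (Pc _ a.2 _ b.2)⟩⟩ (fun ⟨⟨a, ha⟩⟩ => by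
      obtain ⟨x, ex⟩ := ((hP _).1 a.2).1
      have : ∀ y, ∃ i : Fin 3, y = i.val • x := fun y => by
        obtain ⟨i, hi⟩ := mem_powers_iff_mem_zpowers.2 (ha ⟨_, mP y⟩)
        refine ⟨⟨i % 3, Nat.mod_lt _ (by omega)⟩, h.inj' ?_⟩
        rw [h.nsm, ← pow_eq_pow_mod _ (h.cube x), ← ex]
        exact (congrArg Subtype.val hi).symm
      exact (by decide : ∀ x : X3, ¬ ∀ y, ∃ i : Fin 3, y = i.val • x) x this)
    (fun a ha => mem_norm fun x hx => O3'_norm (fun y hy => mul_mem (mul_mem (PO ha) hy)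
      (inv_mem (PO ha))) hx)
    (H1.coprime_card_of_isPGroup_of_coprime (p := 3) (pg3 (n := 1) P3) (O3'_cop _))
    fun a ha a1 g hg => by
      obtain ⟨x, rfl⟩ := ((hP a).1 ha).1
      exact h.cN x (fun e => a1 (by rw [e, h.p0])) g (mem_centralizer_singleton_iff.1 hg.2)
  have ON : Cfsg.pResidual 2 G ≤ N := fun g hg => by
    obtain ⟨u, hu, e⟩ := bur (pg3 (n := 1) P3) PO (fun g hg e => by
      obtain ⟨x, d, rfl⟩ := dec g (h.nP g fun u => ((hP _).1 (e _ (mP u))).1)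
      have := (mO _).1 ((mul_mem_cancel_left (PO (mP x))).1 hg)
      rw [orderOf_eq_one_iff.1 (Nat.Coprime.eq_one_of_dvd this
        (orderOf_dvd_of_pow_eq_one (by rw [sq, h.δ2]))), mul_one]
      exact mP x) Pc hg
    obtain ⟨x, ex⟩ := ((hP _).1 e).1
    exact (mul_mem_cancel_left (inv_mem (YN hu))).1 (ex ▸ h.pN x)
  refine top_le_iff.1 ((H4.isComplement'_pResidual bu S).sup_eq_top.ge.trans (sup_le ON ?_))
  rw [← eS]
  rintro _ ⟨d, rfl⟩
  exact h.δN d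

end H12.O83
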