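import Cfsg.Agent.Lib.O83.N3a

/-! Normalizer `S₃ ≀ S₃` (package N3B). -/

set_option autoImplicit false
set_option linter.unusedSectionVars false
set_option synthInstance.maxSize 4000
set_option synthInstance.maxHeartbeats 200000

namespace H12.O83

open Subgroup H20.L43 H69

variable {G : Type*} [Group G] [Finite G]

variable {p : X3 → G} {δ : D3 → G} {N : Subgroup G}

namespace N3b

open H87.U6 (G9 Con)
open H53.Odd (f9 V9)

/-- signed permutations -/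
abbrev Lm := D3 × ZMod 3 × ZMod 2

def ro {α : Type} (u : α × α × α) : α × α × α := (u.2.1, u.2.2, u.1)
def sw {α : Type} (u : α × α × α) : α × α × α := (u.1, u.2.2, u.2.1)
def pm {α : Type} (m : Lm) (u : α × α × α) : α × α × α := ro^[m.2.1.val] (sw^[m.2.2.val] u)
def ac (m : Lm) (x : X3) : X3 := sn m.1 (pm m x)
def mm (m n : Lm) : Lm :=
  (m.1 + pm m n.1, m.2.1 + (if m.2.2 = 0 then n.2.1 else -n.2.1), m.2.2 + n.2.2)
def el (δ : D3 → G) (ω v : G) (m : Lm) : G := δ m.1 * ω ^ m.2.1.val * v ^ m.2.2.val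

/-- the group generated by an involution -/
def U2 (c : G) (hc : c * c = 1) : Subgroup G where
  carrier := {x | x = 1 ∨ x = c}
  one_mem' := Or.inl rfl
  mul_mem' := by rintro _ _ (rfl | rfl) (h | h) <;> simp [h, hc]
  inv_mem' := by
    rintro _ (rfl | rfl)
    · simp
    · exact Or.inr (inv_eq_of_mul_eq_one_right hc)

structure S (p : X3 → G) (δ : D3 → G) (N : Subgroup G) (ω v : G) : Prop extends P27 p δ N where
  ω3 : ω ^ 3 = 1
  v2 : v * v = 1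
  vω : v * ω * v⁻¹ = ω⁻¹
  ωp : ∀ u, ω * p u * ω⁻¹ = p (ro u)
  vp : ∀ u, v * p u * v⁻¹ = p (sw u)
  ωδ : ∀ d, ω * δ d * ω⁻¹ = δ (ro d)
  vδ : ∀ d, v * δ d * v⁻¹ = δ (sw d)
  ωN : ω ∈ N
  vN : v ∈ N
  dec : ∀ g ∈ N, ∃ u d, ∃ a b : ℕ, g = p u * δ d * ω ^ a * v ^ b

theorem eqns_n3b : True := by
  have := @ro.eq_1
  have := @sw.eq_1
  have := @pm.eq_1
  have := @ac.eq_1
  have := @mm.eq_1
  have := @el.eq_1.{0}
  have := @U2.eq_1.{0}
  have := @Lm.eq_1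
  trivial

theorem pow_cj {α : Type} {q : α → G} {r : α → α} {w : G} (h : ∀ u, w * q u * w⁻¹ = q (r u))
    (n : ℕ) (u : α) : w ^ n * q u * (w ^ n)⁻¹ = q (r^[n] u) := by
  induction n generalizing u with
  | zero => simp
  | succ n ih => rw [Function.iterate_succ_apply, ← ih, ← h]; group

theorem cmod {c x y : G} {hc : c * c = 1} (hx : x ^ 3 = 1) (hy : y ^ 3 = 1) (e : y * c = c * y)
    (h : y⁻¹ * x ∈ U2 c hc) : x = y := by
  rcases h with h | h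
  · exact (inv_mul_eq_one.1 h).symm
  · have h1 : x = y * c := by rw [← h, mul_inv_cancel_left]
    rw [h1, (show Commute y c from e).mul_pow, hy, one_mul, pow_succ, sq, hc, one_mul] at hx
    rw [h1, hx, mul_one]

theorem cmod' {c g y : G} {hc : c * c = 1} (hy : y ^ 3 = 1) (e : y * c = c * y)
    (h : g * y * g⁻¹ * y⁻¹ ∈ U2 c hc) : g * y = y * g := by
  refine mul_inv_eq_iff_eq_mul.1 (cmod (hc := hc) (by rw [conj_pow, hy]; simp) hy e ?_)
  rcases h with h | h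
  · exact Or.inl (by rw [mul_inv_eq_one.1 h, inv_mul_cancel])
  · exact Or.inr (by rw [mul_inv_eq_iff_eq_mul.1 h, ← e, inv_mul_cancel_left])

theorem faith : ∀ m n : Lm, ac m (1, 0, 0) = ac n (1, 0, 0) → ac m (0, 1, 0) = ac n (0, 1, 0) →
    ac m (0, 0, 1) = ac n (0, 0, 1) → m = n := by decide +kernel

theorem cube : ∀ m : Lm, mm (mm m m) m = 0 → m.2.2 = 0 ∧ (m.2.1 = 0 → m = 0) := by decide +kernel

theorem fix1 : ∀ m : Lm, m.2.2 = 0 → m.2.1 ≠ 0 → ∀ x, ac m x = x → ∀ y, ac m y = y →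
    x = 0 ∨ y = 0 ∨ x = y ∨ x + y = 0 := by decide +kernel

theorem ker2 : ∀ s t r : ZMod 3, ∃ x y : X3, x.1 * s + x.2.1 * t + x.2.2 * r = 0 ∧
    y.1 * s + y.2.1 * t + y.2.2 * r = 0 ∧ x ≠ 0 ∧ y ≠ 0 ∧ x ≠ y ∧ x + y ≠ 0 := by decide +kernel

namespace S

variable {ω v : G} (h : S p δ N ω v)
include h

theorem p0 : p 0 = 1 := by simpa using h.add 0 0

theorem δ0 : δ 0 = 1 := by simpa using h.δm 0 0

theorem pc (x y : X3) : p x * p y = p y * p x := by rw [← h.add, ← h.add, add_comm]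

theorem ppow (x : X3) (n : ℕ) : p x ^ n = p (n • x) := by
  induction n with
  | zero => simp [h.p0]
  | succ n ih => rw [pow_succ, ih, succ_nsmul, h.add]

theorem p3 (x : X3) : p x ^ 3 = 1 := by
  rw [h.ppow, (by decide : ∀ x : X3, 3 • x = 0), h.p0]

theorem pinj {x y : X3} (e : p x = p y) : x = y :=
  sub_eq_zero.1 (h.inj _ (mul_right_cancel (b := p y) (by rw [← h.add, sub_add_cancel, one_mul, e])))

theorem pf9 (x y : X3) (u : V9) : f9 (p x) (p y) u = p (u.1 • x + u.2 • y) := by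
  rw [f9, h.ppow, h.ppow, ← h.add, ← Nat.cast_smul_eq_nsmul (ZMod 3), ← Nat.cast_smul_eq_nsmul (ZMod 3),
    ZMod.natCast_zmod_val, ZMod.natCast_zmod_val]

theorem el0 : el δ ω v 0 = 1 := by simp [el, h.δ0]

theorem elδ (d : D3) : el δ ω v (d, 0, 0) = δ d := by simp [el]

theorem elv : el δ ω v (0, 0, 1) = v := by simp [el, h.δ0, ZMod.val_one]

theorem elN (m : Lm) : el δ ω v m ∈ N :=
  mul_mem (mul_mem (h.δN _) (pow_mem h.ωN _)) (pow_mem h.vN _)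

theorem el_act (m : Lm) (x : X3) : el δ ω v m * p x * (el δ ω v m)⁻¹ = p (ac m x) := by
  rw [ac, pm, ← h.act, ← pow_cj h.ωp, ← pow_cj h.vp, el]
  group

theorem el_mul (m n : Lm) : el δ ω v m * el δ ω v n = el δ ω v (mm m n) := by
  have a : ∀ i j : ZMod 3, ω ^ (i + j).val = ω ^ i.val * ω ^ j.val := fun i j => by
    rw [ZMod.val_add, ← pow_add, ← pow_eq_pow_mod _ h.ω3]
  have b : ∀ i j : ZMod 2, v ^ (i + j).val = v ^ i.val * v ^ j.val := fun i j => by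
    rw [ZMod.val_add, ← pow_add, ← pow_eq_pow_mod _ ((sq v).trans h.v2)]
  have c : ∀ (j : ZMod 2) (i : ZMod 3),
      ω ^ (if j = 0 then i else -i).val = v ^ j.val * ω ^ i.val * (v ^ j.val)⁻¹ := fun j i => by
    rcases (by decide : ∀ j : ZMod 2, j = 0 ∨ j = 1) j with rfl | rfl
    · simp
    · rw [if_neg (by decide), ZMod.val_one, pow_one, ← conj_pow, h.vω, inv_pow, eq_inv_iff_mul_eq_one,
        ← a, neg_add_cancel, ZMod.val_zero, pow_zero]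
  simp only [el, mm, pm, h.δm, a, b, c, ← pow_cj h.ωδ, ← pow_cj h.vδ]
  group

theorem mul (x y : X3) (m n : Lm) :
    p x * el δ ω v m * (p y * el δ ω v n) = p (x + ac m y) * el δ ω v (mm m n) := by
  rw [h.add, ← h.el_act, ← h.el_mul]
  group

theorem cj (x y : X3) (m : Lm) :
    p x * el δ ω v m * p y * (p x * el δ ω v m)⁻¹ = p (ac m y) := by
  rw [eq_comm, eq_mul_inv_iff_mul_eq, ← mul_assoc, h.pc, ← h.el_act]
  group

theorem uniq {x y : X3} {m n : Lm} (e : p x * el δ ω v m = p y * el δ ω v n) : x = y ∧ m = n := by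
  have k : ∀ z, ac m z = ac n z := fun z => h.pinj (by rw [← h.cj x, ← h.cj y, e])
  obtain rfl := faith m n (k _) (k _) (k _)
  exact ⟨h.pinj (mul_right_cancel e), rfl⟩

theorem dec' {g : G} (hg : g ∈ N) : ∃ x m, g = p x * el δ ω v m := by
  obtain ⟨u, d, a, b, rfl⟩ := h.dec g hg
  refine ⟨u, (d, a, b), ?_⟩
  simp only [el, ZMod.val_natCast, ← pow_eq_pow_mod _ h.ω3, ← pow_eq_pow_mod _ ((sq v).trans h.v2),
    mul_assoc]

theorem rel {x : X3} {m a b : Lm}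
    (e : p x * el δ ω v m * el δ ω v a = el δ ω v b * (p x * el δ ω v m)) :
    ac b x = x ∧ mm m a = mm b m := by
  have := h.mul 0 x b m
  rw [h.p0, one_mul, ← e, zero_add, mul_assoc, h.el_mul] at this
  exact ⟨(h.uniq this).1.symm, (h.uniq this).2⟩

theorem wc (g : G) (hg : ∀ u, g * p u * g⁻¹ ∈ N) : g ∈ N := by
  choose x m e using fun u => h.dec' (hg u)
  have c3 : ∀ u, mm (mm (m u) (m u)) (m u) = 0 := fun u => by
    have : (g * p u * g⁻¹) ^ 3 = p 0 * el δ ω v 0 := by rw [conj_pow, h.p3, h.p0, h.el0]; simp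
    rw [e, pow_succ, sq, h.mul, h.mul] at this
    exact (h.uniq this).2
  have k : ∀ u, (m u).2.1 = 0 → g * p u * g⁻¹ = p (x u) := fun u hu => by
    rw [e, (cube _ (c3 u)).2 hu, h.el0, mul_one]
  by_cases h0 : ∀ u, (m u).2.1 = 0
  · exact h.nP g fun u => ⟨_, k u (h0 u)⟩
  exfalso
  obtain ⟨u0, h0⟩ := not_forall.1 h0
  have ha : ∀ u u', (m (u + u')).2.1 = (m u).2.1 + (m u').2.1 := fun u u' => by
    have := e (u + u')
    rw [h.add, ← conj_mul, e, e, h.mul] at this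
    rw [← (h.uniq this).2]
    simp [mm, (cube _ (c3 u)).1]
  have lin : ∀ u : X3, (m u).2.1 = u.1 * (m (1, 0, 0)).2.1 + u.2.1 * (m (0, 1, 0)).2.1 +
      u.2.2 * (m (0, 0, 1)).2.1 := fun u => by
    have := congrArg ((AddMonoidHom.mk' (fun u => (m u).2.1) ha).toZModLinearMap 3)
      (show u = u.1 • (1, 0, 0) + u.2.1 • (0, 1, 0) + u.2.2 • (0, 0, 1) by ext <;> simp)
    simp only [map_add, map_smul, smul_eq_mul] at this
    exact this
  obtain ⟨y, z, hy, hz, y0, z0, yz, yz'⟩ := ker2 (m (1, 0, 0)).2.1 (m (0, 1, 0)).2.1 (m (0, 0, 1)).2.1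
  have ky := k y ((lin y).trans hy)
  have kz := k z ((lin z).trans hz)
  have fx : ∀ {u}, g * p u * g⁻¹ = p (x u) → ac (m u0) (x u) = x u := fun {u} hu => h.pinj (by
    rw [← h.cj (x u0), ← e, ← hu, conj_mul, h.pc, ← conj_mul, mul_inv_cancel_right])
  rcases fix1 _ (cube _ (c3 u0)).1 h0 _ (fx ky) _ (fx kz) with q | q | q | q
  · exact y0 (h.inj _ (by rwa [q, h.p0, conj_eq_one_iff] at ky))
  · exact z0 (h.inj _ (by rwa [q, h.p0, conj_eq_one_iff] at kz))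
  · exact yz (h.pinj (by simpa [q, ← kz] using ky))
  · refine yz' (h.inj _ (conj_eq_one_iff.1 (?_ : g * _ * g⁻¹ = 1)))
    rw [h.add, ← conj_mul, ky, kz, ← h.add, q, h.p0]

theorem nrm {g : G} {x y : X3} (x0 : x ≠ 0) (e : g * p x * g⁻¹ = p y) : g ∈ N :=
  h.wc g fun u => h.cN y (fun y0 => x0 (h.inj _ (by rwa [y0, h.p0, conj_eq_one_iff] at e))) _
    (by rw [← e, conj_mul, conj_mul, h.pc])

theorem h3 {β : Lm} (hβ : ∀ m, mm m β = mm β m → mm (mm m m) (mm m m) = 0) (n : G) (hn : n ∈ N)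
    (e : n * el δ ω v β = el δ ω v β * n) (k : ∃ k, n ^ 3 ^ k = 1) : ∃ x, n = p x := by
  obtain ⟨k, hk⟩ := k
  obtain ⟨r, hr⟩ := exists_pow_eq_self_of_coprime (x := n) (n := 4)
    (Nat.Coprime.coprime_dvd_right (orderOf_dvd_of_pow_eq_one hk) (Nat.Coprime.pow_right _ (by norm_num)))
  obtain ⟨x, m, rfl⟩ := h.dec' hn
  rw [show 4 = 2 * 2 from rfl, pow_mul, sq, sq, h.mul, h.mul, hβ m (h.rel e).2, h.el0, mul_one,
    h.ppow] at hr
  exact ⟨_, hr.symm⟩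

theorem el_p {β : Lm} {x : X3} : p x * el δ ω v β = el δ ω v β * p x ↔ ac β x = x :=
  ⟨fun e => h.pinj (by rw [← h.el_act, ← e, mul_inv_cancel_right]),
    fun e => by rw [← mul_inv_eq_iff_eq_mul.1 ((h.el_act β x).trans (congrArg p e))]⟩

theorem sq1 {β : Lm} (e : mm β β = 0) : el δ ω v β * el δ ω v β = 1 := by rw [h.el_mul, e, h.el0]

theorem cm {m n : Lm} (e : mm m n = mm n m) : el δ ω v m * el δ ω v n = el δ ω v n * el δ ω v m := by
  rw [h.el_mul, h.el_mul, e]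

theorem ng {m : Lm} {x y : X3} (e : ac m x + y = 0) {U : Subgroup G} :
    el δ ω v m * p x * (el δ ω v m)⁻¹ * p y ∈ U := by
  rw [h.el_act, ← h.add, e, h.p0]; exact one_mem _

theorem ps {m : Lm} {x y : X3} (e : ac m x = y) {U : Subgroup G} :
    el δ ω v m * p x * (el δ ω v m)⁻¹ * (p y)⁻¹ ∈ U := by
  rw [h.el_act, e, mul_inv_cancel]; exact one_mem _

/-- the fixed points of `β` in `P` -/
def Af (β : Lm) : Subgroup G where
  carrier := {g | ∃ x, p x * el δ ω v β = el δ ω v β * p x ∧ g = p x}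
  one_mem' := ⟨0, by simp [h.p0], h.p0.symm⟩
  mul_mem' := by
    rintro _ _ ⟨x, hx, rfl⟩ ⟨y, hy, rfl⟩
    exact ⟨x + y, by rw [h.add, mul_assoc, hy, ← mul_assoc, hx, mul_assoc], (h.add x y).symm⟩
  inv_mem' := by
    rintro _ ⟨x, hx, rfl⟩
    have : (p x)⁻¹ = p (-x) := inv_eq_of_mul_eq_one_right (by rw [← h.add, add_neg_cancel, h.p0])
    exact ⟨-x, by rw [← this]; exact (show Commute _ _ from hx).inv_left, this⟩

omit h in
theorem eqns_af : True := by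
  have := @Af.eq_1.{0}
  trivial

theorem hv {β : Lm} (b2 : mm β β = 0) : ∀ a ∈ h.Af β, a ∉ U2 _ (h.sq1 b2) → ∀ g,
    g * a * g⁻¹ * a⁻¹ ∈ U2 _ (h.sq1 b2) → g ∈ N := by
  rintro _ ⟨x, hx, rfl⟩ n g e
  exact h.cN x (fun x0 => n (Or.inl (by rw [x0, h.p0]))) g (cmod' (h.p3 x) hx e)

theorem g9 {β : Lm} (b2 : mm β β = 0) (b0 : β ≠ 0)
    (hβ : ∀ m, mm m β = mm β m → mm (mm m m) (mm m m) = 0) {w y : X3} (hw : ac β w = w)
    (hy : ac β y = y) (sp : ∀ x, ac β x = x → ∃ u : V9, x = u.1 • w + u.2 • y)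
    (ind : ∀ u : V9, u.1 • w + u.2 • y = 0 → u = 0) :
    G9 (Ce (el δ ω v β)) (U2 _ (h.sq1 b2)) (h.Af β) N (p w) (p y) := by
  have w0 : w ≠ 0 := fun e => absurd (ind (1, 0) (by simp [e])) (by decide)
  have mw : p w ∈ h.Af β := ⟨w, h.el_p.2 hw, rfl⟩
  refine ⟨?_, ?_, ?_, ?_, ?_, fun g hg e k => ?_, mw, ⟨y, h.el_p.2 hy, rfl⟩, ?_, fun u e => ind u ?_,
    ?_, ?_, fun g hg e => ?_⟩
  · rintro _ (rfl | rfl)
    exacts [one_mem _, mem_Ce.2 rfl]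
  · rintro g hg _ (rfl | rfl)
    exacts [Or.inl (by simp), Or.inr (mul_inv_eq_iff_eq_mul.2 (mem_Ce.1 hg))]
  · rintro _ ⟨x, hx, rfl⟩
    exact mem_Ce.2 hx
  · rintro _ ⟨x, -, rfl⟩ _ ⟨y, -, rfl⟩
    exact h.pc x y
  · rintro _ ⟨x, -, rfl⟩
    exact h.p3 x
  · obtain ⟨x, -, e⟩ := e _ mw
    obtain ⟨z, rfl⟩ := h.h3 hβ g (h.nrm w0 e) (mem_Ce.1 hg) k
    exact ⟨z, mem_Ce.1 hg, rfl⟩
  · rintro _ ⟨x, hx, rfl⟩
    obtain ⟨u, rfl⟩ := sp x (h.el_p.1 hx)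
    exact ⟨u, Or.inl (by rw [h.pf9, inv_mul_cancel])⟩
  · rw [h.pf9] at e
    rcases e with e | e
    · exact h.inj _ e
    · exact absurd (h.uniq (x := 0) (y := u.1 • w + u.2 • y) (n := 0)
        (by rw [h.p0, h.el0, one_mul, mul_one, e])).2 b0
  · rintro _ (rfl | rfl)
    exacts [one_mem _, h.elN _]
  · rintro _ ⟨x, -, rfl⟩
    exact h.pN x
  · obtain ⟨_, ⟨x, hx, rfl⟩, e⟩ := e _ mw
    exact h.nrm w0 (cmod (by rw [conj_pow, h.p3]; simp) (h.p3 x) hx e)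

theorem cv {g : G} (e : g * v = v * g) : g ∈ N := by
  have b2 : mm (0, 0, 1) (0, 0, 1) = 0 := by decide
  have k := h.g9 b2 (by decide) (by decide +kernel) (w := (1, 0, 0)) (y := (0, 1, 1)) (by decide)
    (by decide) (by decide +kernel) (by decide +kernel)
  obtain ⟨Y, -, -, -, h1, h2⟩ := k.nine (σ := el δ ω v ((1, 0, 0), 0, 0))
    (τ := el δ ω v ((0, 1, 1), 0, 0)) (mem_Ce.2 (h.cm (by decide))) (mem_Ce.2 (h.cm (by decide)))
    (h.elN _) (h.elN _) (Or.inl (h.sq1 (by decide))) (Or.inl (h.sq1 (by decide)))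
    (Or.inl (by rw [h.cm (by decide)]; simp)) (h.ng (by decide)) (h.ps (by decide)) (h.ps (by decide))
    (h.ng (by decide)) (fun g hg hL => by
      obtain ⟨x, m, rfl⟩ := h.dec' hg
      obtain ⟨a, b⟩ := h.rel (mem_Ce.1 hL)
      refine ⟨p x, ⟨x, h.el_p.2 a, rfl⟩, m.1.1.val, m.1.2.1.val, ?_⟩
      have r : ∀ d : D3, ∀ i : ZMod 2, el δ ω v (d, 0, 0) ^ i.val = el δ ω v (i • d, 0, 0) := fun d i => by
        rcases (by decide : ∀ j : ZMod 2, j = 0 ∨ j = 1) i with rfl | rfl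
        · simp [h.elδ, h.δ0]
        · simp [ZMod.val_one]
      rw [r, r, h.el_mul, mul_inv_rev, mul_assoc, inv_mul_cancel_left]
      rcases (by decide +kernel : ∀ m : Lm, mm m (0, 0, 1) = mm (0, 0, 1) m →
        m = mm (m.1.1 • (1, 0, 0), 0, 0) (m.1.2.1 • (0, 1, 1), 0, 0) ∨
        m = mm (mm (m.1.1 • (1, 0, 0), 0, 0) (m.1.2.1 • (0, 1, 1), 0, 0)) (0, 0, 1)) m b with q | q
      · exact Or.inl (by rw [← q, inv_mul_cancel])
      · exact Or.inr (by rw [inv_mul_eq_iff_eq_mul, h.el_mul, ← q]))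
    (fun g _ e => h.hv b2 _ k.hw (fun q => absurd (k.inj (1, 0) (by rwa [H53.Odd.f9_10])) (by decide))
      g e)
    (fun a ha n => ⟨_, k.UL, le_rfl, fun o ho => ⟨pow_mem ho 4, by
      rw [mul_assoc, mul_assoc, ← mul_assoc a]
      simpa using mul_mem ho (k.nU a (k.le ha) _ (inv_mem ho))⟩,
      fun g hg e => ⟨k.nU g hg, g, h.hv b2 a ha n g e, by simp⟩⟩)
  obtain ⟨y, hy, q⟩ := (h1 g (mem_Ce.2 (by rwa [h.elv]))).2
  exact (Subgroup.mul_mem_cancel_left _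
    (h2 N k.UH (fun a ha n g _ e => h.hv b2 a ha n g e) hy)).1 q

theorem cd1 {g : G} (e : g * δ (1, 0, 0) = δ (1, 0, 0) * g) : g ∈ N := by
  have b2 : mm ((1, 0, 0), 0, 0) ((1, 0, 0), 0, 0) = 0 := by decide
  have k := h.g9 b2 (by decide) (by decide +kernel) (w := (0, 1, 1)) (y := (0, 1, -1)) (by decide)
    (by decide) (by decide +kernel) (by decide +kernel)
  rcases k.eight (σ := el δ ω v ((0, 1, 1), 0, 1)) (ρ := el δ ω v ((0, 0, 1), 0, 1))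
    (mem_Ce.2 (h.cm (by decide))) (mem_Ce.2 (h.cm (by decide))) (h.ng (by decide)) (h.ps (by decide))
    (h.ps (by decide)) (h.ng (by decide)) (fun g hg hL => by
      have q := mem_Ce.1 hL
      obtain ⟨x, m, rfl⟩ := h.dec' hg
      refine ⟨?_, ?_⟩
      · rintro _ ⟨y, hy, rfl⟩
        refine ⟨_, ⟨ac m y, ?_, rfl⟩, Or.inl (by rw [h.cj, inv_mul_cancel])⟩
        rw [← h.cj x]
        exact (((show Commute _ _ from q).mul_left hy).mul_left (show Commute _ _ from q).inv_left).eq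
      · obtain ⟨u, hu, r⟩ := (by decide +kernel : ∀ m : Lm, mm m ((1, 0, 0), 0, 0) = mm ((1, 0, 0), 0, 0) m →
          ∃ u : V9, (u.1 = 0 ∨ u.2 = 0) ∧ ac m (0, 1, 1) = u.1 • (0, 1, 1) + u.2 • (0, 1, -1)) m (h.rel q).2
        exact ⟨u, hu, Or.inl (by rw [h.pf9, h.cj, r, inv_mul_cancel])⟩)
    (fun g hL e1 e2 => by
      have e1 := cmod' (h.p3 _) (mem_Ce.1 (k.le k.hw)) e1
      have e2 := cmod' (h.p3 _) (mem_Ce.1 (k.le k.hy)) e2
      obtain ⟨x, m, rfl⟩ := h.dec' (h.cN _ (by decide) g e1)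
      refine ⟨p x, ⟨x, h.el_p.2 (h.rel (mem_Ce.1 hL)).1, rfl⟩, ?_⟩
      rw [inv_mul_cancel_left]
      rcases (by decide +kernel : ∀ m : Lm, ac m (0, 1, 1) = (0, 1, 1) → ac m (0, 1, -1) = (0, 1, -1) →
        m = 0 ∨ m = ((1, 0, 0), 0, 0)) m (h.pinj (by rw [← h.cj x, e1, mul_inv_cancel_right]))
        (h.pinj (by rw [← h.cj x, e2, mul_inv_cancel_right])) with rfl | rfl
      exacts [Or.inl h.el0, Or.inr rfl])
    (fun a ha n g _ e => h.hv b2 a ha n g e) with q | ⟨-, q⟩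
  · exact q (mem_Ce.2 (by rwa [h.elδ]))
  exfalso
  obtain ⟨m, mL, mN, -, -, -, -, q⟩ := q (el δ ω v ((0, 1, 1), 0, 1)) (mem_Ce.2 (h.cm (by decide)))
    (el δ ω v (0, 0, 1)) (mem_Ce.2 (h.cm (by decide))) (Or.inl (h.sq1 (by decide)))
    (Or.inl (h.sq1 (by decide))) (Or.inl (by rw [h.cm (by decide)]; simp)) (h.ng (by decide))
    (h.ps (by decide)) (h.ps (by decide)) (h.ng (by decide))
  rcases ((q m mL).2 ⟨0, 0, 1, Or.inl (by simp)⟩).2 with r | r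
  · exact mN (h.cv (by rwa [h.elv, mul_inv_eq_one, mul_inv_eq_iff_eq_mul] at r))
  rw [mul_inv_eq_iff_eq_mul, h.el_mul] at r
  obtain ⟨c, c1, c2⟩ := h.toP27.fus h.wc (u := (0, 1, 1)) (v := (0, 1, 1)) (by decide) (by decide)
    (h.el_p.2 (by decide)).symm (h.el_p.2 (by decide)).symm (h.h3 (by decide +kernel)) r
  have : c * m * el δ ω v (0, 0, 1) = el δ ω v (mm ((1, 0, 0), 0, 0) (0, 0, 1)) * (c * m) := by
    rw [← mul_assoc, ← c1, ← r]; group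
  obtain ⟨x, n, e⟩ := h.dec' c2
  rw [e] at this
  exact (by decide +kernel : ∀ n : Lm, mm n (0, 0, 1) ≠ mm (mm ((1, 0, 0), 0, 0) (0, 0, 1)) n) n
    (h.rel this).2

theorem cd2 {g : G} (e : g * δ (0, 1, 0) = δ (0, 1, 0) * g) : g ∈ N := by
  have := h.cd1 (g := ω * g * ω⁻¹) (by
    rw [show ((1, 0, 0) : D3) = ro (0, 1, 0) from rfl, ← h.ωδ, conj_mul, conj_mul, e])
  simpa [mul_assoc] using mul_mem (mul_mem (inv_mem h.ωN) this) h.ωN

theorem main {g : G}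
    (hg : ∀ d, ∀ b : ℕ, ∃ d', ∃ b' : ℕ, g * (δ d * v ^ b) * g⁻¹ = δ d' * v ^ b') : g ∈ N := by
  have t : ∀ d (b : ℕ), δ d * v ^ b = el δ ω v (d, 0, b) := fun d b => by
    simp [el, ← pow_eq_pow_mod _ ((sq v).trans h.v2)]
  have u0 : ∀ {m n}, el δ ω v m = el δ ω v n → m = n := fun e => (h.uniq (congrArg (p 0 * ·) e)).2
  obtain ⟨d, b, e⟩ := hg (0, 1, 0) 0
  obtain ⟨d', b', e'⟩ := hg 0 1
  rw [t d, pow_zero, mul_one] at e
  rw [t d', h.δ0, pow_one, one_mul] at e'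
  have s2 : δ (0, 1, 0) * δ (0, 1, 0) = 1 := by rw [← h.δm, ← h.δ0]; rfl
  obtain ⟨x, x0, hx, hβ⟩ := (by decide +kernel : ∀ (d : D3) (b : ZMod 2), mm (d, 0, b) (d, 0, b) = 0 →
      (d, 0, b) ≠ (0 : Lm) → (∃ d' b', mm (d, 0, b) (d', 0, b') ≠ mm (d', 0, b') (d, 0, b)) →
      ∃ x, x ≠ 0 ∧ ac (d, 0, b) x = x ∧
        ∀ m, mm m (d, 0, b) = mm (d, 0, b) m → mm (mm m m) (mm m m) = 0) d b
    (u0 (by rw [← h.el_mul, ← e, conj_mul, s2, h.el0]; simp))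
    (fun q => by
      rw [q, h.el0, conj_eq_one_iff, ← h.elδ, ← h.el0] at e
      exact absurd (u0 e) (by decide))
    ⟨d', b', fun q => by
      have := h.cm q
      rw [← e, ← e', conj_mul, conj_mul, mul_left_inj, mul_right_inj] at this
      exact absurd (u0 (m := mm ((0, 1, 0), 0, 0) (0, 0, 1)) (n := mm (0, 0, 1) ((0, 1, 0), 0, 0))
        (by rw [← h.el_mul, ← h.el_mul, h.elδ, h.elv, this])) (by decide)⟩
  obtain ⟨c, c1, c2⟩ := h.toP27.fus h.wc (u := (1, 0, 0)) (by decide) x0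
    (by rw [← h.elδ]; exact (h.el_p.2 (by decide)).symm) (h.el_p.2 hx).symm (h.h3 hβ) e
  have := h.cd2 (g := (c * g)⁻¹ * c * (c * g)) (by
    have k : δ (0, 1, 0) = (c * g)⁻¹ * el δ ω v (d, 0, b) * (c * g) := by
      rw [← mul_inv_eq_iff_eq_mul.2 c1, ← e]; group
    rw [k]
    calc _ = (c * g)⁻¹ * (c * el δ ω v (d, 0, b)) * (c * g) := by group
      _ = _ := by rw [c1]; group)
  have cN : c ∈ N := by simpa [mul_assoc] using mul_mem (mul_mem c2 this) (inv_mem c2)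
  exact (Subgroup.mul_mem_cancel_left _ cN).1 c2

end S

end N3b

theorem P27.n3b (h : P27 p δ N) {ω v : G} (ω3 : ω ^ 3 = 1) (v2 : v * v = 1)
    (vω : v * ω * v⁻¹ = ω⁻¹) (ωp : ∀ u, ω * p u * ω⁻¹ = p (u.2.1, u.2.2, u.1))
    (vp : ∀ u, v * p u * v⁻¹ = p (u.1, u.2.2, u.2.1))
    (ωδ : ∀ d, ω * δ d * ω⁻¹ = δ (d.2.1, d.2.2, d.1))
    (vδ : ∀ d, v * δ d * v⁻¹ = δ (d.1, d.2.2, d.2.1)) (ωN : ω ∈ N) (vN : v ∈ N)
    (dec : ∀ g ∈ N, ∃ u d, ∃ a b : ℕ, g = p u * δ d * ω ^ a * v ^ b) {g : G}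
    (hg : ∀ d, ∀ b : ℕ, ∃ d', ∃ b' : ℕ, g * (δ d * v ^ b) * g⁻¹ = δ d' * v ^ b') : g ∈ N :=
  N3b.S.main ⟨h, ω3, v2, vω, ωp, vp, ωδ, vδ, ωN, vN, dec⟩ hg

end H12.O83
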