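import Cfsg.Agent.Lib.O83.Bas
import Cfsg.Agent.Lib.O83.N3b
import Cfsg.Agent.Lib.Odd.T3

/-! The normalizer of `E` modulo `E` (package N3W). -/

set_option autoImplicit false
set_option linter.unusedSectionVars false
set_option synthInstance.maxSize 4000
set_option synthInstance.maxHeartbeats 400000

namespace H12.O83

open Subgroup H20.L43 H69

namespace NW

universe u

/-- `π` is the projection `X → X / E` -/
structure Pj {G Q : Type*} [Group G] [Group Q] (X E : Subgroup G) (π : G → Q) : Prop where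
  mul : ∀ {a b}, a ∈ X → b ∈ X → π (a * b) = π a * π b
  ker : ∀ {a}, a ∈ X → (π a = 1 ↔ a ∈ E)
  surj : ∀ γ, ∃ a ∈ X, π a = γ

theorem exists_pj {G : Type u} [Group G] [Finite G] {X E : Subgroup G} (hN : X ≤ 𝐍(E)) :
    ∃ (Q : Type u) (_ : Group Q) (_ : Finite Q) (π : G → Q), Pj X E π := by
  classical
  have : (E.subgroupOf X).Normal := ⟨fun a ha g => conj_mem (R := E) (hN g.2) ha⟩
  refine ⟨X ⧸ E.subgroupOf X, inferInstance, inferInstance,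
    fun g => if hg : g ∈ X then QuotientGroup.mk ⟨g, hg⟩ else 1, fun {a b} ha hb => ?_, fun {a} ha => ?_,
    fun γ => ?_⟩
  · simp only [dif_pos ha, dif_pos hb, dif_pos (mul_mem ha hb)]; rfl
  · simp only [dif_pos ha, QuotientGroup.eq_one_iff]; rfl
  · obtain ⟨⟨a, ha⟩, rfl⟩ := QuotientGroup.mk_surjective γ
    exact ⟨a, ha, dif_pos ha⟩

namespace Pj

variable {G Q : Type*} [Group G] [Group Q] {X E : Subgroup G} {π : G → Q} (P : Pj X E π) {a b : G}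
include P

theorem one : π 1 = 1 := (P.ker (one_mem _)).2 (one_mem _)

theorem inv (ha : a ∈ X) : π a⁻¹ = (π a)⁻¹ :=
  eq_inv_of_mul_eq_one_left (by rw [← P.mul (inv_mem ha) ha, inv_mul_cancel, P.one])

theorem pow (ha : a ∈ X) (n : ℕ) : π (a ^ n) = π a ^ n := by
  induction n with
  | zero => simp [P.one]
  | succ n ih => rw [pow_succ, P.mul (pow_mem ha n) ha, ih, pow_succ]

theorem cj (ha : a ∈ X) (hb : b ∈ X) : π (a * b * a⁻¹) = π a * π b * (π a)⁻¹ := by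
  rw [P.mul (mul_mem ha hb) (inv_mem ha), P.mul ha hb, P.inv ha]

theorem eq (ha : a ∈ X) (hb : b ∈ X) : π a = π b ↔ a * b⁻¹ ∈ E := by
  rw [← P.ker (mul_mem ha (inv_mem hb)), P.mul ha (inv_mem hb), P.inv hb, mul_inv_eq_one]

end Pj

/-- coordinates on the fixed space of `mT` -/
def xv (u : X3) : V4 := (-u.1, -u.1, u.2.1 + u.2.2, u.2.1 - u.2.2)

theorem eqs : True := (fun _ => trivial) xv.eq_1

theorem xv_add (u v : X3) : xv (u + v) = xv u + xv v := by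
  simp only [xv, Prod.fst_add, Prod.snd_add, Prod.mk_add_mk, Prod.mk.injEq]
  refine ⟨?_, ?_, ?_, ?_⟩ <;> ring

theorem xv_T : ∀ u, mv mT (xv u) = xv u := by decide +kernel
theorem xv_0 : ∀ u, xv u = 0 → u = 0 := by decide +kernel
theorem xv_ex : ∀ x, mv mT x = x → ∃ u, x = xv u := by decide +kernel
theorem xv_dm : ∀ d u, mv (dm d) (xv u) = xv (sn d u) := by decide +kernel
theorem xv_O : ∀ u, mv mO (xv u) = xv (u.2.1, u.2.2, u.1) := by decide +kernel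
theorem xv_u : ∀ u, mv u4 (xv u) = xv (u.1, u.2.2, u.2.1) := by decide +kernel
theorem dm_T : ∀ d, dm d * mT = mT * dm d := by decide +kernel
theorem dm_O : ∀ d, mO * dm d * tr mO = dm (d.2.1, d.2.2, d.1) := by decide +kernel
theorem dm_u : ∀ d, u4 * dm d * tr u4 = dm (d.1, d.2.2, d.2.1) := by decide +kernel

theorem cT0 (M : M4) (h : Orth M) : M * mT = mT * M → sg M = 1 → rt M = 0 →
    ∃ d, M = dm d ∨ M = mT * dm d :=
  forall_orth (P := fun M => M * mT = mT * M → sg M = 1 → rt M = 0 → ∃ d, M = dm d ∨ M = mT * dm d)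
    (by decide +kernel) M h

theorem cT (M : M4) (h : Orth M) : M * mT = mT * M → ∃ d, ∃ a : Fin 3, ∃ b : Fin 2,
    M = dm d * mO ^ a.val * u4 ^ b.val ∨ M = mT * (dm d * mO ^ a.val * u4 ^ b.val) :=
  forall_orth (P := fun M => M * mT = mT * M → ∃ d, ∃ a : Fin 3, ∃ b : Fin 2,
    M = dm d * mO ^ a.val * u4 ^ b.val ∨ M = mT * (dm d * mO ^ a.val * u4 ^ b.val)) (by decide +kernel) M h

variable {G : Type*} [Group G] [Finite G] {l : Bool} {f : V4 → G} {s : M4 → G} {i : G}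
  {φ : G → D3 → ZMod 2}

theorem E4 {t a : G} {E : Subgroup G} {δ : D3 → G} (e : EC t E φ δ) (ha : a ∈ E) : a ^ 4 = 1 := by
  have : φ (a * a) = 0 := by
    rw [e.add a ha a ha]; funext d; exact CharTwo.add_self_eq_zero _
  rw [show 4 = 2 * 2 from rfl, pow_mul, pow_two a]
  rcases (e.ker _ (mul_mem ha ha)).1 this with k | k <;> rw [k]
  exacts [one_pow _, (pow_two t).trans e.t2]

theorem Ecop {t : G} {E : Subgroup G} {δ : D3 → G} (e : EC t E φ δ) : (Nat.card E).Coprime 3 := by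
  have : IsPGroup 2 E := fun a => ⟨2, Subtype.ext (E4 e a.2)⟩
  obtain ⟨n, hn⟩ := IsPGroup.iff_card.1 this
  rw [hn]
  exact Nat.Coprime.pow_left _ (by decide)

theorem nJ0 (h : St l f s i) {g : G} (hg : ∀ x ∈ Ac f mT, g * x * g⁻¹ ∈ Ac f mT) : g ∈ NJ f :=
  h.NA (A := {x | mv mT x = x}) (fun c hc => by
    obtain ⟨x, rfl | rfl⟩ := h.cJ0 hc
    exacts [h.fN x, mul_mem (h.fN x) (h.sN W_mT)]) fun x hx =>
      let ⟨y, _, e⟩ := h.mem_Ac.1 (hg _ (h.mem_Ac.2 ⟨x, hx, rfl⟩)); ⟨y, e.symm⟩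

/-- conjugacy of the complements of `E` in `E J₀` -/
theorem cjA (h : St l f s i) (e : EE l f s i φ) {g : G}
    (hg : ∀ x, mv mT x = x → ∃ y, mv mT y = y ∧ g * f x * g⁻¹ * (f y)⁻¹ ∈ Eg f s i) :
    ∃ a ∈ Eg f s i, ∃ y, mv mT y = y ∧ a * f y * g ∈ NJ f := by
  have A3 : ∀ x ∈ Ac f mT, x ^ 3 = 1 := fun x hx => by
    obtain ⟨x, -, rfl⟩ := h.mem_Ac.1 hx
    exact h.f3 x
  have p3 : IsPGroup 3 (Ac f mT) := pg3 (n := 1) A3
  have AN : Ac f mT ≤ 𝐍(Eg f s i) := fun x hx => by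
    obtain ⟨x, k, rfl⟩ := h.mem_Ac.1 hx
    exact mem_norm (e.nE _ (h.fN x) (h.sfc W_mT k).symm)
  obtain ⟨k, hk, c⟩ := conj_into (N := Eg f s i ⊔ Ac f mT) p3 (fun n hn c n3 => by
    obtain ⟨a, ha, b, hb, rfl⟩ := (mem_sup_of_le_normalizer_left AN).1 hn
    obtain ⟨x, k, rfl⟩ := h.mem_Ac.1 hb
    rcases e.EN a ha (by simpa using mul_mem (nJ0 h c) (inv_mem (h.fN x))) with rfl | rfl
    · rwa [one_mul]
    · rw [(show Commute (s mT) (f x) from h.sfc W_mT k).mul_pow, h.f3, mul_one, pow_succ, pow_two, h.t2,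
        one_mul] at n3
      exact mul_mem n3 hb) le_sup_right (isPGroup_cj p3 g) fun y hy => by
    obtain ⟨y, hy', rfl⟩ := mem_cj'.1 hy
    obtain ⟨x, k, rfl⟩ := h.mem_Ac.1 hy'
    obtain ⟨y, k', c⟩ := hg x k
    simpa using mul_mem (mem_sup_left (T := Ac f mT) c) (mem_sup_right (h.mem_Ac.2 ⟨y, k', rfl⟩))
  obtain ⟨a, ha, b, hb, rfl⟩ := (mem_sup_of_le_normalizer_left AN).1 hk
  obtain ⟨x, k, rfl⟩ := h.mem_Ac.1 hb
  exact ⟨a, ha, x, k, nJ0 h fun y hy => by simpa [mul_assoc] using c _ (cj_mem g hy)⟩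

variable {H X : Subgroup G} {Q : Type*} [Group Q] {π : G → Q}

theorem p27 (h : St l f s i) (e : EE l f s i φ)
    (hX : ∀ g, g ∈ X ↔ g ∈ H ∧ g * s mT = s mT * g ∧ g ∈ 𝐍(Eg f s i)) (P : Pj X (Eg f s i) π)
    (EH : Eg f s i ≤ H) (fH : ∀ x, f x ∈ H) (dH : ∀ d, s (dm d) ∈ H) : ∃ N : Subgroup Q,
    (∀ γ, γ ∈ N ↔ ∃ n ∈ X, n ∈ NJ f ∧ π n = γ) ∧
    P27 (fun u => π (f (xv u))) (fun d => π (s (dm d))) N := by
  have nX : ∀ g ∈ H, g ∈ NJ f → g * s mT = s mT * g → g ∈ X := fun g a b c =>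
    (hX g).2 ⟨a, c, mem_norm (e.nE g b c)⟩
  have fX : ∀ u, f (xv u) ∈ X := fun u => nX _ (fH _) (h.fN _) (h.sfc W_mT (xv_T u)).symm
  have dX : ∀ d, s (dm d) ∈ X := fun d => nX _ (dH d) (h.sN (W_dm d)) (e.δt d)
  have EX : Eg f s i ≤ X := fun a ha => (hX a).2 ⟨EH ha, e.tc a ha, le_normalizer ha⟩
  refine ⟨{ carrier := {γ | ∃ n ∈ X, n ∈ NJ f ∧ π n = γ}
            one_mem' := ⟨1, one_mem _, one_mem _, P.one⟩
            mul_mem' := ?_
            inv_mem' := ?_ }, fun _ => Iff.rfl, fun u v => ?_, fun u k => ?_, fun c d => ?_, fun d u => ?_,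
    fun u => ⟨_, fX u, h.fN _, rfl⟩, fun d => ⟨_, dX d, h.sN (W_dm d), rfl⟩, fun u u0 γ c => ?_, fun γ c => ?_⟩
  · rintro _ _ ⟨a, k1, k2, rfl⟩ ⟨b, k3, k4, rfl⟩
    exact ⟨_, mul_mem k1 k3, mul_mem k2 k4, P.mul k1 k3⟩
  · rintro _ ⟨a, k1, k2, rfl⟩
    exact ⟨_, inv_mem k1, inv_mem k2, P.inv k1⟩
  · rw [xv_add, h.add, P.mul (fX u) (fX v)]
  · rcases e.EN _ ((P.ker (fX u)).1 k) (h.fN _) with k | k
    · exact xv_0 u (h.inj _ k)
    · exact absurd (h.uniq (x := xv u) (y := 0) W.one W_mT (by rw [h.s1, h.f0, mul_one, one_mul, k])).2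
        (by decide)
  · rw [show s (dm (c + d)) = _ from e.δm c d, P.mul (dX c) (dX d)]
  · rw [← P.cj (dX d) (fX u), h.act _ (W_dm d), xv_dm]
  · obtain ⟨g, hg, rfl⟩ := P.surj γ
    rw [← mul_inv_eq_iff_eq_mul, ← P.cj hg (fX u),
      P.eq (mul_mem (mul_mem hg (fX u)) (inv_mem hg)) (fX u)] at c
    obtain ⟨k, hk, c⟩ := H53.Odd.conj_of_coset (Ecop e.toEC) (by rw [conj_pow, h.f3, mul_one, mul_inv_cancel])
      (h.f3 _) (fun k hk => conj_mem ((hX _).1 (fX u)).2.2 hk) c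
    have kX := mul_mem (inv_mem (EX hk)) hg
    obtain ⟨a, ha, n⟩ := e.cK _ (fun k => u0 (xv_0 u k)) (xv_T u) (k⁻¹ * g) ((hX _).1 kX).2.1 (by
      rw [← mul_inv_eq_iff_eq_mul, mul_inv_rev, inv_inv, mul_assoc k⁻¹, mul_assoc k⁻¹, ← mul_assoc _ _ k, ← c]
      group)
    refine ⟨_, mul_mem (EX ha) kX, n, (P.eq (mul_mem (EX ha) kX) hg).2 ?_⟩
    simpa [mul_assoc] using mul_mem ha (inv_mem hk)
  · obtain ⟨g, hg, rfl⟩ := P.surj γ
    obtain ⟨a, ha, y, hy, n⟩ := cjA h e (g := g) fun x hx => by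
      obtain ⟨u, rfl⟩ := xv_ex x hx
      obtain ⟨v, c⟩ := c u
      rw [← P.cj hg (fX u), P.eq (mul_mem (mul_mem hg (fX u)) (inv_mem hg)) (fX v)] at c
      exact ⟨_, xv_T v, c⟩
    obtain ⟨u, rfl⟩ := xv_ex y hy
    have kX := mul_mem (inv_mem (fX u)) (mul_mem (mul_mem (EX ha) (fX u)) hg)
    refine ⟨_, kX, mul_mem (inv_mem (h.fN _)) n, (P.eq kX hg).2 ?_⟩
    simpa [mul_assoc] using conj_mem (inv_mem ((hX _).1 (fX u)).2.2) ha

end NW

open NW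

variable {G : Type*} [Group G] [Finite G] {l : Bool} {f : V4 → G} {s : M4 → G} {i : G}

variable {φ : G → D3 → ZMod 2}

theorem St.n3a (h : St false f s i) (e : EE false f s i φ) {H : Subgroup G} (hH : G0 f s H) (g : G)
    (gH : g ∈ H) (gt : g * s mT = s mT * g) (gE : g ∈ 𝐍(Eg f s i)) :
    ∃ a ∈ Eg f s i, ∃ x d, mv mT x = x ∧ g = a * f x * s (dm d) := by
  have := hH.nm
  obtain ⟨Q, _, _, π, P⟩ := exists_pj (X := H ⊓ centralizer {s mT} ⊓ 𝐍(Eg f s i)) inf_le_right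
  have hX : ∀ g, g ∈ H ⊓ centralizer {s mT} ⊓ 𝐍(Eg f s i) ↔
      g ∈ H ∧ g * s mT = s mT * g ∧ g ∈ 𝐍(Eg f s i) := fun g => by
    rw [mem_inf, mem_inf, mem_centralizer_singleton_iff, and_assoc]
  have dH : ∀ d, s (dm d) ∈ H := fun d => (hH.sH _ (W_dm d)).2 (by revert d; decide +kernel)
  have EH : Eg f s i ≤ H := fun a ha => by
    have k := H.pow_index_mem a
    rw [hH.ind, ← inv_mem_iff, inv_eq_of_mul_eq_one_right ((pow_succ a 3).symm.trans (E4 e.toEC ha))] at k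
    exact k
  obtain ⟨N, hN, p⟩ := p27 h e hX P EH hH.fH dH
  have nX : ∀ g ∈ H, g ∈ NJ f → g * s mT = s mT * g → g ∈ H ⊓ centralizer {s mT} ⊓ 𝐍(Eg f s i) :=
    fun g a b c => (hX g).2 ⟨a, c, mem_norm (e.nE g b c)⟩
  have fX := fun u => nX _ (hH.fH _) (h.fN _) (h.sfc W_mT (xv_T u)).symm
  have dX := fun d => nX _ (dH d) (h.sN (W_dm d)) (e.δt d)
  have tX := nX _ (EH e.tE) (h.sN W_mT) rfl
  have dec : ∀ γ ∈ N, ∃ u d, γ = π (f (xv u)) * π (s (dm d)) := fun γ hγ => by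
    obtain ⟨n, k1, k2, rfl⟩ := (hN γ).1 hγ
    obtain ⟨x, M, hM, rfl⟩ := h.dec n k2
    obtain ⟨k3, k4, -⟩ := (hX _).1 k1
    obtain ⟨k5, k6⟩ := (h.com_s hM W_mT).1 k4
    obtain ⟨u, rfl⟩ := xv_ex x k5
    obtain ⟨d, rfl | rfl⟩ := cT0 M hM.1 k6 (hM.2.resolve_left (by decide))
      ((hH.sH M hM).1 ((mul_mem_cancel_left (hH.fH _)).1 k3))
    · exact ⟨u, d, P.mul (fX u) (dX d)⟩
    · exact ⟨u, d, by rw [h.mul _ _ W_mT (W_dm d), P.mul (fX u) (mul_mem tX (dX d)), P.mul tX (dX d),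
        (P.ker tX).2 e.tE, one_mul]⟩
  obtain ⟨u, d, k⟩ := dec (π g) (p.n3a dec ▸ mem_top _)
  rw [← P.mul (fX u) (dX d), P.eq ((hX g).2 ⟨gH, gt, gE⟩) (mul_mem (fX u) (dX d))] at k
  exact ⟨_, k, _, d, xv_T u, by group⟩

theorem St.n3b (h : St true f s i) (e : EE true f s i φ) (g : G) (gt : g * s mT = s mT * g)
    (gE : g ∈ 𝐍(Eg f s i)) (hg : ∀ x, In2 f s i x → In2 f s i (g * x * g⁻¹)) :
    ∃ a ∈ Eg f s i, a * g ∈ NJ f := by
  obtain ⟨Q, _, _, π, P⟩ := exists_pj (X := centralizer {s mT} ⊓ 𝐍(Eg f s i)) inf_le_right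
  have hX : ∀ g, g ∈ centralizer {s mT} ⊓ 𝐍(Eg f s i) ↔
      g ∈ (⊤ : Subgroup G) ∧ g * s mT = s mT * g ∧ g ∈ 𝐍(Eg f s i) := fun g => by
    simp only [mem_inf, mem_centralizer_singleton_iff, mem_top, true_and]
  obtain ⟨N, hN, p⟩ := p27 h e hX P le_top (fun _ => mem_top _) fun _ => mem_top _
  have nX : ∀ g ∈ NJ f, g * s mT = s mT * g → g ∈ centralizer {s mT} ⊓ 𝐍(Eg f s i) :=
    fun g b c => (hX g).2 ⟨mem_top _, c, mem_norm (e.nE g b c)⟩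
  have Wu : W true u4 := by decide
  have fX := fun u => nX _ (h.fN _) (h.sfc W_mT (xv_T u)).symm
  have dX := fun d => nX _ (h.sN (W_dm d)) (e.δt d)
  have tX := nX _ (h.sN W_mT) rfl
  have wX := nX _ (h.sN W_mO) (h.scomm W_mO W_mT (by decide))
  have uX := nX _ (h.sN Wu) (h.scomm Wu W_mT (by decide))
  have gX := (hX g).2 ⟨mem_top _, gt, gE⟩
  have EX : ∀ a ∈ Eg f s i, a ∈ centralizer {s mT} ⊓ 𝐍(Eg f s i) := fun a ha =>
    (hX a).2 ⟨mem_top _, e.tc a ha, le_normalizer ha⟩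
  suffices k : π g ∈ N by
    obtain ⟨n, k1, k2, k3⟩ := (hN _).1 k
    exact ⟨n * g⁻¹, (P.eq k1 gX).1 k3, by simpa using k2⟩
  refine p.n3b (ω := π (s mO)) (v := π (s u4))
    (by rw [← P.pow wX, h.a3, P.one]) (by rw [← P.mul uX uX, h.ssq Wu (by decide), P.one])
    (by rw [← P.cj uX wX, ← P.inv wX, h.scj Wu W_mO, ← h.sinv W_mO]; rfl)
    (fun u => by rw [← P.cj wX (fX u), h.aO, xv_O]) (fun u => by rw [← P.cj uX (fX u), h.act _ Wu, xv_u])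
    (fun d => by rw [← P.cj wX (dX d), h.scj W_mO (W_dm d), dm_O])
    (fun d => by rw [← P.cj uX (dX d), h.scj Wu (W_dm d), dm_u])
    ((hN _).2 ⟨_, wX, h.sN W_mO, rfl⟩) ((hN _).2 ⟨_, uX, h.sN Wu, rfl⟩) (fun γ hγ => ?_) fun d b => ?_
  · obtain ⟨n, k1, k2, rfl⟩ := (hN γ).1 hγ
    obtain ⟨x, M, hM, rfl⟩ := h.dec n k2
    obtain ⟨k5, k6⟩ := (h.com_s hM W_mT).1 ((hX _).1 k1).2.1
    obtain ⟨u, rfl⟩ := xv_ex x k5
    obtain ⟨d, a, b, k⟩ := cT M hM.1 k6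
    have W1 : W true (dm d * mO ^ a.val) := (W_dm d).mul (W_mO.pow _)
    have W2 := W1.mul (Wu.pow b.val)
    have sX := nX _ (h.sN W2) (h.scomm W2 W_mT (by
      rcases k with rfl | rfl
      exacts [k6, by clear * -; revert d a b; decide +kernel]))
    have k7 : π (s M) = π (s (dm d * mO ^ a.val * u4 ^ b.val)) := by
      rcases k with rfl | rfl
      exacts [rfl, by rw [h.mul _ _ W_mT W2, P.mul tX sX, (P.ker tX).2 e.tE, one_mul]]
    refine ⟨u, d, a, b, ?_⟩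
    rw [P.mul (fX u) (nX _ (h.sN hM) (h.scomm hM W_mT k6)), k7, h.mul _ _ W1 (Wu.pow _),
      h.mul _ _ (W_dm d) (W_mO.pow _), h.spow W_mO, h.spow Wu,
      P.mul (mul_mem (dX d) (pow_mem wX _)) (pow_mem uX _), P.mul (dX d) (pow_mem wX _), P.pow wX, P.pow uX,
      mul_assoc, mul_assoc, mul_assoc]
  · obtain ⟨a, ha, d', b', k⟩ := hg _ ⟨1, one_mem _, d, b, rfl⟩
    refine ⟨d', b', ?_⟩
    rw [← P.pow uX, ← P.pow uX, ← P.mul (dX d) (pow_mem uX _), ← P.cj gX (mul_mem (dX d) (pow_mem uX _)),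
      ← one_mul (s (dm d)), k, mul_assoc, P.mul (EX a ha) (mul_mem (dX d') (pow_mem uX _)),
      (P.ker (EX a ha)).2 ha, one_mul, P.mul (dX d') (pow_mem uX _)]

end H12.O83
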