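import Cfsg.Agent.Lib.O83.N3w
import Cfsg.Agent.Lib.O83.SCa

/-! A Sylow 2-subgroup at the top level (package T2A). -/

set_option autoImplicit false
set_option linter.unusedSectionVars false

namespace H12.O83

open Subgroup H20.L43 H69

variable {G : Type*} [Group G] [Finite G] {l : Bool} {f : V4 → G} {s : M4 → G} {i : G}

variable {φ : G → D3 → ZMod 2}

namespace T2A

/-- the sixteen matrices -/
def mm (p : D3 × Bool) : M4 := dm p.1 * u4 ^ p.2.toNat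
/-- their action on coordinates -/
def pm (p : D3 × Bool) (y : D3) : D3 := bif p.2 then ((y + p.1).1, (y + p.1).2.2, (y + p.1).2.1) else y + p.1
def cd (y : D3) : ℕ := y.1.val + 2 * y.2.1.val + 4 * y.2.2.val
/-- a small set of representatives -/
def rp (p : D3 × Bool) (y : D3) : D3 := if cd y ≤ cd (pm p y) then y else pm p y

theorem eqns_t2a : True := by
  have := @mm.eq_1
  have := @pm.eq_1
  have := @cd.eq_1
  have := @rp.eq_1
  trivial

theorem mm_W : ∀ p, W true (mm p) ∧ mm p * mT = mT * mm p ∧ mm p ^ 4 = 1 := by decide +kernel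
theorem mm_mul : ∀ p q, ∃ r, mm p * mm q = mm r := by decide +kernel
theorem mm_u : mm (0, true) = u4 := by decide +kernel
theorem mm_o : mm (oo, false) = -mT := by decide +kernel
theorem W_u4 : W true u4 := by decide +kernel
theorem two_x : ∀ x : V4, x + x = 0 → x = 0 := by decide +kernel
theorem mm_zero : mm (0, false) = 1 := by decide +kernel
theorem pm_id : ∀ p, (∀ x y, (Pi.single x 1 : D3 → ZMod 2) (pm p y) = (Pi.single x 1 : D3 → ZMod 2) y) →
    p = (0, false) := by decide +kernel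
theorem rp4 : ∀ d : D3, d ≠ 0 → (Finset.univ.image (rp (d, false))).card ≤ 4 := by decide +kernel
theorem rp6 : ∀ d : D3, (Finset.univ.image (rp (d, true))).card ≤ 6 := by decide +kernel
theorem pm_two : ∀ d d' : D3, d ≠ d' → ∃ c : D3, c ≠ 0 ∧ ∀ y, ∃ z, pm (d, true) z = y ∧ pm (d', true) z = pm (c, false) y := by
  decide +kernel
theorem pm_self : ∀ y : D3, pm (y, false) y = 0 := by decide +kernel

theorem mat_fin (M : M4) (hM : Orth M) : M * mT = mT * M → (M * u4 * tr M * u4) ^ 16 = 1 →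
    ∃ p, M = mm p ∨ M = mT * mm p :=
  forall_orth (P := fun M => M * mT = mT * M → (M * u4 * tr M * u4) ^ 16 = 1 → ∃ p, M = mm p ∨ M = mT * mm p)
    (by decide +kernel) M hM

theorem card_le_mul {X E : Subgroup G} {ι : Type*} (S : Finset ι) (ψ : G → ι) (hS : ∀ x ∈ X, ψ x ∈ S)
    (h : ∀ x ∈ X, ∀ y ∈ X, ψ x = ψ y → x * y⁻¹ ∈ E) : Nat.card X ≤ S.card * Nat.card (X ⊓ E : Subgroup G) := by
  let r := Function.invFunOn ψ X
  have r1 : ∀ x ∈ X, r (ψ x) ∈ X ∧ ψ (r (ψ x)) = ψ x := fun x hx => Function.invFunOn_pos ⟨x, hx, rfl⟩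
  rw [← Nat.card_eq_finsetCard, ← Nat.card_prod]
  refine Nat.card_le_card_of_injective (fun x => (⟨ψ x, hS x x.2⟩, ⟨x * (r (ψ x))⁻¹,
    X.mul_mem x.2 (X.inv_mem (r1 x x.2).1), h _ x.2 _ (r1 x x.2).1 (r1 x x.2).2.symm⟩)) fun x y e => Subtype.ext ?_
  have e1 : ψ x = ψ y := congrArg (·.1.1) e
  have e2 : (x : G) * (r (ψ x))⁻¹ = y * (r (ψ y))⁻¹ := congrArg (·.2.1) e
  rw [e1] at e2
  exact mul_right_cancel e2

section EC
variable {t : G} {E : Subgroup G} {δ : D3 → G} (e : EC t E φ δ)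
include e

theorem phi_inv {a : G} (ha : a ∈ E) : φ a⁻¹ = -φ a := by
  rw [eq_neg_iff_add_eq_zero, ← e.add _ (inv_mem ha) _ ha, inv_mul_cancel]
  exact (e.ker _ (one_mem _)).2 (Or.inl rfl)

theorem phi_cj {a b : G} (ha : a ∈ E) (hb : b ∈ E) : φ (a * b * a⁻¹) = φ b := by
  rw [e.add _ (mul_mem ha hb) _ (inv_mem ha), e.add _ ha _ hb, phi_inv e ha]; abel

theorem phi_eq {a b : G} (ha : a ∈ E) (hb : b ∈ E) : φ a = φ b ↔ a * b⁻¹ = 1 ∨ a * b⁻¹ = t := by
  rw [← e.ker _ (mul_mem ha (inv_mem hb)), e.add _ ha _ (inv_mem hb), phi_inv e hb, add_neg_eq_zero]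

theorem card_F {F : Subgroup G} (hF : F ≤ E) (π : D3 → D3) (h : ∀ x ∈ F, ∀ y, φ x (π y) = φ x y) :
    Nat.card F ≤ 2 ^ (Finset.univ.image π).card * 2 := by
  have := card_le_mul (X := F) (E := zpowers t) Finset.univ (fun x (y : Finset.univ.image π) => φ x y)
    (fun _ _ => Finset.mem_univ _) fun x hx y hy k => (H95.mem_zpowers_iff_of_sq e.t2).2
      ((phi_eq e (hF hx) (hF hy)).1 (funext fun z => by
        rw [← h x hx, ← h y hy]; exact congrFun k ⟨_, Finset.mem_image_of_mem _ (Finset.mem_univ z)⟩))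
  refine this.trans (Nat.mul_le_mul (by rw [Finset.card_univ, Fintype.card_fun, ZMod.card, Fintype.card_coe])
    ((card_le_of_le inf_le_right).trans_eq ?_))
  rw [Nat.card_zpowers, H95.orderOf_eq_two_of e.t2 e.t1]

end EC

variable (h : St true f s i) (e : EE true f s i φ)
include h e

theorem ex_sub (P : M4 → Prop) (h1 : P 1) (hm : ∀ M N, P M → P N → P (M * N))
    (hw : ∀ M, P M → W true M ∧ M * mT = mT * M) :
    ∃ R : Subgroup G, ∀ g, g ∈ R ↔ ∃ a ∈ Eg f s i, ∃ M, P M ∧ g = a * s M := by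
  let R : Submonoid G :=
    { carrier := {g | ∃ a ∈ Eg f s i, ∃ M, P M ∧ g = a * s M}
      one_mem' := ⟨1, one_mem _, 1, h1, by rw [h.s1, mul_one]⟩
      mul_mem' := by
        rintro _ _ ⟨a, ha, M, hM, rfl⟩ ⟨b, hb, N, hN, rfl⟩
        refine ⟨_, mul_mem ha (e.nE _ (h.sN (hw M hM).1) (h.scomm (hw M hM).1 W_mT (hw M hM).2) b hb), _,
          hm M N hM hN, ?_⟩
        rw [h.mul M N (hw M hM).1 (hw N hN).1]; group }
  exact ⟨⟨R, fun {x} hx => Submonoid.powers_le.2 hx (mem_powers_iff_mem_zpowers.2 (inv_mem (mem_zpowers x)))⟩,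
    fun _ => Iff.rfl⟩

omit e in
theorem in2_iff {g : G} : In2 f s i g ↔ ∃ a ∈ Eg f s i, ∃ p, g = a * s (mm p) := by
  have w := W_u4
  have k : ∀ d n, s (dm d * u4 ^ n) = s (dm d) * s u4 ^ n := fun d n => by
    rw [h.mul _ _ (W_dm d) (w.pow n), h.spow w]
  refine ⟨fun ⟨a, ha, d, c, e⟩ => ⟨a, ha, (d, decide (c % 2 = 1)), ?_⟩,
    fun ⟨a, ha, p, e⟩ => ⟨a, ha, p.1, p.2.toNat, by rw [e, mm, k, mul_assoc]⟩⟩
  rw [e, mm, k, mul_assoc, pow_eq_pow_mod c (n := 2) (by rw [sq, h.ssq w (by decide +kernel)])]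
  rcases Nat.mod_two_eq_zero_or_one c with e | e <;> rw [e] <;> rfl

theorem mm_E (p : D3 × Bool) {b : G} (hb : b ∈ Eg f s i) : s (mm p) * b * (s (mm p))⁻¹ ∈ Eg f s i :=
  e.nE _ (h.sN (mm_W p).1) (h.scomm (mm_W p).1 W_mT (mm_W p).2.1) b hb

theorem act {a b : G} (ha : a ∈ Eg f s i) (hb : b ∈ Eg f s i) (p : D3 × Bool) :
    φ (a * s (mm p) * b * (a * s (mm p))⁻¹) = fun y => φ b (pm p y) := by
  have w := W_u4
  rw [show a * s (mm p) * b * (a * s (mm p))⁻¹ = a * (s (mm p) * b * (s (mm p))⁻¹) * a⁻¹ by group,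
    phi_cj e.toEC ha (mm_E h e p hb)]
  obtain ⟨d, _ | _⟩ := p
  · simpa [mm, pm] using e.δφ d b hb
  · have := e.δφ d _ (e.nE _ (h.sN w) (h.scomm w W_mT (by decide +kernel)) b hb)
    rw [e.au rfl b hb] at this
    simpa [mm, pm, h.mul _ _ (W_dm d) w, mul_assoc] using this

theorem pow16 {g : G} (hg : In2 f s i g) : g ^ 16 = 1 := by
  obtain ⟨a, ha, p, rfl⟩ := (in2_iff h).1 hg
  have k : ∀ n, ∃ b ∈ Eg f s i, (a * s (mm p)) ^ n = b * s (mm p) ^ n := fun n => by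
    induction n with
    | zero => exact ⟨1, one_mem _, by simp⟩
    | succ n ih =>
      obtain ⟨b, hb, e'⟩ := ih
      exact ⟨_, mul_mem ha (mm_E h e p hb), by rw [pow_succ', e', pow_succ']; group⟩
  obtain ⟨b, hb, e'⟩ := k 4
  rw [show 16 = 4 * 4 from rfl, pow_mul, e', ← h.spow (mm_W p).1, (mm_W p).2.2, h.s1, mul_one, e.es.pow_four hb]

theorem in2_E {a : G} (ha : a ∈ Eg f s i) : In2 f s i a :=
  (in2_iff h).2 ⟨a, ha, (0, false), by rw [mm_zero, h.s1, mul_one]⟩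

theorem norm_t {g : G} (hg : ∀ x, In2 f s i x ↔ In2 f s i (g * x * g⁻¹)) : g * s mT = s mT * g := by
  obtain ⟨a, ha, p, e1⟩ := (in2_iff h).1 ((hg _).1 (in2_E h e e.tE))
  have c : ∀ b ∈ Eg f s i, g * s mT * g⁻¹ * b * (g * s mT * g⁻¹)⁻¹ = b := fun b hb => by
    obtain ⟨a', ha', q, e2⟩ := (in2_iff h).1 ((hg (g⁻¹ * b * g)).2 (by simpa [mul_assoc] using in2_E h e hb))
    have : g⁻¹ * b * g * s mT = s mT * (g⁻¹ * b * g) := by
      rw [e2, mul_assoc, h.scomm (mm_W q).1 W_mT (mm_W q).2.1, ← mul_assoc, e.tc a' ha', mul_assoc]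
    calc _ = g * (s mT * (g⁻¹ * b * g)) * (s mT)⁻¹ * g⁻¹ := by group
      _ = b := by rw [← this]; group
  obtain rfl := pm_id p fun x y => by
    obtain ⟨b, hb, e2⟩ := e.surj (Pi.single x 1)
    have := act h e ha hb p
    rw [← e1, c b hb, e2] at this
    exact (congrFun this y).symm
  rw [mm_zero, h.s1, mul_one] at e1
  rcases e.es.nondeg a ha fun b hb => mul_inv_eq_iff_eq_mul.1 (e1 ▸ c b hb) with e2 | e2
  · exact absurd (conj_eq_one_iff.1 (e1.trans e2)) e.t1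
  · exact mul_inv_eq_iff_eq_mul.1 (e1.trans e2)

theorem norm_E {g : G} (gt : g * s mT = s mT * g) (hg : ∀ x, In2 f s i x → In2 f s i (g * x * g⁻¹)) :
    g ∈ 𝐍(Eg f s i) := by
  classical
  have es := e.es.map_conj g
  rw [gt, mul_inv_cancel_right] at es
  set X := (Eg f s i).map (MulAut.conj g).toMonoidHom
  have cX : Nat.card X = 2 ^ 9 := by rw [card_map_of_injective (MulAut.conj g).injective, e.toEC.card]
  have hX : ∀ x ∈ X, ∃ p, ∃ a ∈ Eg f s i, x = a * s (mm p) := by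
    rintro _ ⟨x, hx, rfl⟩
    obtain ⟨a, ha, p, e1⟩ := (in2_iff h).1 (hg x (in2_E h e hx))
    exact ⟨p, a, ha, e1⟩
  choose! ψ hψ using hX
  let S := Finset.univ.filter fun p => ∃ x ∈ X, ψ x = p
  have c1 := card_le_mul (X := X) (E := Eg f s i) S ψ (fun x hx => by simpa [S] using ⟨x, hx, rfl⟩)
    fun x hx y hy k => by
      obtain ⟨a, ha, e1⟩ := hψ x hx
      obtain ⟨b, hb, e2⟩ := hψ y hy
      rw [e1, e2, k]; simpa using mul_mem ha (inv_mem hb)
  have fx : ∀ p ∈ S, ∀ b ∈ X ⊓ Eg f s i, ∀ y, φ b (pm p y) = φ b y := fun p hp b hb y => by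
    obtain ⟨x, hx, rfl⟩ : ∃ x ∈ X, ψ x = p := by simpa [S] using hp
    obtain ⟨a, ha, e1⟩ := hψ x hx
    have k := act h e ha hb.2 (ψ x)
    rw [← e1, (phi_eq e.toEC (by
      rw [e1, show ∀ u v : G, a * u * b * (a * u)⁻¹ = a * (u * b * u⁻¹) * a⁻¹ from fun _ _ => by group]
      exacts [mul_mem (mul_mem ha (mm_E h e _ hb.2)) (inv_mem ha), 1]) hb.2).2 (es.commutator_eq hx hb.1)] at k
    exact (congrFun k y).symm
  have rp' : ∀ p, (∀ b ∈ X ⊓ Eg f s i, ∀ y, φ b (pm p y) = φ b y) → Nat.card (X ⊓ Eg f s i : Subgroup G) ≤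
      2 ^ (Finset.univ.image (rp p)).card * 2 := fun p k => card_F e.toEC inf_le_right _ fun b hb y => by
    unfold rp; split_ifs
    exacts [rfl, k b hb y]
  have A : ∀ d, d ≠ 0 → ¬ ∀ b ∈ X ⊓ Eg f s i, ∀ y, φ b (pm (d, false) y) = φ b y := fun d d0 k => by
    have c2 := (rp' _ k).trans (Nat.mul_le_mul_right 2 (Nat.pow_le_pow_right two_pos (rp4 d d0)))
    have c3 := Finset.eq_univ_of_card S (le_antisymm (Finset.card_le_univ S) (by
      have := c1.trans (Nat.mul_le_mul_left _ c2)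
      simp only [Fintype.card_prod, ZMod.card, Fintype.card_bool]; omega))
    have c4 := card_F e.toEC inf_le_right (fun _ => 0) fun b hb y =>
      pm_self y ▸ fx (y, false) (c3 ▸ Finset.mem_univ _) b hb y
    have := c1.trans (Nat.mul_le_mul (Finset.card_le_univ S) c4)
    rw [cX, Finset.image_const Finset.univ_nonempty] at this
    simp at this
  have B : ∀ p ∈ S, p = (0, false) := by
    rintro ⟨d, _ | _⟩ hp
    · by_contra n
      exact A d (fun e => n (by rw [e])) (fx _ hp)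
    have c2 := (rp' _ (fx _ hp)).trans (Nat.mul_le_mul_right 2 (Nat.pow_le_pow_right two_pos (rp6 d)))
    have c3 : S ⊆ {(0, false), (d, true)} := by
      rintro ⟨d', _ | _⟩ hq <;> by_contra n <;> simp only [Finset.mem_insert, Finset.mem_singleton, not_or] at n
      · exact A d' (fun e => n.1 (by rw [e])) (fx _ hq)
      · obtain ⟨c, c0, k⟩ := pm_two d d' fun e => n.2 (by rw [e])
        refine A c c0 fun b hb y => ?_
        obtain ⟨z, e1, e2⟩ := k y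
        rw [← e2, ← e1, fx _ hp b hb, fx _ hq b hb]
    have := c1.trans (Nat.mul_le_mul ((Finset.card_le_card c3).trans Finset.card_le_two) c2)
    omega
  refine mem_norm fun x hx => ?_
  have hx' : g * x * g⁻¹ ∈ X := ⟨x, hx, rfl⟩
  obtain ⟨a, ha, e1⟩ := hψ _ hx'
  rwa [e1, B (ψ _) (by simpa [S] using ⟨_, hx', rfl⟩), mm_zero, h.s1, mul_one]

end T2A

open T2A

theorem St.syl2 (h : St true f s i) (e : EE true f s i φ) :
    ∃ P : Sylow 2 G, ∀ g, g ∈ (P : Subgroup G) ↔ In2 f s i g := by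
  have : Fact (Nat.Prime 2) := ⟨Nat.prime_two⟩
  obtain ⟨T, hT⟩ := ex_sub h e (fun M => ∃ p, M = mm p) ⟨_, mm_zero.symm⟩
    (by rintro _ _ ⟨p, rfl⟩ ⟨q, rfl⟩; exact mm_mul p q) (by rintro _ ⟨p, rfl⟩; exact ⟨(mm_W p).1, (mm_W p).2.1⟩)
  replace hT : ∀ g, g ∈ T ↔ In2 f s i g := fun g => by
    rw [hT, in2_iff h]
    exact exists_congr fun a => and_congr_right fun _ =>
      ⟨by rintro ⟨_, ⟨p, rfl⟩, e⟩; exact ⟨p, e⟩, fun ⟨p, e⟩ => ⟨_, ⟨p, rfl⟩, e⟩⟩
  obtain ⟨P, hP⟩ := (H95.isPGroup_of_pow (p := 2) 4 fun x hx => pow16 h e ((hT x).1 hx)).exists_le_sylow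
  refine ⟨P, (hP.eq_or_lt.resolve_right fun hl => ?_) ▸ hT⟩
  obtain ⟨g, ⟨-, g2⟩, g3⟩ := SetLike.exists_of_lt (H4.lt_inf_normalizer_of_lt P.isPGroup' hl)
  have hg : ∀ x, In2 f s i x ↔ In2 f s i (g * x * g⁻¹) := fun x => by
    rw [← hT, ← hT]; exact mem_normalizer_iff.1 g2 x
  have gt := norm_t h e hg
  obtain ⟨a, ha, hm⟩ := h.n3b e g gt (norm_E h e gt fun x => (hg x).1) fun x => (hg x).1
  have aT := (hT a).2 (in2_E h e ha)
  have mN : ∀ x ∈ T, a * g * x * (a * g)⁻¹ ∈ T := fun x =>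
    conj_mem (mul_mem (le_normalizer aT) g2)
  refine g3 ((mul_mem_cancel_left aT).1 ?_)
  have mt : a * g * s mT = s mT * (a * g) := by rw [mul_assoc, gt, ← mul_assoc, e.tc a ha, mul_assoc]
  obtain ⟨x, M, hM, e1⟩ := h.dec _ hm
  rw [e1] at mN mt ⊢
  obtain ⟨k1, k2⟩ := (h.com_s hM W_mT).1 mt
  have sT : ∀ p, s (mm p) ∈ T := fun p => (hT _).2 ((in2_iff h).2 ⟨1, one_mem _, p, (one_mul _).symm⟩)
  have w := W_u4
  have o := mm_o
  have wo : W true (-mT) := W_mT.neg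
  obtain rfl : x = 0 := by
    have := mul_mem (mN _ (o ▸ sT (oo, false))) (inv_mem (o ▸ sT (oo, false)))
    rw [mul_assoc (f x), h.scomm hM wo (by rw [mul_neg, k2, neg_mul]), show ∀ a b c : G,
      a * (b * c) * (a * c)⁻¹ * b⁻¹ = a * (b * a⁻¹ * b⁻¹) from fun _ _ _ => by group, ← h.fneg, h.act _ wo, mv_negm,
      mv_neg, neg_neg, k1] at this
    have k := pow16 h e ((hT _).1 this)
    rw [← sq, ← pow_mul, pow_eq_pow_mod _ (h.f3 x), sq, ← h.add] at k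
    exact two_x x (h.inj _ k)
  rw [h.f0, one_mul] at mN ⊢
  have uT : s u4 ∈ T := mm_u ▸ sT (0, true)
  have k := pow16 h e ((hT _).1 (mul_mem (mN _ uT) uT))
  have w' := (hM.mul w).mul hM.tr
  rw [h.scj hM w, ← h.mul _ _ w' w, ← h.spow (w'.mul w), ← h.s1] at k
  rcases mat_fin M hM.1 k2 (h.sinj ((w'.mul w).pow _) W.one k) with ⟨p, rfl | rfl⟩
  · exact sT p
  · rw [h.mul _ _ W_mT (mm_W p).1]
    exact mul_mem ((hT _).2 (in2_E h e e.tE)) (sT p)

theorem St.max2 (h : St true f s i) (e : EE true f s i φ) : ∃ R : Subgroup G,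
    (∀ g, g ∈ R ↔ ∃ a ∈ Eg f s i, ∃ d, g = a * s (dm d)) ∧ s u4 ∉ R := by
  have w := W_u4
  obtain ⟨R, hR⟩ := ex_sub h e (fun M => ∃ d, M = dm d) ⟨0, by decide +kernel⟩
    (by rintro _ _ ⟨p, rfl⟩ ⟨q, rfl⟩; exact ⟨_, (dm_add p q).symm⟩)
    (by rintro _ ⟨d, rfl⟩; exact ⟨W_dm d, by revert d; decide +kernel⟩)
  refine ⟨R, fun g => (hR g).trans (exists_congr fun a => and_congr_right fun _ =>
    ⟨by rintro ⟨_, ⟨p, rfl⟩, e⟩; exact ⟨p, e⟩, fun ⟨p, e⟩ => ⟨_, ⟨p, rfl⟩, e⟩⟩), fun k => ?_⟩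
  obtain ⟨a, ha, _, ⟨d, rfl⟩, e1⟩ := (hR _).1 k
  have n : ∀ d, u4 ≠ dm d ∧ u4 ≠ mT * dm d := by decide +kernel
  rcases e.EN a ha ((mul_mem_cancel_right (h.sN (W_dm d))).1 (e1 ▸ h.sN w)) with rfl | rfl
  · exact (n d).1 (h.sinj w (W_dm d) (e1.trans (one_mul _)))
  · exact (n d).2 (h.sinj w (W_mT.mul (W_dm d)) (e1.trans (h.mul _ _ W_mT (W_dm d)).symm))

end H12.O83
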