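import Cfsg.Agent.Lib.O83.Bas
import Cfsg.Agent.Lib.LocStruct.SylowIn

/-! The Sylow 3-subgroup `J ⟨w, β⟩` (package WF, first part). -/

set_option autoImplicit false
set_option linter.unusedSectionVars false

namespace H12.O83.WF

open Subgroup H20.L43 H69

/-- the group of order nine generated by `mO` and `mB` -/
def L9 : List M4 := [1, mB, mB * mB, mO, mO * mB, mO * (mB * mB), mO * mO, mO * mO * mB,
  mO * mO * (mB * mB)]

theorem l9_w : ∀ M ∈ L9, W false M := by decide +kernel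
theorem l9_mul : ∀ M ∈ L9, ∀ N ∈ L9, M * N ∈ L9 ∧ M * N = N * M := by decide +kernel
theorem l9_tr : ∀ M ∈ L9, tr M ∈ L9 ∧ M ^ 3 = 1 ∧ mv M vz = vz := by decide +kernel
theorem l9_1 : (1 : M4) ∈ L9 := by decide +kernel
theorem l9_O : mO ∈ L9 := by decide +kernel
theorem l9_B : mB ∈ L9 := by decide +kernel
theorem l9_ex : ∀ M ∈ L9, ∃ m n : Fin 3, M = mO ^ m.val * mB ^ n.val := by decide +kernel
theorem fixO : ∀ x : V4, mv mO x = x → ∃ a b : ZMod 3, x = a • vz + b • vr := by decide +kernel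
theorem l9_fix : ∀ M ∈ L9, ∀ x : V4, mv mO x = x → ∃ c : ZMod 3, mv M x = x + c • vz := by
  decide +kernel
theorem l9_e4 : ∀ M ∈ L9, mv M e4 = e4 + rt M • vz := by decide +kernel

theorem l9_pow {M : M4} (h : M ∈ L9) (n : ℕ) : M ^ n ∈ L9 := by
  induction n with
  | zero => rw [pow_zero]; exact l9_1
  | succ n ih => rw [pow_succ]; exact (l9_mul _ ih _ h).1

theorem cenO (M : M4) (h : Orth M) : M * mO = mO * M →
    M ∈ L9 ∨ M * mT ∈ L9 ∨ M * (-1) ∈ L9 ∨ M * (-mT) ∈ L9 :=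
  forall_orth (P := fun M => M * mO = mO * M →
    M ∈ L9 ∨ M * mT ∈ L9 ∨ M * (-1) ∈ L9 ∨ M * (-mT) ∈ L9) (by decide +kernel) M h

set_option synthInstance.maxSize 2000 in
theorem linZ (M : M4) (h : Orth M) : sg M = 1 → ∀ c : ZMod 3, mv M vz = c • vz →
    c ≠ 0 ∧ ∃ k : ZMod 3, mv M e4 = c • e4 + k • vz :=
  forall_orth (P := fun M => sg M = 1 → ∀ c : ZMod 3, mv M vz = c • vz →
    c ≠ 0 ∧ ∃ k : ZMod 3, mv M e4 = c • e4 + k • vz) (by decide +kernel) M h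

theorem rt_tr (M : M4) (h : Orth M) : sg M = 1 → rt (tr M) = -rt M :=
  forall_orth (P := fun M => sg M = 1 → rt (tr M) = -rt M) (by decide +kernel) M h

theorem rt_cj {M N : M4} (hM : W false M) (hN : W false N) : rt (N * M * tr N) = rt M := by
  have a := hM.2.resolve_left (by simp)
  have b := hN.2.resolve_left (by simp)
  rw [rt_mul (hN.1.mul hM.1) hN.1.tr, rt_mul hN.1 hM.1, sg_mul hN.1 hM.1, a, b, rt_tr N hN.1 b]
  ring

variable {G : Type*} [Group G] [Finite G] {l : Bool} {f : V4 → G} {s : M4 → G} {i : G}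

/-- the Sylow 3-subgroup -/
def Sg (h : St l f s i) : Subgroup G where
  carrier := {g | ∃ x, ∃ M ∈ L9, g = f x * s M}
  one_mem' := ⟨0, 1, l9_1, by rw [h.f0, h.s1, mul_one]⟩
  mul_mem' := by
    rintro _ _ ⟨x, M, hM, rfl⟩ ⟨y, N, hN, rfl⟩
    exact ⟨_, _, (l9_mul M hM N hN).1, h.fs_mul (l9_w M hM).of (l9_w N hN).of x y⟩
  inv_mem' := by
    rintro _ ⟨x, M, hM, rfl⟩
    refine ⟨mv (tr M) (-x), _, (l9_tr M hM).1, ?_⟩
    rw [← h.sf (l9_w M hM).of.tr, h.sinv (l9_w M hM).of, h.fneg, mul_inv_rev]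

theorem eqns_wf : True := by
  have := @L9.eq_1
  have := @Sg.eq_1.{0}
  trivial

variable (h : St l f s i)

theorem mem_S (x : V4) {M : M4} (hM : M ∈ L9) : f x * s M ∈ Sg h := ⟨x, M, hM, rfl⟩

theorem f_S (x : V4) : f x ∈ Sg h := ⟨x, 1, l9_1, by rw [h.s1, mul_one]⟩

theorem S_le : Sg h ≤ NJ f := by
  rintro _ ⟨x, M, hM, rfl⟩
  exact mul_mem (h.fN x) (h.sN (l9_w M hM).of)

theorem S_z {a : G} (ha : a ∈ Sg h) : a * f vz = f vz * a := by
  obtain ⟨x, M, hM, rfl⟩ := ha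
  exact (h.com_f (l9_w M hM).of).2 (l9_tr M hM).2.2

theorem S_pg : IsPGroup 3 (Sg h) := pg3 (n := 2) (by
  rintro _ ⟨x, M, hM, rfl⟩
  obtain ⟨y, e⟩ := h.fs_pow (l9_w M hM).of x 3
  rw [pow_two, pow_mul, e, (l9_tr M hM).2.1, h.s1, mul_one, h.f3])

theorem S_syl : IsSylowIn 3 (Sg h) ⊤ := ⟨le_top, S_pg h, fun R hR _ hp => by
  obtain ⟨k, hk⟩ := h.syl R hp
  refine (eq_of_le_of_card_ge hR ((card_cj R k).ge.trans (card_le_of_le fun y hy => ?_))).symm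
  obtain ⟨g, hg, rfl⟩ := mem_cj'.1 hy
  obtain ⟨x, m, n, e⟩ := hk g hg
  refine ⟨x, _, (l9_mul _ (l9_pow l9_O m) _ (l9_pow l9_B n)).1, ?_⟩
  rw [e, h.mul _ _ (W_mO.pow m) (W_mB.pow n), h.spow W_mO, h.spow W_mB]⟩

theorem into_S {N P : Subgroup G} (hN : Sg h ≤ N) (hP : IsPGroup 3 P) (hPN : P ≤ N) :
    ∃ k ∈ N, ∀ g ∈ P, k * g * k⁻¹ ∈ Sg h := by
  obtain ⟨k, hk, e⟩ := ((S_syl h).mono hN le_top).exists_cj_le hP hPN
  exact ⟨k, hk, fun g hg => e (cj_mem k hg)⟩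

include h in
theorem com_fs {M N : M4} (hM : M ∈ L9) (hN : N ∈ L9) (x y : V4) :
    f x * s M * (f y * s N) * (f x * s M)⁻¹ * (f y * s N)⁻¹ = f (x + mv M y - (y + mv N x)) := by
  have a : W l M := (l9_w M hM).of
  have b : W l N := (l9_w N hN).of
  rw [mul_assoc _ _ (f y * s N)⁻¹, ← mul_inv_rev, h.fs_mul a b, h.fs_mul b a, (l9_mul M hM N hN).2,
    h.fsub]
  group

include h in
/-- `f z` is a commutator -/
theorem z_com (u : V4) : f u * s mB * f vr * (f u * s mB)⁻¹ * (f vr)⁻¹ = f vz := by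
  rw [h.fs_cj W_mB, ← h.fsub]
  rfl

end H12.O83.WF
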