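import Cfsg.Agent.Lib.O83.Bas
import Cfsg.Agent.Lib.O83.WF0

/-! Fusion of the triality element (package WF). -/

set_option autoImplicit false
set_option linter.unusedSectionVars false

namespace H12.O83

open Subgroup H20.L43 H69

variable {G : Type*} [Group G] [Finite G] {l : Bool} {f : V4 → G} {s : M4 → G} {i : G}

namespace WF

variable (h : St l f s i)

theorem mem_R {a : G} : a ∈ Sg h ⊓ Ce (s mO) ↔ ∃ x, mv mO x = x ∧ ∃ M ∈ L9, a = f x * s M := by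
  constructor
  · rintro ⟨⟨x, M, hM, rfl⟩, e⟩
    exact ⟨x, ((h.com_s (l9_w M hM).of W_mO).1 (mem_Ce.1 e)).1, M, hM, rfl⟩
  · rintro ⟨x, e, M, hM, rfl⟩
    exact ⟨mem_S h x hM, mem_Ce.2 ((h.com_s (l9_w M hM).of W_mO).2 ⟨e, (l9_mul M hM _ l9_O).2⟩)⟩

theorem cenO' {M : M4} (hM : W l M) (e : M * mO = mO * M) : ∃ N, W l N ∧ N * N = 1 ∧
    N * mT = mT * N ∧ (∃ c : ZMod 3, mv N vz = c • vz) ∧ M * N ∈ L9 := by
  rcases cenO M hM.1 e with k | k | k | k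
  · exact ⟨1, W.one, by decide, by decide, ⟨1, by decide⟩, by rwa [mul_one]⟩
  · exact ⟨mT, W_mT, by decide, by decide, ⟨1, by decide⟩, k⟩
  · exact ⟨-1, W.one.neg, by decide, by decide, ⟨-1, by decide⟩, k⟩
  · exact ⟨-mT, W_mT.neg, by decide, by decide, ⟨-1, by decide⟩, k⟩

theorem into_R {P : Subgroup G} (hP : IsPGroup 3 P) (hw : ∀ g ∈ P, g * s mO = s mO * g) :
    ∃ c, c * s mO = s mO * c ∧ ∀ g ∈ P, c * g * c⁻¹ ∈ Sg h ⊓ Ce (s mO) := by
  set R := Sg h ⊓ Ce (s mO) with hR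
  refine (conj_into (N := Ce (s mO)) (R := R) ((S_pg h).to_le inf_le_left) (fun g hg hn h3 => ?_)
    inf_le_right hP fun g hg => mem_Ce.2 (hw g hg)).imp fun c hc => ⟨mem_Ce.1 hc.1, hc.2⟩
  have gz : g * f vz * g⁻¹ ∈ zpowers (f vz) := by
    obtain ⟨x, x1, M, hM, e1⟩ := (mem_R h).1 (hn _ ((mem_R h).2 ⟨0, by decide, mB, l9_B, rfl⟩))
    obtain ⟨y, y1, N, hN, e2⟩ := (mem_R h).1 (hn _ ((mem_R h).2 ⟨vr, by decide, 1, l9_1, rfl⟩))
    obtain ⟨c, hc⟩ := l9_fix M hM y y1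
    obtain ⟨d, hd⟩ := l9_fix N hN x x1
    rw [h.s1, mul_one] at e2
    refine h.mem_zp.2 ⟨c - d, ?_⟩
    have := com_fs h hM hN x y
    rw [hc, hd, show x + (y + c • vz) - (y + (x + d • vz)) = (c - d) • vz by rw [sub_smul]; abel,
      ← e1, ← e2] at this
    rw [← this]
    conv_rhs => rw [← z_com h 0]
    group
  obtain ⟨b, hb, gb⟩ := h.nz g gz
  obtain ⟨x, M, hM, e⟩ := h.dec _ gb
  have cw := (h.com_s hM W_mO (x := x)).1 (by
    rw [← e, mul_assoc, h.Bw hb, ← mul_assoc, mem_Ce.1 hg, mul_assoc])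
  obtain ⟨N, hN, n1, n2, ⟨c, n3⟩, n4⟩ := cenO' hM cw.2
  have ρR : f x * s (M * N) ∈ R := (mem_R h).2 ⟨x, cw.1, _, n4, rfl⟩
  have eg : g = f x * s (M * N) * (s N * b⁻¹) := by
    rw [h.mul _ _ hM hN, ← mul_assoc, mul_assoc _ _ (s N), mul_assoc _ _ (s N), h.ssq hN n1, mul_one,
      ← e, mul_inv_cancel_right]
  have c8 : (s N * b⁻¹) ^ 8 = 1 := by
    have k := h.B4 (mul_mem (h.nB (g := s N) (by rw [h.act N hN, n3]; exact h.mem_zp.2 ⟨c, rfl⟩)
      (h.scomm hN W_mT n2) (inv_mem hb)) (inv_mem hb))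
    rw [inv_eq_of_mul_eq_one_right (h.ssq hN n1)] at k
    rw [show 8 = 2 * 4 from rfl, pow_mul, pow_two, ← k]
    simp only [mul_assoc]
  generalize f x * s (M * N) = ρ at ρR eg
  generalize s N * b⁻¹ = c at eg c8
  have cn : c ∈ normalizer (R : Set G) := by
    have := mul_mem (inv_mem (le_normalizer ρR)) (mem_norm hn)
    rwa [eg, inv_mul_cancel_left] at this
  have c3 : c ^ 3 ∈ R := by
    have k := mul_mem (mul_mem ρR (conj_mem cn ρR)) (conj_mem cn (conj_mem cn ρR))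
    have := mul_mem (inv_mem k) h3
    rw [eg] at this
    convert this using 1
    simp only [pow_succ, pow_zero, one_mul, mul_inv_rev, inv_inv, mul_assoc, inv_mul_cancel_left,
      mul_inv_cancel_left]
  have := pow_mem c3 3
  rw [← pow_mul, show 3 * 3 = 8 + 1 from rfl, pow_succ, c8, one_mul] at this
  exact eg ▸ mul_mem ρR this

end WF

open WF

theorem St.sylw (h : St l f s i) {P : Subgroup G} (hP : IsPGroup 3 P)
    (hw : ∀ g ∈ P, g * s mO = s mO * g) : ∃ c, c * s mO = s mO * c ∧ ∀ g ∈ P, ∃ a b : ZMod 3,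
      ∃ m n : ℕ, c * g * c⁻¹ = f (a • vz + b • vr) * (s mO ^ m * s mB ^ n) := by
  obtain ⟨c, hc, e⟩ := into_R h hP hw
  refine ⟨c, hc, fun g hg => ?_⟩
  obtain ⟨x, x1, M, hM, k⟩ := (mem_R h).1 (e g hg)
  obtain ⟨a, b, rfl⟩ := fixO x x1
  obtain ⟨m, n, rfl⟩ := l9_ex M hM
  exact ⟨a, b, m, n, by rw [k, h.mul _ _ (W_mO.pow _) (W_mB.pow _), h.spow W_mO, h.spow W_mB]⟩

theorem St.wnJ (h : St l f s i) (k : G) (x : V4) : k * s mO * k⁻¹ ≠ f x := fun e => by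
  have hJ : IsPGroup 3 (Jg f) := (S_pg h).to_le fun g hg => by
    obtain ⟨y, rfl⟩ := h.mem_J.1 hg
    exact f_S h y
  obtain ⟨c, hc, e1⟩ := into_R h (isPGroup_cj hJ k⁻¹) fun g hg => by
    obtain ⟨y, e2⟩ := h.mem_J.1 (mem_cj.1 hg)
    have := h.fcomm x y
    rw [← e, e2, inv_inv] at this
    calc _ = k⁻¹ * (k * g * k⁻¹ * (k * s mO * k⁻¹)) * k := by group
      _ = _ := by rw [← this]; group
  have n : c * k⁻¹ ∈ NJ f := h.wc fun y => by
    have := S_le h (e1 _ (cj_mem k⁻¹ (h.mem_J.2 ⟨y, rfl⟩))).1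
    convert this using 1
    group
  obtain ⟨y, hy⟩ := h.mem_NJ.1 n x
  have : f y * s 1 = f 0 * s mO := by
    rw [h.s1, h.f0, mul_one, one_mul, ← hy, ← e]
    calc _ = c * s mO * c⁻¹ := by group
      _ = _ := by rw [hc, mul_inv_cancel_right]
  exact absurd (h.uniq W.one W_mO this).2 (by decide)

namespace WF

variable (h : St l f s i)
include h

theorem cj_add {b : G} (hb : b ∈ Bq f i) (a : ZMod 3) {u : V4} (e : b * f vr * b⁻¹ = f u * s mB) :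
    b⁻¹ * (f (a • vz + u) * s mB) * b⁻¹⁻¹ = f (a • vz + vr) := by
  have : Commute b (f (a • vz)) := by
    rw [h.fsmul]
    exact (show Commute b _ from h.Bz hb).pow_right _
  rw [h.add, h.add, mul_assoc (f _), ← e, ← mul_assoc (f _), ← mul_assoc (f _), ← this.eq]
  group

theorem toJ1 {x : V4} (hx : mv mO x = x) :
    ∃ b ∈ Bq f i, ∃ y, mv mO y = y ∧ b * (f x * s mB) * b⁻¹ = f y := by
  have e1 : i * f vr * i⁻¹ = f 0 * s mB := by rw [h.f0, one_mul, h.ir]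
  have e2 : jj f i * f vr * (jj f i)⁻¹ = f (vr - vz) * s mB := by
    calc _ = f v1 * (i * ((f v1)⁻¹ * (f vr * f v1)) * i⁻¹) * (f v1)⁻¹ := by rw [jj]; group
      _ = f v1 * (s mB * f (-v1)) := by rw [h.fcomm vr, inv_mul_cancel_left, h.ir, h.fneg, mul_assoc]
      _ = _ := by rw [h.sf W_mB, ← mul_assoc, ← h.add]; rfl
  have e3 : i * jj f i * f vr * (i * jj f i)⁻¹ = f (vz - vr) * s mB := by
    have a1 : i * s mB * i⁻¹ = f (-vr) := by
      rw [← h.ir, show -vr = mv mT vr by decide, ← h.act _ W_mT, ← h.i2]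
      group
    calc _ = i * (jj f i * f vr * (jj f i)⁻¹) * i⁻¹ := by group
      _ = i * f vr * i⁻¹ * (i * f vz * i⁻¹)⁻¹ * (i * s mB * i⁻¹) := by rw [e2, h.fsub]; group
      _ = s mB * f (-vz + -vr) := by
        rw [h.ir, h.iz, mul_inv_cancel_right, a1, h.add, h.fneg vz, mul_assoc]
      _ = _ := by rw [h.sf W_mB]; rfl
  have k : ∀ a : ZMod 3, mv mO (a • vz + vr) = a • vz + vr := by decide
  have : ∀ x : V4, mv mO x = x → ∃ a : ZMod 3,
      x = a • vz + 0 ∨ x = a • vz + (vr - vz) ∨ x = a • vz + (vz - vr) := by decide +kernel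
  obtain ⟨a, rfl | rfl | rfl⟩ := this x hx
  · exact ⟨_, inv_mem h.iB, _, k a, cj_add h h.iB a e1⟩
  · exact ⟨_, inv_mem h.jB, _, k a, cj_add h h.jB a e2⟩
  · exact ⟨_, inv_mem (mul_mem h.iB h.jB), _, k a, cj_add h (mul_mem h.iB h.jB) a e3⟩

theorem toJ {x : V4} (hx : mv mO x = x) (n : Fin 3) :
    ∃ b ∈ Bq f i, ∃ y, mv mO y = y ∧ b * (f x * s (mB ^ n.val)) * b⁻¹ = f y := by
  fin_cases n
  · exact ⟨1, one_mem _, x, hx, by simp [h.s1]⟩
  · simpa using toJ1 h hx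
  · have k : ∀ x : V4, mv mO x = x → mv mO (mv mT x) = mv mT x := by decide +kernel
    obtain ⟨b, hb, y, y1, e⟩ := toJ1 h (k x hx)
    refine ⟨b * s mT, mul_mem hb h.tB, y, y1, ?_⟩
    have a := h.scj W_mT (W_mB.pow 2)
    rw [show mT * mB ^ 2 * tr mT = mB by decide] at a
    rw [← e, ← h.act _ W_mT]
    conv_rhs => rw [← a]
    group

end WF

namespace WF

variable (h : St false f s i)
include h

theorem RT {g : G} (hg : g * f vz * g⁻¹ ∈ zpowers (f vz)) {x y : V4} {M N : M4} (hM : M ∈ L9)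
    (hN : N ∈ L9) (e : g * (f x * s M) * g⁻¹ = f y * s N) : rt M = rt N := by
  obtain ⟨b, hb, gb⟩ := h.nz g hg
  obtain ⟨u, A, hA, e1⟩ := h.dec _ gb
  have k : ∀ c : ZMod 3, g * f (e4 + c • vz) * g⁻¹ = f (mv A (e4 + c • vz)) := fun c => by
    have : Commute b (f (e4 + c • vz)) := by
      rw [h.add, h.fsmul]
      exact (show Commute b _ from h.Be hb).mul_right ((show Commute b _ from h.Bz hb).pow_right _)
    rw [← h.fs_cj hA u, ← e1, mul_assoc g b, this.eq]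
    group
  obtain ⟨c, hc⟩ := h.mem_zp.1 hg
  have k2 : mv A vz = c • vz := h.finj (by
    rw [hc, ← h.fs_cj hA u, ← e1, mul_assoc g b, h.Bz hb]
    group)
  obtain ⟨c0, d, k3⟩ := linZ A hA.1 (hA.2.resolve_left (by simp)) c k2
  have k4 : mv N (mv A (e4 + (0 : ZMod 3) • vz)) = mv A (e4 + rt M • vz) := h.finj (by
    rw [← h.fs_cj (l9_w N hN) y, ← e, ← k, ← k, ← l9_e4 M hM, ← h.fs_cj (l9_w M hM) x, zero_smul,
      add_zero]
    group)
  rw [zero_smul, add_zero, mv_add, mv_smul, k2, k3, mv_add, mv_smul, mv_smul, l9_e4 N hN,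
    (l9_tr N hN).2.2] at k4
  have : ∀ c d p q : ZMod 3, c ≠ 0 → c • (e4 + q • vz) + d • vz = c • e4 + d • vz + p • c • vz →
      p = q := by decide +kernel
  exact this c d _ _ c0 k4

theorem ZW {k : G} {x : V4} (hx : mv mO x = x) {m : Fin 3}
    (e : k * (f x * s (mO ^ m.val)) * k⁻¹ = f vz) : m = 0 := by
  by_contra m0
  have hm := l9_pow l9_O m.val
  set a := f x * s (mO ^ m.val) with ha
  have t1 : ∀ m : Fin 3, m ≠ 0 → rt (mO ^ m.val) ≠ rt 1 ∧ mv (mO ^ m.val) vr = vr := by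
    decide +kernel
  have t2 : ∀ m : Fin 3, m ≠ 0 → ∀ x : V4, mv mO x = x →
      ∃ u : V4, u + mv mB x = x + mv (mO ^ m.val) u := by decide +kernel
  obtain ⟨r0, r1⟩ := t1 m m0
  obtain ⟨u, hu⟩ := t2 m m0 x hx
  have aS : a ∈ Sg h := mem_S h x hm
  have a1 : a ∈ Sg h ⊓ Ce a := ⟨aS, mem_Ce.2 rfl⟩
  have a2 : f vr ∈ Sg h ⊓ Ce a := ⟨f_S h _, mem_Ce.2 ((h.com_f (l9_w _ hm)).2 r1).symm⟩
  have a3 : f u * s mB ∈ Sg h ⊓ Ce a := ⟨mem_S h u l9_B, mem_Ce.2 (by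
    rw [ha, h.fs_mul W_mB (l9_w _ hm), h.fs_mul (l9_w _ hm) W_mB, hu, (l9_mul _ hm _ l9_B).2])⟩
  obtain ⟨c, hc, e1⟩ := into_S h (N := Ce (f vz)) (fun g hg => mem_Ce.2 (S_z h hg))
    (isPGroup_cj ((S_pg h).to_le (inf_le_left (b := Ce a))) k) fun g hg => by
      obtain ⟨p, hp, rfl⟩ := mem_cj'.1 hg
      rw [mem_Ce, ← e, conj_mul, conj_mul, mem_Ce.1 hp.2]
  obtain ⟨x1, M1, m1, e2⟩ := e1 _ (cj_mem k a3)
  obtain ⟨x2, M2, m2, e3⟩ := e1 _ (cj_mem k a2)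
  have e4' := com_fs h m1 m2 x1 x2
  rw [← e2, ← e3] at e4'
  obtain ⟨n, hn, e5⟩ := h.fus (g := c * k) (A := {vz}) (by
    rintro _ rfl
    refine ⟨_, Eq.trans ?_ e4'⟩
    conv_lhs => rw [← z_com h u]
    group)
  obtain ⟨y, hy⟩ := h.mem_NJ.1 (inv_mem hn) vz
  refine r0 (RT h (g := n⁻¹ * (c * k)) (x := x) (y := y) ?_ hm l9_1 ?_)
  · have : n⁻¹ * (c * k) * f vz * (n⁻¹ * (c * k))⁻¹ = n⁻¹ * (c * k * f vz * (c * k)⁻¹) * n := by group
    rw [this, ← e5 vz rfl]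
    simp [mul_assoc]
  · rw [h.s1, mul_one, ← hy]
    calc _ = n⁻¹ * (c * (k * a * k⁻¹) * c⁻¹) * n := by rw [ha]; group
      _ = _ := by rw [e, mem_Ce.1 hc]; group

theorem cj_z {g : G} (hg : g * f vz * g⁻¹ ∈ Sg h ⊓ Ce (s mO)) : g * f vz * g⁻¹ ∈ zpowers (f vz) := by
  obtain ⟨x, x1, M, hM, e⟩ := (mem_R h).1 hg
  obtain ⟨m, n, rfl⟩ := l9_ex M hM
  obtain ⟨b, hb, y, y1, e1⟩ := toJ h x1 n
  have e2 : b * g * f vz * (b * g)⁻¹ = f y * s (mO ^ m.val) := by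
    have : Commute b (s (mO ^ m.val)) := by
      rw [h.spow W_mO]
      exact (show Commute b _ from h.Bw hb).pow_right _
    rw [(l9_mul _ (l9_pow l9_O _) _ (l9_pow l9_B _)).2, h.mul _ _ (W_mB.pow _) (W_mO.pow _)] at e
    calc _ = b * (g * f vz * g⁻¹) * b⁻¹ := by group
      _ = b * (f x * s (mB ^ n.val)) * (s (mO ^ m.val) * b⁻¹) := by rw [e]; group
      _ = _ := by rw [← this.inv_left.eq, ← mul_assoc, e1]
  have m0 : m = 0 := ZW h (k := (b * g)⁻¹) y1 (by rw [← e2]; group)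
  subst m0
  rw [show mO ^ (0 : Fin 3).val = 1 from rfl, h.s1, mul_one] at e2
  have : ∀ y : V4, mv mO y = y → dt vz vz = dt y y → ∃ c : ZMod 3, y = c • vz := by decide +kernel
  obtain ⟨c, rfl⟩ := this y y1 (h.fus_dt e2)
  refine h.mem_zp.2 ⟨c, ?_⟩
  have k : Commute b (f (c • vz)) := by
    rw [h.fsmul]
    exact (show Commute b _ from h.Bz hb).pow_right _
  calc _ = b⁻¹ * (f (c • vz) * b) := by rw [← k.eq, inv_mul_cancel_left]
    _ = _ := by rw [← e2]; group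

end WF

theorem St.wrt (h : St false f s i) {k : G} {x : V4} {M : M4} (hM : W false M)
    (e : k * s mO * k⁻¹ = f x * s M) : rt M = 1 := by
  have w3 : (k * s mO * k⁻¹) ^ 3 = 1 := by rw [conj_pow, h.a3]; group
  obtain ⟨n, hn, e1⟩ := into_S h (S_le h) (P := zpowers (k * s mO * k⁻¹)) (pg3 (n := 1) (by
    rintro _ ⟨j, rfl⟩
    rw [pow_one, ← zpow_natCast, ← zpow_mul, mul_comm, zpow_mul, zpow_natCast, w3, one_zpow]))
    (zpowers_le.2 (e ▸ mul_mem (h.fN x) (h.sN hM)))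
  have aS := e1 _ (mem_zpowers _)
  obtain ⟨y, A, hA, e2⟩ := id aS
  obtain ⟨u, N, hN, rfl⟩ := h.dec n hn
  have e3 : N * M * tr N = A := by
    refine (h.uniq ((hN.mul hM).mul hN.tr) (l9_w A hA) (x := u + mv N x + mv (N * M * tr N) (-u))
      (y := y) ?_).2
    rw [← e2, e, h.fs_mul hN hM, mul_inv_rev, ← h.sinv hN, ← h.fneg, ← mul_assoc, mul_assoc (f _),
      ← h.mul _ _ (hN.mul hM) hN.tr, mul_assoc (f (u + mv N x)), h.sf ((hN.mul hM).mul hN.tr),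
      ← mul_assoc, ← h.add]
  rw [← rt_cj hM hN, e3]
  generalize f u * s N = n at e2 aS
  obtain ⟨c, hc, e4⟩ := into_R h (P := zpowers ((n * k)⁻¹ * f vz * (n * k)⁻¹⁻¹)) (pg3 (n := 1) (by
    rintro _ ⟨j, rfl⟩
    rw [pow_one, ← zpow_natCast, ← zpow_mul, mul_comm, zpow_mul, zpow_natCast, conj_pow, h.f3]
    simp)) fun g hg => mem_Ce.1 ((zpowers_le (H := Ce (s mO))).2 (mem_Ce.2 (by
      calc _ = (n * k)⁻¹ * (f vz * (n * (k * s mO * k⁻¹) * n⁻¹)) * (n * k) := by group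
        _ = _ := by rw [← S_z h aS]; group)) hg)
  have e5 := cj_z h (g := c * (n * k)⁻¹) (by
    convert e4 _ (mem_zpowers _) using 1
    group)
  refine (RT h e5 (x := y) (y := 0) hA l9_O ?_).trans (by decide)
  rw [← e2, h.f0, one_mul]
  calc _ = c * s mO * c⁻¹ := by group
    _ = _ := by rw [hc, mul_inv_cancel_right]

end H12.O83
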