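import Cfsg.Agent.Lib.O83.Gen
import Cfsg.Agent.Lib.O83.E2
import Cfsg.Agent.Lib.O83.WF
import Cfsg.Agent.Lib.O83.T2a

/-! Three non-fusion results for the short reflection (package T2B). -/

set_option autoImplicit false
set_option linter.unusedSectionVars false

namespace H12.O83

open Subgroup H20.L43 H69

variable {G : Type*} [Group G] [Finite G] {l : Bool} {f : V4 → G} {s : M4 → G} {i : G}

variable {φ : G → D3 → ZMod 2}

namespace T2B

/-- the group generated by the three-cycle -/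
def P3 (M : M4) : Prop := M = 1 ∨ M = mB ∨ M = mB * mB
/-- the rotation -/
def mR : M4 := ⟨0, -1, 0, 0, 1, 0, 0, 0, 0, 0, 1, 0, 0, 0, 0, 1⟩
/-- the sixteen matrices -/
def L16 : List M4 := [1, mR, mR * mR, mR * mR * mR].flatMap fun M => [M, M * u1, M * u4, M * u1 * u4]

instance (M : M4) : Decidable (P3 M) := by unfold P3; infer_instance

theorem eqns_t2b : True := by
  have := @P3.eq_1
  have := @mR.eq_1
  have := @L16.eq_1
  trivial

theorem P3.ind {Q : M4 → Prop} (h : Q 1 ∧ Q mB ∧ Q (mB * mB)) {M : M4} (hM : P3 M) : Q M := by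
  rcases hM with rfl | rfl | rfl
  exacts [h.1, h.2.1, h.2.2]

theorem P3.spec {M : M4} (hM : P3 M) : W true M ∧ M * u4 = u4 * M ∧ M ^ 3 = 1 ∧ (mv M vr = vr → M = 1) ∧
    P3 (M * 1) ∧ P3 (M * mB) ∧ P3 (M * (mB * mB)) ∧ ∀ x, mv u4 x = x → mv u4 (mv M x) = mv M x :=
  hM.ind (Q := fun M => W true M ∧ M * u4 = u4 * M ∧ M ^ 3 = 1 ∧ (mv M vr = vr → M = 1) ∧
    P3 (M * 1) ∧ P3 (M * mB) ∧ P3 (M * (mB * mB)) ∧ ∀ x, mv u4 x = x → mv u4 (mv M x) = mv M x)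
    ⟨by decide +kernel, by decide +kernel, by decide +kernel⟩

theorem P3.comm {M N : M4} (hM : P3 M) (hN : P3 N) : M * N = N * M :=
  hM.ind (Q := fun M => M * N = N * M) (hN.ind (Q := fun N => 1 * N = N * 1 ∧ mB * N = N * mB ∧
    mB * mB * N = N * (mB * mB)) (by decide +kernel))

theorem fin1 (M : M4) (hM : Orth M) : M * u4 = u4 * M → P3 (M ^ 3) → P3 (M * mB * tr M) → P3 M :=
  forall_orth (P := fun M => M * u4 = u4 * M → P3 (M ^ 3) → P3 (M * mB * tr M) → P3 M) (by decide +kernel) M hM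

theorem fin2 (M : M4) (hM : Orth M) : M * (u1 * u2) = u1 * u2 * M → M ^ 3 = 1 → M = 1 :=
  forall_orth (P := fun M => M * (u1 * u2) = u1 * u2 * M → M ^ 3 = 1 → M = 1) (by decide +kernel) M hM

theorem fin3 (M : M4) (hM : Orth M) : mv (u1 * u2) (mv M e1) = mv M e1 → mv (u1 * u2) (mv M e2) = mv M e2 →
    mv (u1 * u2) (mv M e3) ≠ mv M e3 :=
  forall_orth (P := fun M => mv (u1 * u2) (mv M e1) = mv M e1 → mv (u1 * u2) (mv M e2) = mv M e2 →
    mv (u1 * u2) (mv M e3) ≠ mv M e3) (by decide +kernel) M hM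

theorem fin4 (M : M4) (hM : Orth M) : mv M e3 = e3 → M * u4 = u4 * M → M ∈ L16 :=
  forall_orth (P := fun M => mv M e3 = e3 → M * u4 = u4 * M → M ∈ L16) (by decide +kernel) M hM

theorem l16 : ∀ M ∈ L16, (M ^ 4 = 1 ∧ (mv M e1 = e1 → mv M e2 = e2 → M = 1 ∨ M = u4)) ∧
    (mv M e1 = e1 ∨ mv M e1 = -e1 ∨ mv M e1 = e2 ∨ mv M e1 = -e2) := by decide +kernel

theorem vec1 : ∀ M ∈ [mB, mB * mB], ∀ x, mv u4 x = x → x + mv M x + mv (M * M) x = 0 →
    ∃ y, -y + x + mv M y = 0 := by decide +kernel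

theorem vec2 : ∀ x, mv u4 x = x → dt x x = 1 → ∃ M ∈ [1, mB, mB * mB, -1, -mB, -(mB * mB)],
    W true M ∧ M * u4 = u4 * M ∧ mv M x = e3 := by decide +kernel

theorem vec3 : ∀ a b : ZMod 3, ¬(a = 0 ∧ b = 0) → Good (a • e1 + b • e2 + e3) e3 ∨
    ∃ M ∈ [cols e4 e2 e3 e1, cols e4 e2 e3 (-e1), cols e1 e4 e3 e2, cols e1 e4 e3 (-e2)],
      W true M ∧ mv M e3 = e3 ∧ mv M e4 = a • e1 + b • e2 := by decide +kernel

theorem sec : Sec true u4 e3 0 e1 e2 :=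
  ⟨by decide +kernel, by decide +kernel, by decide +kernel, by decide +kernel, by decide +kernel, by decide +kernel,
    by decide +kernel, by decide +kernel, by decide +kernel, ⟨vz, e1, by decide +kernel⟩,
    fun M hM c e _ => (l16 M (fin4 M hM.1 e c)).1⟩

theorem two_le {A B P : Subgroup G} (h : A ≤ B) {x : G} (h1 : x ∈ P) (h2 : x ∈ B) (h3 : x ∉ A) :
    2 * Nat.card (P ⊓ A : Subgroup G) ≤ Nat.card (P ⊓ B : Subgroup G) := by
  have le : P ⊓ A ≤ P ⊓ B := inf_le_inf_left P h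
  obtain ⟨k, hk⟩ := card_dvd_of_le le
  have p : 0 < Nat.card (P ⊓ B : Subgroup G) := Nat.card_pos
  have : k ≠ 1 := by
    rintro rfl
    exact h3 ((eq_of_le_of_card_ge le (by omega)).ge ⟨h1, h2⟩).2
  have : k ≠ 0 := by rintro rfl; omega
  rw [hk, mul_comm]
  exact Nat.mul_le_mul_left _ (by omega)

/-- elements of `E` with vanishing coordinates -/
def Kx {t : G} {E : Subgroup G} {δ : D3 → G} (e : EC t E φ δ) (X : List D3) : Subgroup G where
  carrier := {a | a ∈ E ∧ ∀ x ∈ X, φ a x = 0}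
  one_mem' := ⟨one_mem _, fun x _ => congrFun ((e.ker _ (one_mem _)).2 (Or.inl rfl)) x⟩
  mul_mem' := fun {a b} ha hb => ⟨mul_mem ha.1 hb.1, fun x hx => by
    rw [e.add a ha.1 b hb.1, Pi.add_apply, ha.2 x hx, hb.2 x hx, add_zero]⟩
  inv_mem' := fun {a} ha => ⟨inv_mem ha.1, fun x hx => by rw [T2A.phi_inv e ha.1, Pi.neg_apply, ha.2 x hx, neg_zero]⟩

theorem exR (h : St true f s i) : ∃ R : Subgroup G, ∀ g, g ∈ R ↔ ∃ x M, mv u4 x = x ∧ P3 M ∧ g = f x * s M := by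
  let R : Submonoid G :=
    { carrier := {g | ∃ x M, mv u4 x = x ∧ P3 M ∧ g = f x * s M}
      one_mem' := ⟨0, 1, mv_zero _, Or.inl rfl, by rw [h.s1, h.f0, mul_one]⟩
      mul_mem' := by
        rintro _ _ ⟨x, M, hx, hM, rfl⟩ ⟨y, N, hy, hN, rfl⟩
        obtain ⟨a1, -, -, -, a2, a3, a4, a5⟩ := hM.spec
        exact ⟨_, _, by rw [mv_add, hx, a5 y hy], hN.ind (Q := fun N => P3 (M * N)) ⟨a2, a3, a4⟩,
          h.fs_mul a1 hN.spec.1 x y⟩ }
  exact ⟨⟨R, fun {x} hx => Submonoid.powers_le.2 hx (mem_powers_iff_mem_zpowers.2 (inv_mem (mem_zpowers x)))⟩,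
    fun _ => Iff.rfl⟩

end T2B

open T2A T2B

theorem St.cu3 (h : St true f s i) {g : G} (h1 : g * s u4 = s u4 * g) (h3 : g ^ 3 = 1) :
    (∃ k x, k * s u4 = s u4 * k ∧ mv u4 x = x ∧ k * g * k⁻¹ = f x) ∨ ∃ k, k * g * k⁻¹ = f vr := by
  obtain ⟨R, hR⟩ := exR h
  have fR : ∀ x, mv u4 x = x → f x ∈ R := fun x hx => (hR _).2 ⟨x, 1, hx, Or.inl rfl, by rw [h.s1, mul_one]⟩
  have bR : s mB ∈ R := (hR _).2 ⟨0, mB, mv_zero _, Or.inr (Or.inl rfl), by rw [h.f0, one_mul]⟩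
  obtain ⟨k, hk, e⟩ := conj_into1 (N := Ce (s u4)) (R := R) (pg3 (n := 2) fun x hx => by
      obtain ⟨y, M, -, hM, rfl⟩ := (hR x).1 hx
      obtain ⟨z, e⟩ := h.fs_pow hM.spec.1 y 3
      rw [show 3 ^ 2 = 3 * 3 from rfl, pow_mul, e, hM.spec.2.2.1, h.s1, mul_one, h.f3])
    (fun g hg n c => by
      have n' : ∀ x ∈ R, g⁻¹ * x * g ∈ R := fun x hx => by simpa using conj_mem (inv_mem (mem_norm n)) hx
      obtain ⟨x, M, hM, rfl⟩ := h.dec g (h.NA (A := {x | mv u4 x = x}) (fun c hc =>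
        h.cz (p := vz) (x := e1) (by decide +kernel) (hc _ (by decide +kernel)) (hc _ (by decide +kernel))) fun x hx => by
          obtain ⟨y, M, -, hM, e⟩ := (hR _).1 (n _ (fR x hx))
          obtain ⟨a, A, -, hA, e1⟩ := (hR _).1 (n' _ bR)
          obtain ⟨b, B, -, hB, e2⟩ := (hR _).1 (n' _ (fR e2 (by decide +kernel)))
          have c : g⁻¹ * f vr * g = f (a + mv A b - (b + mv B a)) := by
            rw [show vr = mv mB O83.e2 - O83.e2 by decide +kernel, h.fsub, ← h.bB, h.fsub,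
              show ∀ u v : G, g⁻¹ * (u * v * u⁻¹ * v⁻¹) * g = g⁻¹ * u * g * (g⁻¹ * v * g) *
                (g⁻¹ * v * g * (g⁻¹ * u * g))⁻¹ from fun _ _ => by group, e1, e2,
              h.fs_mul hA.spec.1 hB.spec.1, h.fs_mul hB.spec.1 hA.spec.1, hA.comm hB]
            group
          have c' : g * f x * g⁻¹ * f vr = f vr * (g * f x * g⁻¹) := by
            calc _ = g * (f x * (g⁻¹ * f vr * g)) * g⁻¹ := by group
              _ = g * (g⁻¹ * f vr * g * f x) * g⁻¹ := by rw [c, h.fcomm]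
              _ = _ := by group
          rw [e] at c'
          exact ⟨y, by rw [e, hM.spec.2.2.2.1 ((h.com_f hM.spec.1).1 c'), h.s1, mul_one]⟩)
      obtain ⟨k1, k2⟩ := (h.com_s hM W_u4).1 (mem_Ce.1 hg)
      obtain ⟨y, e1⟩ := h.fs_pow hM x 3
      obtain ⟨a, A, -, hA, e2⟩ := (hR _).1 c
      obtain ⟨b, B, -, hB, e3⟩ := (hR _).1 (n _ bR)
      have w := (hM.mul W_mB).mul hM.tr
      rw [show f x * s M * s mB * (f x * s M)⁻¹ = f x * (s M * s mB * (s M)⁻¹) * (f x)⁻¹ by group, h.scj hM W_mB,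
        ← h.fneg, mul_assoc, h.sf w, ← mul_assoc, ← h.add] at e3
      exact (hR _).2 ⟨x, M, k1, fin1 M hM.1 k2 ((h.uniq (hM.pow 3) hA.spec.1 (e1.symm.trans e2)).2 ▸ hA)
        ((h.uniq w hB.spec.1 e3).2 ▸ hB), rfl⟩)
    (fun x hx => by
      obtain ⟨y, M, hy, hM, rfl⟩ := (hR x).1 hx
      exact mem_Ce.2 ((h.com_s hM.spec.1 W_u4).2 ⟨hy, hM.spec.2.1⟩)) h3 (mem_Ce.2 h1)
  obtain ⟨x, M, hx, hM, e⟩ := (hR _).1 e
  have cj : ∀ a k : G, a * k * g * (a * k)⁻¹ = a * (k * g * k⁻¹) * a⁻¹ := fun _ _ => by group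
  have key : M ∈ [mB, mB * mB] → ∃ k, k * g * k⁻¹ = s M := fun m => by
    have w := hM.spec.1
    have c : (f x * s M) ^ 3 = 1 := by rw [← e, conj_pow, h3]; simp
    rw [pow_succ, sq, h.fs_mul w w, h.fs_mul (w.mul w) w, ← sq, ← pow_succ, hM.spec.2.2.1, h.s1, mul_one] at c
    obtain ⟨y, e1⟩ := vec1 M m x hx (by simpa [sq] using h.inj _ c)
    refine ⟨f (-y) * k, ?_⟩
    rw [cj, e, ← h.fneg, neg_neg, mul_assoc,
      mul_assoc, h.sf w, ← mul_assoc, ← mul_assoc, ← h.add, ← h.add, e1, h.f0, one_mul]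
  rcases hM with rfl | rfl | rfl
  · exact Or.inl ⟨k, x, mem_Ce.1 hk, hx, by rw [e, h.s1, mul_one]⟩
  · obtain ⟨k, e⟩ := key (by simp)
    exact Or.inr ⟨i⁻¹ * k, by rw [cj, e, ← h.ir]; group⟩
  · obtain ⟨k, e⟩ := key (by simp)
    rw [show mB * mB = mT * mB * tr mT by decide +kernel, ← h.scj W_mT W_mB, ← h.ir] at e
    exact Or.inr ⟨(s mT * i)⁻¹ * k, by rw [cj, e]; group⟩

theorem St.unw (h : St true f s i) {g k : G}
    (e : g * s u4 * g⁻¹ * (k * s mO * k⁻¹) = k * s mO * k⁻¹ * (g * s u4 * g⁻¹)) : False := by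
  rcases h.cu3 (g := g⁻¹ * k * s mO * (g⁻¹ * k)⁻¹) (by
      calc _ = g⁻¹ * (k * s mO * k⁻¹ * (g * s u4 * g⁻¹)) * g := by group
        _ = _ := by rw [← e]; group) (by rw [conj_pow, h.a3]; simp) with ⟨c, x, -, -, e⟩ | ⟨c, e⟩
  · exact h.wnJ (c * (g⁻¹ * k)) x (by rw [← e]; group)
  · exact h.wnJ (c * (g⁻¹ * k)) vr (by rw [← e]; group)

theorem St.un12 (h : St true f s i) (hX : XN f) (g : G) : g * s u4 * g⁻¹ ≠ s (u1 * u2) := by
  intro e
  have w : W true (u1 * u2) := by decide +kernel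
  have p3 : ∀ Θ, IsPGroup 3 (Ac f Θ) := fun Θ => pg3 (n := 1) fun x hx => by
    obtain ⟨y, -, rfl⟩ := h.mem_Ac.1 hx
    exact h.f3 y
  obtain ⟨k, -, hk⟩ := conj_into (N := Ce (s (u1 * u2))) (p3 (u1 * u2)) (fun g hg n c => by
      obtain ⟨x, M, hM, rfl⟩ := h.dec g (h.NA (A := {x | mv (u1 * u2) x = x}) (fun c hc =>
        hX c (hc _ (by decide +kernel)) (hc _ (by decide +kernel))) fun x hx =>
          let ⟨y, _, e⟩ := h.mem_Ac.1 (n _ (h.mem_Ac.2 ⟨x, hx, rfl⟩)); ⟨y, e.symm⟩)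
      obtain ⟨k1, k2⟩ := (h.com_s hM w).1 (mem_Ce.1 hg)
      obtain ⟨y, e1⟩ := h.fs_pow hM x 3
      obtain ⟨a, -, e2⟩ := h.mem_Ac.1 c
      rw [fin2 M hM.1 k2 (h.uniq (hM.pow 3) W.one (by rw [← e1, ← e2, h.s1, mul_one])).2, h.s1, mul_one]
      exact h.mem_Ac.2 ⟨x, k1, rfl⟩)
    (fun x hx => by
      obtain ⟨y, hy, rfl⟩ := h.mem_Ac.1 hx
      exact mem_Ce.2 (h.sfc w hy).symm) (isPGroup_cj (p3 u4) g) fun x hx => by
      obtain ⟨_, hy, rfl⟩ := mem_cj'.1 hx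
      obtain ⟨y, hy', rfl⟩ := h.mem_Ac.1 hy
      rw [mem_Ce, ← e, conj_mul, conj_mul, h.sfc W_u4 hy']
  have key : ∀ x, mv u4 x = x → ∃ y, mv (u1 * u2) y = y ∧ k * g * f x * (k * g)⁻¹ = f y := fun x hx => by
    obtain ⟨y, hy, e⟩ := h.mem_Ac.1 (hk _ (cj_mem g (h.mem_Ac.2 ⟨x, hx, rfl⟩)))
    exact ⟨y, hy, by rw [e]; group⟩
  obtain ⟨M, hM, e1⟩ := h.fusW (g := k * g) (A := {x | mv u4 x = x}) fun x hx => let ⟨y, _, e⟩ := key x hx; ⟨y, e⟩
  have k2 : ∀ x, mv u4 x = x → mv (u1 * u2) (mv M x) = mv M x := fun x hx => by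
    obtain ⟨y, hy, e⟩ := key x hx
    rwa [h.finj ((e1 x hx).symm.trans e)]
  exact fin3 M hM.1 (k2 _ (by decide +kernel)) (k2 _ (by decide +kernel)) (k2 _ (by decide +kernel))

theorem T2B.not64 (h : St true f s i) (hX : XN f) {P : Subgroup G} (h1 : P ≤ Lc f (s u4) e3 0)
    (h2 : ∀ x ∈ P, x ^ 16 = 1) : Nat.card P < 64 := by
  have wR : W true mR := by decide +kernel
  have w1 : W true u1 := by decide +kernel
  have mL : ∀ M, W true M → M * u4 = u4 * M → mv M e3 = e3 → s M ∈ Lc f (s u4) e3 0 := fun M a b c =>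
    mem_Lc.2 ⟨h.scomm a W_u4 b, h.sfc a c, h.sfc a (mv_zero M)⟩
  obtain ⟨a, b, c⟩ := h.pre8 sec (fun M hM c e _ => (l16 M (fin4 M hM.1 e c)).2) fun a b n g hg c => by
    obtain ⟨-, c3, -⟩ := mem_Lc.1 hg
    rcases vec3 a b n with k | ⟨M, -, k1, k2, k3⟩
    · exact h.cz k (by rw [h.add, ← mul_assoc, c, mul_assoc, c3, mul_assoc]) c3
    · exact h.xn_cj hX k1 (k2.symm ▸ c3) (k3.symm ▸ c)
  have one : ∀ {x : G}, x = 1 → x ∈ Uc f (s u4) e3 0 := fun e => e ▸ one_mem _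
  rcases eight2 (h.g9 sec le_rfl) (mL u1 w1 (by decide +kernel) (by decide +kernel))
    (mL mR wR (by decide +kernel) (by decide +kernel)) (one (h.ssq w1 (by decide +kernel)))
    (one (by rw [← h.mul _ _ w1 wR]; exact h.ssq (w1.mul wR) (by decide +kernel)))
    (one (by rw [h.act _ w1, ← h.add, ← h.f0]; exact congrArg f (by decide +kernel)))
    (one (by rw [h.act _ w1, ← h.fsub, ← h.f0]; exact congrArg f (by decide +kernel)))
    (one (by rw [h.act _ wR, ← h.fsub, ← h.f0]; exact congrArg f (by decide +kernel)))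
    (one (by rw [h.act _ wR, ← h.add, ← h.f0]; exact congrArg f (by decide +kernel))) a b c with k | ⟨k, -⟩
  · classical
    choose! x M hM e using fun g hg => h.dec g (k (h1 hg))
    have := card_le_mul (X := P) (E := ⊥) L16.toFinset M (fun g hg => by
        obtain ⟨c1, c2, -⟩ := mem_Lc.1 (h1 hg)
        rw [e g hg] at c1 c2
        exact List.mem_toFinset.2 (fin4 _ (hM g hg).1 ((h.com_f (hM g hg)).1 c2) ((h.com_s (hM g hg) W_u4).1 c1).2))
      fun g hg g' hg' k => by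
        have e1 : g * g'⁻¹ = f (x g - x g') := by
          conv_lhs => rw [e g hg, e g' hg', k]
          rw [h.fsub]; group
        have := h2 _ (mul_mem hg (inv_mem hg'))
        rwa [e1, pow_eq_pow_mod _ (h.f3 _), pow_one, ← e1] at this
    have c := List.toFinset_card_le L16
    rw [inf_bot_eq, card_bot, mul_one] at this
    exact (this.trans c).trans_lt (by decide)
  · have : Fact (Nat.Prime 2) := ⟨Nat.prime_two⟩
    obtain ⟨n, hn⟩ := (H95.isPGroup_of_pow (p := 2) 4 h2).exists_card_eq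
    have c1 : Nat.card (Uc f (s u4) e3 0) ≤ 6 := by
      refine (Nat.card_le_card_of_surjective (fun p : ZMod 3 × Bool => (⟨f (p.1 • e3) * s u4 ^ p.2.toNat,
        (h.mem_Uc sec).2 ⟨p.1, 0, by cases p.2 <;> simp⟩⟩ : Uc f (s u4) e3 0)) fun u => ?_).trans (by simp)
      obtain ⟨a, b, e | e⟩ := (h.mem_Uc sec).1 u.2
      exacts [⟨(a, false), Subtype.ext (by simpa using e.symm)⟩, ⟨(a, true), Subtype.ext (by simpa using e.symm)⟩]
    have c2 : 3 ∣ Nat.card (Uc f (s u4) e3 0) := by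
      have := (Uc f (s u4) e3 0).orderOf_dvd_natCard (x := f e3) (subset_closure (by simp))
      rwa [orderOf_eq_prime (h.f3 e3) fun e => absurd (h.inj _ e) (by decide +kernel)] at this
    have c3 := card_dvd_of_le h1
    have c4 : 0 < Nat.card (Uc f (s u4) e3 0) := Nat.card_pos
    by_contra n6
    have c5 := (hn ▸ pow_dvd_pow 2 (show 6 ≤ n from (Nat.pow_le_pow_iff_right one_lt_two).1 (by omega))).trans c3
    omega

theorem St.une0 (h : St true f s i) (hX : XN f) (e : EE true f s i φ) (g : G) :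
    g * s u4 * g⁻¹ ≠ i * (s p1 * i * (s p1)⁻¹) := by
  intro e0
  obtain ⟨T, hT⟩ := h.syl2 e
  obtain ⟨R, hR, uR⟩ := h.max2 e
  have BE : Bq f i ≤ Eg f s i := le_sup_of_le_left (le_sup_of_le_left le_sup_left)
  have d1 : dm (1, 0, 0) = p1 := by decide +kernel
  have pE : ∀ b ∈ Eg f s i, s p1 * b * (s p1)⁻¹ ∈ Eg f s i := d1 ▸ e.δE (1, 0, 0)
  have pφ : ∀ b ∈ Eg f s i, φ (s p1 * b * (s p1)⁻¹) = fun x => φ b (x + (1, 0, 0)) := d1 ▸ e.δφ (1, 0, 0)
  have p4 : Commute (s p1) (f e4) := h.sfc W_p1 (by decide +kernel)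
  have pt : Commute (s p1) (s mT) := h.scomm W_p1 W_mT (by decide +kernel)
  have c4 : ∀ b ∈ Bq f i, Commute (s p1 * b * (s p1)⁻¹) (f e4) := fun b hb =>
    (p4.mul_left (h.Be hb)).mul_left p4.inv_left
  have cB : ∀ a ∈ Bq f i, ∀ b ∈ Bq f i, Commute a (s p1 * b * (s p1)⁻¹) := fun a ha b hb => e.cB a ha _ (cj_mem _ hb)
  have it : Commute i (s mT) := h.Bt h.iB
  have ii : i⁻¹ = i * s mT := by rw [inv_eq_iff_mul_eq_one, ← mul_assoc, h.i2, h.t2]
  set i' := s p1 * i * (s p1)⁻¹ with hi'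
  have it' : Commute i' (s mT) := (pt.mul_left it).mul_left pt.inv_left
  have ii' : i⁻¹ * i'⁻¹ = i * i' := by
    rw [show i'⁻¹ = s p1 * i⁻¹ * (s p1)⁻¹ by rw [hi']; group, ii, ← conj_mul, ← hi', pt.eq, mul_inv_cancel_right,
      mul_assoc, ← mul_assoc _ i', ← it'.eq, mul_assoc i', h.t2, mul_one]
  let P := (T : Subgroup G) ⊓ (Ce (i * i') ⊓ Ce (f e4))
  have mP : ∀ {x}, In2 f s i x → x * (i * i') * x⁻¹ = i * i' → Commute x (f e4) → x ∈ P := fun a b c =>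
    ⟨(hT _).2 a, mem_Ce.2 (mul_inv_eq_iff_eq_mul.1 b), mem_Ce.2 c⟩
  have cm : ∀ {x y : G}, Commute x y → x * y * x⁻¹ = y := fun c => by rw [c.eq, mul_inv_cancel_right]
  have iE := BE h.iB
  have jE := BE h.jB
  have fj : φ (jj f i) = a3 v1 (φ i) := e.aJ v1 (by decide +kernel) i iE
  have ji : jj f i * i * (jj f i)⁻¹ = i⁻¹ := by
    have := h.ij
    calc _ = (i * jj f i * i⁻¹)⁻¹ * i * (jj f i)⁻¹ := by rw [this, inv_inv]
      _ = i * (jj f i * jj f i)⁻¹ := by group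
      _ = _ := by rw [h.j2, ii, inv_eq_of_mul_eq_one_right h.t2]
  have m1 : s mT ∈ P := mP (in2_E h e e.tE) (cm (it.symm.mul_right it'.symm)) (h.sfc W_mT (by decide +kernel))
  have m2 : jj f i * (s p1 * jj f i * (s p1)⁻¹) ∈ P := mP (in2_E h e (mul_mem jE (pE _ jE))) (by
    calc _ = jj f i * (s p1 * jj f i * (s p1)⁻¹ * i * (s p1 * jj f i * (s p1)⁻¹)⁻¹ *
          (s p1 * (jj f i * i * (jj f i)⁻¹) * (s p1)⁻¹)) * (jj f i)⁻¹ := by rw [hi']; group
      _ = jj f i * i * (jj f i)⁻¹ * (jj f i * (s p1 * i⁻¹ * (s p1)⁻¹) * (jj f i)⁻¹) := by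
          conv_lhs => rw [cm (cB _ h.iB _ h.jB).symm, ji]
          group
      _ = _ := by rw [ji, cm (cB _ h.jB _ (inv_mem h.iB)), ← ii', hi']; group)
    ((show Commute _ _ from h.Be h.jB).mul_left (c4 _ h.jB))
  have m3 : i' ∈ P := mP (in2_E h e (pE _ iE)) (cm ((cB _ h.iB _ h.iB).symm.mul_right (.refl _))) (c4 _ h.iB)
  have m4 : i ∈ P := mP (in2_E h e iE) (cm ((Commute.refl i).mul_right (cB _ h.iB _ h.iB))) h.ie
  have m5 : s p1 ∈ P := mP ⟨1, one_mem _, (1, 0, 0), 0, by simp [d1]⟩ (by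
    have := h.ssq W_p1 (by decide +kernel)
    rw [← conj_mul, ← hi', (cB _ h.iB _ h.iB).eq, hi', show ∀ a : G, a * (a * i * a⁻¹) * a⁻¹ = a * a * i * (a * a)⁻¹
      from fun _ => by group, this]; simp) p4
  have wn : W true (dm oo * u4) := (W_dm oo).mul W_u4
  have ni : s (dm oo * u4) * i * (s (dm oo * u4))⁻¹ = i⁻¹ := by
    rw [show dm oo * u4 = -1 * mT * u4 by decide +kernel, h.mul _ _ (W.one.neg.mul W_mT) W_u4,
      h.mul _ _ W.one.neg W_mT, show ∀ a b c : G, a * b * c * i * (a * b * c)⁻¹ = a * (b * (c * i * c⁻¹) * b⁻¹) * a⁻¹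
      from fun _ _ _ => by group, cm (h.uB rfl h.iB), cm it.symm, h.si]
  have m6 : s (dm oo * u4) ∈ P := mP ⟨1, one_mem _, oo, 1, by rw [h.mul _ _ (W_dm oo) W_u4, one_mul, pow_one]⟩ (by
    rw [← conj_mul, ni, ← ii', hi', ← conj_mul, ← conj_mul, ni, cm (h.scomm wn W_p1 (by decide +kernel)),
      cm (Commute.inv_right (h.scomm wn W_p1 (by decide +kernel)))]; group) (h.sfc wn (by decide +kernel))
  have ER : Eg f s i ≤ R := fun a ha => (hR a).2 ⟨a, ha, 0, by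
    rw [show dm 0 = 1 by decide +kernel, h.s1, mul_one]⟩
  have dR : ∀ d, s (dm d) ∈ R := fun d => (hR _).2 ⟨1, one_mem _, d, (one_mul _).symm⟩
  have kk : ∀ x (X : List D3), Kx e.toEC (x :: X) ≤ Kx e.toEC X := fun x X a ha =>
    ⟨ha.1, fun y hy => ha.2 y (List.mem_cons_of_mem _ hy)⟩
  have f2 : φ (jj f i * (s p1 * jj f i * (s p1)⁻¹)) = fun d => if d = 0 ∨ d = (1, 0, 0) then 1 else 0 := by
    rw [e.add _ jE _ (pE _ jE), pφ _ jE, fj, e.fi]; decide +kernel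
  have f3 : φ i' = fun d => if d = (1, 0, 0) ∨ d = (0, 1, 1) then 1 else 0 := by
    rw [pφ _ iE, e.fi]; decide +kernel
  have a1 := two_le (B := Kx e.toEC [0, (0, 1, 1), oo]) bot_le m1
    ⟨e.tE, fun x _ => congrFun ((e.ker _ e.tE).2 (Or.inr rfl)) x⟩ (mem_bot.not.2 e.t1)
  have a2 := two_le (kk 0 [(0, 1, 1), oo]) m2 ⟨mul_mem jE (pE _ jE), by rw [f2]; decide +kernel⟩
    fun k => absurd k.2 (by rw [f2]; decide +kernel)
  have a3 := two_le (kk (0, 1, 1) [oo]) m3 ⟨pE _ iE, by rw [f3]; decide +kernel⟩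
    fun k => absurd k.2 (by rw [f3]; decide +kernel)
  have a4 := two_le (A := Kx e.toEC [oo]) (fun _ k => k.1) m4 iE fun k => absurd k.2 (by rw [e.fi]; decide +kernel)
  have a5 := two_le ER m5 (d1 ▸ dR _) fun k => by
    rcases e.EN _ k (h.sN W_p1) with k | k
    exacts [absurd (h.sinj W_p1 W.one (k.trans h.s1.symm)) (by decide +kernel),
      absurd (h.sinj W_p1 W_mT k) (by decide +kernel)]
  have a6 := two_le (le_top (a := R)) m6 trivial fun k =>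
    uR ((mul_mem_cancel_left (dR oo)).1 (h.mul _ _ (W_dm oo) W_u4 ▸ k))
  rw [inf_bot_eq, card_bot] at a1
  rw [inf_top_eq] at a6
  have c0 : Commute (i * i') (f e4) := Commute.mul_left h.ie (c4 _ h.iB)
  rcases h.cu3 (g := g⁻¹ * f e4 * g⁻¹⁻¹) (by
      calc _ = g⁻¹ * (f e4 * (g * s u4 * g⁻¹)) * g := by group
        _ = _ := by rw [e0, ← c0.eq, ← e0]; group) (by rw [conj_pow, h.f3]; simp) with ⟨k, x, c1, hx, e1⟩ | ⟨k, e1⟩
  · have e2 : k * g⁻¹ * f e4 * (k * g⁻¹)⁻¹ = f x := by rw [← e1]; group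
    obtain ⟨M, -, hM, c2, e3⟩ := vec2 x hx ((h.fus_dt e2).symm.trans (by decide +kernel))
    have e4 : s M * (k * g⁻¹) * f O83.e4 * (s M * (k * g⁻¹))⁻¹ = f O83.e3 := by rw [← e3, ← h.act M hM, ← e2]; group
    have e5 : s M * (k * g⁻¹) * (i * i') * (s M * (k * g⁻¹))⁻¹ = s u4 := by
      conv_rhs => rw [← cm (h.scomm hM W_u4 c2), ← cm c1]
      rw [← e0]; group
    have := not64 h hX (P := P ^ᶜ (s M * (k * g⁻¹))) (fun x hx => by
      obtain ⟨y, hy, rfl⟩ := mem_cj'.1 hx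
      rw [mem_Lc, ← e4, ← e5, h.f0, conj_mul, conj_mul, conj_mul, conj_mul, mem_Ce.1 hy.2.1, mem_Ce.1 hy.2.2]
      simp) fun x hx => by
      obtain ⟨y, hy, rfl⟩ := mem_cj'.1 hx
      rw [conj_pow, pow16 h e ((hT y).1 hy.1), mul_one, mul_inv_cancel]
    rw [card_cj] at this
    omega
  · exact absurd (h.fus_dt (g := k * g⁻¹) (x := e4) (y := vr) (by rw [← e1]; group)) (by decide +kernel)

end H12.O83
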