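import Cfsg.Agent.Lib.O83.WF
import Cfsg.Agent.Lib.SE42.TransferPow
import Cfsg.Agent.Lib.LocEven.Basic

/-! The normal subgroup of index three (package T3). -/

set_option autoImplicit false
set_option linter.unusedSectionVars false

namespace H12.O83

open Subgroup H20.L43 H69

variable {G : Type*} [Group G] [Finite G] {l : Bool} {f : V4 → G} {s : M4 → G} {i : G}

namespace T3

theorem sg1 {M : M4} (h : W false M) : sg M = 1 := h.2.resolve_left Bool.false_ne_true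

theorem W0_le (h : St l f s i) {K : Subgroup G} (a : s mT ∈ K) (b : s s23 ∈ K) (c : s p3 ∈ K)
    (d : s p2 ∈ K) {M : M4} (hM : W0 M) : s M ∈ K :=
  W0_ind (P := fun M => s M ∈ K) (h.s1 ▸ one_mem K)
    (fun M N hM hN a b => h.mul M N hM.w hN.w ▸ mul_mem a b) a b c d M hM

theorem exists_rho (h : St false f s i) : ∃ ρ : NJ f →* Multiplicative (ZMod 3),
    ∀ (g : NJ f) x M, W false M → g.1 = f x * s M → ρ g = .ofAdd (rt M) := by
  choose X M hM e using h.dec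
  have k : ∀ (g : NJ f) x N, W false N → g.1 = f x * s N → M g g.2 = N := fun g x N hN e' =>
    (h.uniq (hM g g.2) hN ((e g g.2).symm.trans e')).2
  refine ⟨MonoidHom.mk' (fun g => .ofAdd (rt (M g g.2))) fun a b => ?_, fun g x N hN e' => ?_⟩
  · rw [k (a * b) _ _ ((hM a a.2).mul (hM b b.2)) ((congrArg₂ _ (e a a.2) (e b b.2)).trans
      (h.fs_mul (hM a a.2) (hM b b.2) _ _)), rt_mul (hM a a.2).1 (hM b b.2).1, sg1 (hM a a.2), one_mul, ofAdd_add]
  · rw [← k g x N hN e']; rfl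

theorem pgJ {a b : G} (h : Pre f a b) : IsPGroup 3 (Jg f) := pg3 (n := 1) fun x hx => by
  obtain ⟨x, rfl⟩ := h.mem_J.1 hx
  exact h.f3 x

theorem ind (h : St l f s i) : ¬ 3 ∣ (NJ f).index := fun e => by
  obtain ⟨P, hP⟩ := (pgJ h.toPre).exists_le_sylow
  exact P.not_dvd_index (e.trans (index_dvd_of_le (h.toPre.p3 P.2 fun x => hP (h.toPre.mem_J.2 ⟨x, rfl⟩))))

end T3

open T3

theorem St.t3 (h : St false f s i) : ∃ H, G0 f s H := by
  obtain ⟨ρ, hρ⟩ := exists_rho h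
  have rs : ∀ {M} (hM : W false M), ρ ⟨s M, h.sN hM⟩ = .ofAdd (rt M) := fun hM =>
    hρ _ 0 _ hM (by rw [h.toPre.f0, one_mul])
  have pw : ∀ a : Multiplicative (ZMod 3), a ^ (NJ f).index = 1 ↔ a = 1 := fun a =>
    ⟨fun e => by
      have := pow_gcd_eq_one.2 ⟨e, (by decide : ∀ a : Multiplicative (ZMod 3), a ^ 3 = 1) a⟩
      rwa [(Nat.prime_three.coprime_iff_not_dvd.2 (ind h)).symm.gcd_eq_one, pow_one] at this,
    fun e => by rw [e, one_pow]⟩
  have w := H42.transfer_eq_pow_of_controls ρ ⟨s mO, h.sN W_mO⟩ fun k a ha => by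
    have e : ∀ n : ℕ, a⁻¹ * s mO ^ n * a = (a⁻¹ * s mO * a) ^ n := fun n => by
      simpa using (conj_pow (a := a⁻¹) (b := s mO) (i := n)).symm
    by_cases h3 : 3 ∣ k
    · obtain ⟨k, rfl⟩ := h3
      rw [← map_pow]
      congr 1
      exact Subtype.ext (by simp [pow_mul, h.a3])
    · have n : a⁻¹ * s mO * a ∈ NJ f := by
        have := pow_mem ha k
        rwa [e, ← pow_mul, ← e, pow_eq_pow_mod _ h.a3, show k * k % 3 = 1 by
          rw [Nat.mul_mod]; rcases (by omega : k % 3 = 1 ∨ k % 3 = 2) with e | e <;> rw [e], pow_one] at this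
      obtain ⟨x, M, hM, e'⟩ := h.dec _ n
      rw [show (⟨_, ha⟩ : NJ f) = ⟨_, n⟩ ^ k from Subtype.ext (e k), map_pow, hρ ⟨_, n⟩ x M hM e', rs W_mO,
        h.wrt (k := a⁻¹) hM (by rwa [inv_inv])]
      rfl
  obtain ⟨V, hV⟩ : ∃ V, V = MonoidHom.transfer ρ := ⟨_, rfl⟩
  rw [← hV, rs W_mO] at w
  have two : ∀ {g : G}, V g = (V g)⁻¹ → g ∈ V.ker := fun {g} e => by
    rw [MonoidHom.mem_ker]
    revert e
    generalize V g = a
    revert a
    decide
  have inv : ∀ {M}, W false M → M * M = 1 → s M ∈ V.ker := fun hM e =>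
    two (eq_inv_of_mul_eq_one_left (by rw [← map_mul, h.ssq hM e, map_one]))
  refine ⟨V.ker, inferInstance, ?_, fun x => two ?_, fun M hM => ?_⟩
  · have d : V.ker.index ∣ 3 := by
      rw [index_ker]
      simpa using card_subgroup_dvd_card V.range
    refine ((Nat.dvd_prime Nat.prime_three).1 d).resolve_left fun e => ?_
    have : V (s mO) = 1 := (index_eq_one.1 e).ge (mem_top _)
    exact absurd ((pw _).1 (w.symm.trans this)) (by decide)
  · rw [← map_inv, ← h.toPre.fneg, ← show mv (-1) x = -x by rw [mv_negm, mv_one], ← h.act _ W.one.neg, map_mul,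
      map_mul, map_inv, mul_inv_cancel_comm]
  · obtain ⟨c, b, N, hN, e, hc⟩ := W_dec hM.1
    rw [hc (sg1 hM), pow_zero, one_mul] at e
    have e' : s M = s mO ^ b * s N := by rw [e, h.mul _ _ (W_mO.pow b) hN.w, h.spow W_mO]
    have k : ρ ⟨s M, h.sN hM⟩ = .ofAdd (rt mO) ^ b := by
      rw [show (⟨s M, h.sN hM⟩ : NJ f) = ⟨_, h.sN W_mO⟩ ^ b * ⟨_, h.sN hN.w⟩ from Subtype.ext e', map_mul, map_pow,
        rs W_mO, rs hN.w, hN.2.2, ofAdd_zero, mul_one]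
    rw [MonoidHom.mem_ker, e', map_mul, map_pow, W0_le h (inv W_mT (by decide)) (inv W_s23 (by decide))
      (inv W_p3 (by decide)) (inv W_p2 (by decide)) hN, mul_one, w, ← pow_mul, mul_comm, pow_mul, pw, ← k, rs hM]
    rfl

theorem St.res2 (h : St false f s i) {H : Subgroup G} (hH : G0 f s H) : Cfsg.pResidual 2 H = ⊤ := by
  haveI := hH.nm
  obtain ⟨N, hN⟩ : ∃ N, N = (Cfsg.pResidual 2 H).map H.subtype := ⟨_, rfl⟩
  have fN : ∀ x, f x ∈ N := fun x => hN ▸ mem_map_of_mem H.subtype (x := ⟨f x, hH.fH x⟩) (subset_closure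
    (Nat.Coprime.coprime_dvd_left (orderOf_dvd_of_pow_eq_one (n := 3) (Subtype.ext (h.toPre.f3 x))) (by decide)))
  have cj : ∀ g ∈ H, ∀ a ∈ N, g * a * g⁻¹ ∈ N := by
    rw [hN]
    rintro g hg _ ⟨a, ha, rfl⟩
    refine mem_map_of_mem H.subtype (x := MulAut.conj (⟨g, hg⟩ : H) a) ?_
    exact (closure_le ((Cfsg.pResidual 2 H).comap (MulAut.conj (⟨g, hg⟩ : H)).toMonoidHom)).2
      (fun b hb => subset_closure (by simpa only [Set.mem_setOf, MulEquiv.coe_toMonoidHom, MulEquiv.orderOf_eq] using hb)) ha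
  have iH : i ∈ H := by
    have := pow_mem (H.pow_index_mem i) 3
    rwa [hH.ind, ← pow_mul, pow_eq_pow_mod _ (h.B4 h.iB), pow_one] at this
  have iN : i ∈ N := by
    have := mul_mem (fN v1) (cj (jj f i) (hH.nm.conj_mem i iH _) _ (inv_mem (fN v1)))
    rwa [← mul_assoc, ← mul_assoc, h.yj, mul_inv_cancel_right] at this
  have tN : s mT ∈ N := h.i2 ▸ mul_mem iN iN
  have rf : ∀ A {M}, W0 A ∧ A * mT * tr A = M → s M ∈ N := fun A M hA =>
    hA.2 ▸ h.scj hA.1.w W_mT ▸ cj _ ((hH.sH A hA.1.w).2 hA.1.2.2) _ tN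
  have sN := @W0_le _ _ _ _ _ _ _ h N tN (rf (tr mB) (by decide))
    (rf ⟨0, 0, 1, 0, 0, 0, 0, 1, 1, 0, 0, 0, 0, 1, 0, 0⟩ (by decide))
    (rf ⟨0, 0, -1, 0, 0, 0, 0, 1, 1, 0, 0, 0, 0, -1, 0, 0⟩ (by decide))
  have JN : Jg f ≤ N := (closure_le _).2 (by rintro _ ⟨x, rfl⟩; exact fN x)
  obtain ⟨P, hP, JP⟩ := H68.exists_sylowIn_ge (pgJ h.toPre) JN
  have PN := h.toPre.p3 hP.isPGroup fun x => JP (h.toPre.mem_J.2 ⟨x, rfl⟩)
  refine eq_top_iff.2 fun g _ => ?_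
  obtain ⟨n, n1, n2⟩ := hP.exists_cj_le (H68.isPGroup_cj g.1 (pgJ h.toPre))
    (H68.cj_le_iff'.2 fun x hx => cj g g.2 x (JN hx))
  rw [← H68.cj_mul] at n2
  obtain ⟨x, M, hM, e⟩ := h.dec _ (h.toPre.wc fun x => PN (H68.cj_le_iff'.1 n2 _ (h.toPre.mem_J.2 ⟨x, rfl⟩)))
  have k : s M ∈ H := (mul_mem_cancel_left (hH.fH x)).1 (e ▸ mul_mem (map_subtype_le _ (hN ▸ n1)) g.2)
  obtain ⟨g', h1, h2⟩ := hN ▸ (mul_mem_cancel_left n1).1
    (e ▸ mul_mem (fN x) (sN ⟨hM.1, sg1 hM, (hH.sH M hM).1 k⟩))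
  rwa [← Subtype.ext h2]

end H12.O83
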