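import Cfsg.Agent.Lib.O83.LL
import Cfsg.Agent.Lib.LocStruct.SylowIn

/-! Two conjugate cores commute (package XNb). -/

set_option autoImplicit false
set_option linter.unusedSectionVars false

namespace H12.O83

open Subgroup H20.L43 H69

variable {G : Type*} [Group G] [Finite G] {l : Bool} {f : V4 → G} {s : M4 → G} {i : G}

namespace XNb

theorem cm {g x : G} : g * x = x * g ↔ g * x * g⁻¹ = x := mul_inv_eq_iff_eq_mul.symm

theorem cjc {g a b : G} (e : a * b = b * a) : g * a * g⁻¹ * (g * b * g⁻¹) = g * b * g⁻¹ * (g * a * g⁻¹) := by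
  rw [conj_mul, conj_mul, e]

theorem zpc {t u g : G} (hu : u ∈ zpowers t) (e : g * t = t * g) : g * u = u * g := by
  obtain ⟨n, rfl⟩ := hu
  exact ((show Commute g t from e).zpow_right n).eq

theorem lift3 {t a k : G} (t2 : t * t = 1) (a3 : a ^ 3 = 1) (at' : a * t = t * a)
    (e : a * k * a⁻¹ * k⁻¹ ∈ zpowers t) : k * a = a * k := by
  rcases (H95.mem_zpowers_iff_of_sq t2).1 e with e | e
  · exact (mul_inv_eq_iff_eq_mul.1 (mul_inv_eq_one.1 e)).symm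
  · have e1 : k * a⁻¹ * k⁻¹ = a⁻¹ * t := by rw [← e]; group
    have e2 := congrArg (· ^ 3) e1
    simp only [conj_pow, inv_pow, a3, (show Commute a t from at').inv_left.mul_pow, pow_three t, t2] at e2
    simp only [inv_one, mul_one, mul_inv_cancel, one_mul] at e2
    rw [← e2] at e
    exact (mul_inv_eq_iff_eq_mul.1 (mul_inv_eq_one.1 e)).symm

theorem two_le {A B : Subgroup G} (h : A < B) : 2 * Nat.card A ≤ Nat.card B := by
  obtain ⟨n, e⟩ := card_dvd_of_le h.le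
  have := Nat.card_pos (α := B)
  have : Nat.card B ≠ Nat.card A := fun e => h.ne (eq_of_le_of_card_ge h.le e.le)
  rcases n with _ | _ | n <;> [omega; omega; nlinarith]

theorem Fc_cj {a y n : G} {F : Subgroup G} (hF : Fc f a y F) (hn : n ∈ NJ f) (na : n * a = a * n) (ny : n * y = y * n)
    (n3 : n * f e3 * n⁻¹ = f e4) (n4 : n * f e4 * n⁻¹ = f e3) : Fc f a y (F ^ᶜ n) where
  aF := cm.1 na ▸ cj_mem n hF.aF
  sq φ hφ := by replace hφ := mem_cj'.1 hφ; obtain ⟨φ, hφ, rfl⟩ := hφ; rw [conj_mul, hF.sq φ hφ]; simp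
  c3 φ hφ := by replace hφ := mem_cj'.1 hφ; obtain ⟨φ, hφ, rfl⟩ := hφ; exact n4 ▸ cjc (hF.c4 φ hφ)
  c4 φ hφ := by replace hφ := mem_cj'.1 hφ; obtain ⟨φ, hφ, rfl⟩ := hφ; exact n3 ▸ cjc (hF.c3 φ hφ)
  nF g ga g3 g4 := by
    obtain ⟨g, rfl⟩ : ∃ k, g = n * k * n⁻¹ := ⟨n⁻¹ * g * n, by group⟩
    have k : ∀ x, n * g * n⁻¹ * (n * x * n⁻¹) = n * x * n⁻¹ * (n * g * n⁻¹) → g * x = x * g := fun x e => by
      simpa [conj_mul] using e
    obtain ⟨k1, φ, hφ, k2⟩ := hF.nF g (k a (by rwa [cm.1 na])) (k _ (by rwa [n3])) (k _ (by rwa [n4]))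
    refine ⟨fun φ hφ => ?_, _, cj_mem n hφ, by rw [conj_mul]; exact mul_mem (mul_mem hn k2) (inv_mem hn)⟩
    replace hφ := mem_cj'.1 hφ; obtain ⟨φ, hφ, rfl⟩ := hφ
    simpa [mul_assoc] using cj_mem n (k1 φ hφ)
  fp φ hφ e := by
    replace hφ := mem_cj'.1 hφ; obtain ⟨φ, hφ, rfl⟩ := hφ
    rw [← cm.1 na, ← cj_zpowers] at e ⊢
    rw [← cm.1 ny, show n * y * n⁻¹ * (n * φ * n⁻¹) * (n * y * n⁻¹)⁻¹ * (n * φ * n⁻¹)⁻¹ =
      n * (y * φ * y⁻¹ * φ⁻¹) * n⁻¹ by group, cj_mem_iff] at e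
    exact cj_mem n (hF.fp φ hφ e)
  card := (card_cj F n).trans_le hF.card

theorem dec0 : ∀ x : V4, mv mT x = x → dt x vz = 0 → dt (mv (tr p1) x) vz = 0 → dt (mv (tr p2) x) vz = 0 →
    dt (mv (tr p3) x) vz = 0 → x = 0 := by decide +kernel

theorem dec9 : ∀ a b : ZMod 3, ¬ (a = 0 ∧ b = 0) → (a • (v1 + v2) + b • v1 = v1 ∨ a • (v1 + v2) + b • v1 = -v1) ∨
    (a • (v1 + v2) + b • v1 = v2 ∨ a • (v1 + v2) + b • v1 = -v2) ∨ Good (a • (v1 + v2) + b • v1 + v3) v3 := by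
  decide +kernel

/-- the centralizer of `E` -/
abbrev D (f : V4 → G) (s : M4 → G) (i : G) : Subgroup G := 𝐂(Eg f s i)

variable (h : St true f s i)
include h

theorem BE1 : Bq f i ≤ Eg f s i := le_sup_left.trans (le_sup_left.trans le_sup_left)

theorem Dt {k : G} (hk : k ∈ D f s i) : k * s mT = s mT * k := (hk _ (BE1 h h.tB)).symm

theorem tD : s mT ∈ D f s i := by
  have k : ∀ M, W true M → M * mT = mT * M → Bq f i ^ᶜ s M ≤ centralizer {s mT} := fun M hM e b hb => by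
    replace hb := mem_cj'.1 hb; obtain ⟨b, hb, rfl⟩ := hb
    exact mem_centralizer_singleton_iff.2 (cm.1 (h.scomm hM W_mT e) ▸ cjc (h.Bt hb))
  have : Eg f s i ≤ centralizer {s mT} := sup_le (sup_le (sup_le (fun b hb => mem_centralizer_singleton_iff.2 (h.Bt hb))
    (k _ W_p1 (by decide))) (k _ W_p2 (by decide))) (k _ W_p3 (by decide))
  exact fun a ha => mem_centralizer_singleton_iff.1 (this ha)

theorem nD {g k : G} (hg : g ∈ NJ f) (gt : g * s mT = s mT * g) (hk : k ∈ D f s i) : g * k * g⁻¹ ∈ D f s i := fun a ha => by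
  have := cjc (g := g) (hk _ (h.nE (inv_mem hg) (show Commute g _ from gt).inv_left.eq ha))
  simpa [mul_assoc] using this

theorem ft {x : V4} (hx : mv mT x = x) : f x * s mT = s mT * f x := (h.sfc W_mT hx).symm

theorem noJ {x : V4} (hx : f x ∈ D f s i) : x = 0 := by
  have hT : mv mT x = x := h.finj ((h.act _ W_mT x).symm.trans (cm.1 (Dt h hx).symm))
  have k : ∀ M, W true M → M * mT = mT * M → mv mT (mv (tr M) x) = mv (tr M) x → dt (mv (tr M) x) vz = 0 :=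
    fun M hM e e' => by
      by_contra ne
      have := cjc (g := (s M)⁻¹) (hx _ (h.BE hM e (cj_mem _ h.iB)))
      rw [← h.sinv hM, h.act _ hM.tr, h.sinv hM, show (s M)⁻¹ * (s M * i * (s M)⁻¹) * (s M)⁻¹⁻¹ = i by group] at this
      rcases h.Bfp e' ne h.iB (by rw [← this]; simp) with e | e
      · exact h.t1 (by rw [← h.i2, e, one_mul])
      · exact h.t1 (by rw [← h.i2, e, h.t2])
  have k' : ∀ M, M * mT = mT * M → mT * tr M = tr M * mT → mv mT (mv (tr M) x) = mv (tr M) x := fun M _ e => by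
    rw [← mv_mul, e, mv_mul, hT]
  exact dec0 x hT (by simpa [show tr 1 = 1 from rfl, mv_one] using k 1 W.one (by decide) (k' 1 (by decide) (by decide)))
    (k _ W_p1 (by decide) (k' _ (by decide) (by decide))) (k _ W_p2 (by decide) (k' _ (by decide) (by decide)))
    (k _ W_p3 (by decide) (k' _ (by decide) (by decide)))

theorem cD {k : G} (hk : k ∈ D f s i) (e : ∀ x, mv mT x = x → k * f x = f x * k) : k ∈ zpowers (s mT) := by
  obtain ⟨x, rfl | rfl⟩ := h.cJ0 e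
  · rw [noJ h hk, h.f0]; exact one_mem _
  · rw [noJ h ((mul_mem_cancel_right (tD h)).1 hk), h.f0, one_mul]; exact mem_zpowers _

theorem DN {k : G} (hk : k ∈ D f s i) (hN : k ∈ NJ f) : k ∈ zpowers (s mT) := cD h hk fun x hx => by
  obtain ⟨y, e⟩ := h.mem_NJ.1 hN x
  have := mul_mem hk (nD h (h.fN x) (ft h hx) (inv_mem hk))
  rw [← mul_assoc, ← mul_assoc, e, ← h.fsub] at this
  rw [cm, e, sub_eq_zero.1 (noJ h this)]

theorem Dp : ¬ 3 ∣ Nat.card (D f s i) := by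
  have n : Ac f mT ≤ 𝐍(D f s i) := fun g hg => by
    obtain ⟨x, hx, rfl⟩ := h.mem_Ac.1 hg
    exact mem_norm fun k => nD h (h.fN x) (ft h hx)
  have p : IsPGroup 3 (Ac f mT) := pg3 (n := 1) fun g hg => by
    obtain ⟨x, -, rfl⟩ := h.mem_Ac.1 hg
    exact h.f3 x
  obtain ⟨P, hP, le⟩ := exists_isSylowIn_le p (le_sup_left : _ ≤ Ac f mT ⊔ D f s i)
  have s1 := hP.inf_normal le_sup_right (sup_le n le_normalizer)
  rw [s1.dvd_card_iff]
  refine fun ne => inf_centralizer_ne_bot s1.isP p (le_normalizer_inf (le.trans le_normalizer) n) ne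
    (eq_bot_iff.2 fun k hk => ?_)
  obtain ⟨m, e⟩ := s1.isP ⟨k, hk.1⟩
  replace e : k ^ 3 ^ m = 1 := congrArg Subtype.val e
  rcases (H95.mem_zpowers_iff_of_sq h.t2).1 (cD h hk.1.2 fun x hx => (hk.2 _ (h.mem_Ac.2 ⟨x, hx, rfl⟩)).symm) with r | r
  · exact r
  · obtain ⟨j, hj⟩ : Odd (3 ^ m) := Odd.pow (by decide)
    rw [hj, pow_succ, pow_mul, r, pow_two, h.t2, one_pow, one_mul] at e
    exact absurd e h.t1

theorem cadd {k : G} {x y : V4} (a : k * f x = f x * k) (b : k * f y = f y * k) : k * f (x + y) = f (x + y) * k := by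
  rw [h.add]; exact ((show Commute k _ from a).mul_right b).eq

theorem cneg {k : G} {x : V4} (a : k * f x = f x * k) : k * f (-x) = f (-x) * k := by
  rw [h.fneg]; exact (show Commute k _ from a).inv_right.eq

variable {F : Subgroup G} (hF : Fc f (s mT) (f v1) F)
include hF

theorem FD : F ≤ D f s i := fun φ hφ => by
  obtain ⟨a1, a2, -⟩ := h.ll hF nofun
  obtain ⟨a3, a4, -⟩ := h.ll (Fc_cj hF (h.sN W_p3) (h.scomm W_p3 W_mT (by decide)) (h.sfc W_p3 (by decide))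
    (h.act _ W_p3 _) (h.act _ W_p3 _)) nofun
  have pi : (s p3)⁻¹ = s p3 := inv_eq_of_mul_eq_one_right (h.ssq W_p3 (by decide))
  have k : ∀ A : Subgroup G, (∀ φ ∈ F ^ᶜ s p3, ∀ b ∈ A, φ * b = b * φ) → A ^ᶜ s p3 ≤ centralizer {φ} := fun A e b hb => by
    replace hb := mem_cj'.1 hb; obtain ⟨b, hb, rfl⟩ := hb
    have := cjc (g := s p3) (e _ (cj_mem _ hφ) b hb)
    rw [show s p3 * (s p3 * φ * (s p3)⁻¹) * (s p3)⁻¹ = (s p3)⁻¹ * (s p3 * φ * (s p3)⁻¹) * (s p3)⁻¹⁻¹ by rw [pi, pi]] at this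
    exact mem_centralizer_singleton_iff.2 (by simpa [mul_assoc] using this.symm)
  have k2 := k _ a4
  rw [cj_cj, ← h.mul _ _ W_p3 W_p1, h.Bcj (W_p3.mul W_p1) W_p2 (by decide) (by decide) (by decide)] at k2
  have : Eg f s i ≤ centralizer {φ} := sup_le (sup_le (sup_le (fun b hb => mem_centralizer_singleton_iff.2 (a1 φ hφ b hb).symm)
    fun b hb => mem_centralizer_singleton_iff.2 (a2 φ hφ b hb).symm) k2) (k _ a3)
  exact fun a ha => mem_centralizer_singleton_iff.1 (this ha)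

theorem yF {φ : G} (hφ : φ ∈ F) : f v1 * φ * (f v1)⁻¹ ∈ F :=
  (hF.nF _ (ft h (by decide)) (h.fcomm _ _) (h.fcomm _ _)).1 φ hφ

theorem inF {k : G} (hk : k ∈ D f s i) (a : k * f v2 = f v2 * k) (b : k * f v3 = f v3 * k) : k ∈ F := by
  obtain ⟨-, φ, hφ, e⟩ := hF.nF k (Dt h hk) (cneg h (cadd h a b)) (cadd h b (cneg h a))
  exact (mul_mem_cancel_left hφ).1 (zpowers_le.2 hF.aF (DN h (mul_mem (FD h hF hφ) hk) e))

theorem Fgen {Z : Subgroup G} (tZ : s mT ∈ Z) {k : G} (kF : k ∈ F) (kZ : k ∈ Z) (kU : k ∉ zpowers (s mT))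
    (yZ : f v1 * k * (f v1)⁻¹ ∈ Z) : F ≤ Z := by
  by_contra ne
  have kt := Dt h (FD h hF kF)
  have l1 := two_le (bot_lt_iff_ne_bot.2 (zpowers_ne_bot.2 h.t1))
  have l2 := two_le (A := zpowers (s mT)) (B := zpowers k ⊔ zpowers (s mT))
    (lt_of_le_of_ne le_sup_right fun e => kU (e ▸ mem_sup_left (mem_zpowers k)))
  have l3 := two_le (A := zpowers k ⊔ zpowers (s mT)) (B := Z ⊓ F) (lt_of_le_of_ne
    (sup_le (zpowers_le.2 ⟨kZ, kF⟩) (zpowers_le.2 ⟨tZ, hF.aF⟩)) fun e => by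
      obtain ⟨a, ha, u, hu, e1⟩ := (mem_sup_of_le_normalizer_right (zpowers_le.2 (mem_norm fun u hu => by
        rwa [cm.1 (zpc hu kt)]))).1 (e ▸ ⟨yZ, yF h hF kF⟩ : f v1 * k * (f v1)⁻¹ ∈ zpowers k ⊔ zpowers (s mT))
      rcases (H95.mem_zpowers_iff_of_sq (hF.sq k kF)).1 ha with rfl | rfl
      · rw [one_mul] at e1
        rw [show k = (f v1)⁻¹ * u * (f v1)⁻¹⁻¹ by rw [← e1]; group,
          cm.1 (zpc hu (show Commute _ _ from ft h (x := v1) (by decide)).inv_left.eq)] at kU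
        exact kU hu
      · exact kU (hF.fp a kF (by rwa [e1, cm.1 (zpc hu kt)])))
  have l4 := two_le (A := Z ⊓ F) (B := F) (lt_of_le_of_ne inf_le_right fun e => ne (inf_eq_right.1 e))
  have := hF.card
  rw [card_bot] at l1
  omega

theorem Fcom {φ : G} (hφ : φ ∈ F) : ∃ ψ ∈ F, ∃ u ∈ zpowers (s mT), φ = ψ * f v1 * ψ⁻¹ * (f v1)⁻¹ * u := by
  have inv : ∀ a ∈ F, a⁻¹ = a := fun a ha => inv_eq_of_mul_eq_one_right (hF.sq a ha)
  have com : ∀ a ∈ F, ∀ b ∈ F, a * b = b * a := fun a ha b hb => by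
    rw [← inv _ (mul_mem ha hb), mul_inv_rev, inv a ha, inv b hb]
  have h1 := yF h hF hφ
  have h2 := yF h hF h1
  have h3 : f v1 * (f v1 * (f v1 * φ * (f v1)⁻¹) * (f v1)⁻¹) * (f v1)⁻¹ = φ := by
    rw [show f v1 * (f v1 * (f v1 * φ * (f v1)⁻¹) * (f v1)⁻¹) * (f v1)⁻¹ = f v1 ^ 3 * φ * (f v1 ^ 3)⁻¹ by
      rw [pow_three]; group, h.f3]; simp
  generalize e1 : f v1 * φ * (f v1)⁻¹ = a at *
  generalize e2 : f v1 * a * (f v1)⁻¹ = b at *
  refine ⟨a, h1, b * a * φ, hF.fp _ (mul_mem (mul_mem h2 h1) hφ) ?_, ?_⟩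
  · rw [← conj_mul, ← conj_mul, h3, e2, e1, mul_assoc φ, com φ hφ _ (mul_mem h2 h1), mul_inv_cancel]; exact one_mem _
  · rw [inv a h1, show a * f v1 * a * (f v1)⁻¹ = a * (f v1 * a * (f v1)⁻¹) by group, e2, ← mul_assoc, ← mul_assoc,
      mul_assoc a, hF.sq b h2, mul_one, hF.sq a h1, one_mul]

end XNb

open XNb

theorem St.xn_b (h : St true f s i) {F : Subgroup G} (hF : Fc f (s mT) (f v1) F) :
    ∀ φ ∈ F, ∀ ψ ∈ F ^ᶜ s (mO * mO), φ * ψ = ψ * φ := by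
  have hW : W true (mO * mO) := W_mO.mul W_mO
  have nt : s (mO * mO) * s mT = s mT * s (mO * mO) := h.scomm hW W_mT (by decide)
  have n1 : s (mO * mO) * f v1 * (s (mO * mO))⁻¹ = f (-v2) := h.act _ hW _
  have n2 : s (mO * mO) * f v2 * (s (mO * mO))⁻¹ = f v3 := h.act _ hW _
  have n3 : s (mO * mO) * f (-v3) * (s (mO * mO))⁻¹ = f v1 := h.act _ hW _
  have nN := h.sN hW
  generalize s (mO * mO) = n at *
  have F2 : ∀ φ ∈ F, φ * f v2 = f v2 * φ := fun φ hφ => cadd h (hF.c3 φ hφ) (hF.c4 φ hφ)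
  have F3 : ∀ φ ∈ F, φ * f v3 = f v3 * φ := fun φ hφ => cadd h (hF.c3 φ hφ) (cneg h (hF.c4 φ hφ))
  set Y := D f s i ⊓ centralizer {f v3} with hY
  have mY : ∀ {k}, k ∈ Y ↔ k ∈ D f s i ∧ k * f v3 = f v3 * k := and_congr_right fun _ => mem_centralizer_singleton_iff
  have FY : F ≤ Y := fun φ hφ => mY.2 ⟨FD h hF hφ, F3 φ hφ⟩
  have FY' : F ^ᶜ n ≤ Y := fun ψ hψ => by
    obtain ⟨φ, hφ, rfl⟩ := mem_cj'.1 hψ
    exact mY.2 ⟨nD h nN nt (FD h hF hφ), n2 ▸ cjc (F2 φ hφ)⟩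
  have UY : zpowers (s mT) ≤ Y := zpowers_le.2 (mY.2 ⟨tD h, (ft h (by decide)).symm⟩)
  have xY : ∀ x, mv mT x = x → ∀ k ∈ Y, f x * k * (f x)⁻¹ ∈ Y := fun x hx k hk =>
    mY.2 ⟨nD h (h.fN x) (ft h hx) hk.1, cm.1 (h.fcomm x v3) ▸ cjc (mY.1 hk).2⟩
  have xU : ∀ g, g * s mT = s mT * g → ∀ k ∈ zpowers (s mT), g * k * g⁻¹ ∈ zpowers (s mT) := fun g e k hk => by
    rwa [cm.1 (zpc hk e)]
  have gd : ∀ x, Good (x + v3) v3 → ∀ k ∈ Y, k * f x = f x * k → k ∈ zpowers (s mT) := fun x hx k hk e =>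
    DN h hk.1 (h.cz hx (cadd h e (mY.1 hk).2) (mY.1 hk).2)
  have key : ∀ φ ∈ F, ∀ ψ ∈ F ^ᶜ n, φ * ψ * φ⁻¹ * ψ⁻¹ ∈ zpowers (s mT) := by
    obtain ⟨m, hm⟩ := card_dvd_of_le UY
    rcases comm_cen (w := f (v1 + v2)) (y := f v1) UY (fun k hk => xU k (Dt h hk.1)) ⟨m, by
        refine ((Nat.Prime.coprime_iff_not_dvd Nat.prime_three).2 fun e => Dp h ?_).symm
        exact (e.trans (hm ▸ Dvd.intro_left _ rfl)).trans (card_dvd_of_le (inf_le_left : Y ≤ _)), hm.trans (mul_comm _ _)⟩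
      (h.f3 _) (h.f3 _) (h.fcomm _ _) (xY _ (by decide)) (xY _ (by decide)) (xU _ (ft h (by decide)))
      (xU _ (ft h (by decide))) (fun k hk e => gd _ (by decide) k hk (lift3 h.t2 (h.f3 _) (ft h (by decide)) e)) with
      a | ⟨k, hk, kU, kc, u, u0, e⟩
    · exact fun φ hφ ψ hψ => mul_mem (mul_mem (mul_mem (a (FY hφ)) (a (FY' hψ))) (inv_mem (a (FY hφ)))) (inv_mem (a (FY' hψ)))
    let Z : Subgroup G :=
      { carrier := {k | k ∈ Y ∧ ∀ k' ∈ Y, k * k' * k⁻¹ * k'⁻¹ ∈ zpowers (s mT)}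
        one_mem' := ⟨one_mem _, fun _ _ => by simp⟩
        mul_mem' := fun {a b} ha hb => ⟨mul_mem ha.1 hb.1, fun c hc => by
          simpa [mul_assoc] using mul_mem (xU a (Dt h ha.1.1) _ (hb.2 c hc)) (ha.2 c hc)⟩
        inv_mem' := fun {a} ha => ⟨inv_mem ha.1, fun c hc => by
          simpa [mul_assoc] using xU _ (Dt h (inv_mem ha.1).1) _ (inv_mem (ha.2 c hc))⟩ }
    have tZ : s mT ∈ Z := ⟨UY (mem_zpowers _), fun c hc => by rw [← Dt h hc.1]; simp⟩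
    have xZ : ∀ x, mv mT x = x → f x * k * (f x)⁻¹ ∈ Z := fun x hx => ⟨xY x hx k hk, fun c hc => by
      have := xU _ (ft h hx) _ (kc _ (xY (-x) (by rw [mv_neg, hx]) c hc))
      rw [h.fneg] at this
      simpa [mul_assoc] using this⟩
    rw [H53.Odd.f9, ← h.fsmul, ← h.fsmul, ← h.add] at e
    have e' := lift3 h.t2 (h.f3 _) (ft h (by
      rw [mv_add, mv_smul, mv_smul, show mv mT (v1 + v2) = v1 + v2 by decide, show mv mT v1 = v1 by decide])) e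
    have sg : ∀ {x y}, x = y ∨ x = -y → k * f x = f x * k → k * f y = f y * k := by
      rintro x y (rfl | rfl) e
      exacts [e, neg_neg y ▸ cneg h e]
    rcases dec9 u.1 u.2 (fun e => u0 (Prod.ext e.1 e.2)) with a | a | a
    · have b : ∀ {x y}, n * f x * n⁻¹ = f y → k * f y = f y * k → n⁻¹ * k * n⁻¹⁻¹ * f x = f x * (n⁻¹ * k * n⁻¹⁻¹) :=
        fun e1 e2 => by simpa [← e1, mul_assoc] using cjc (g := n⁻¹) e2
      have nt' := (show Commute n _ from nt).inv_left.eq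
      have := Fgen h hF (Z := Z ^ᶜ n⁻¹) (cm.1 nt' ▸ cj_mem _ tZ)
        (inF h hF (nD h (inv_mem nN) nt' hk.1) (b n2 (mY.1 hk).2) (neg_neg v3 ▸ cneg h (b n3 (sg a e'))))
        (cj_mem _ ⟨hk, kc⟩) (fun e => kU (by simpa [mul_assoc] using xU n nt _ e))
        (by simpa [← n1, mul_assoc] using cj_mem n⁻¹ (xZ (-v2) (by decide)))
      exact fun φ hφ ψ hψ => by simpa [mul_assoc] using inv_mem ((cj_le_iff.2 this hψ).2 φ (FY hφ))
    · have := Fgen h hF tZ (inF h hF hk.1 (sg a e') (mY.1 hk).2) ⟨hk, kc⟩ kU (xZ _ (by decide))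
      exact fun φ hφ ψ hψ => (this hφ).2 ψ (FY' hψ)
    · exact absurd (gd _ a k hk e') kU
  intro φ hφ ψ hψ
  obtain ⟨a, ha, u, hu, rfl⟩ := Fcom h hF hφ
  have k1 : f v1 * ψ = ψ * f v1 := by
    obtain ⟨φ, hφ, rfl⟩ := mem_cj'.1 hψ
    exact n3 ▸ cjc (cneg h (F3 φ hφ)).symm
  exact ((show Commute _ ψ from avg k1 (zpc (key a ha ψ hψ) (ft h (by decide))).symm
    (zpc (key a ha ψ hψ) (Dt h (FY ha).1)).symm).mul_left (zpc hu (Dt h (FY' hψ).1)).symm).eq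

end H12.O83
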