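import Cfsg.Agent.Lib.O83.XNa
import Cfsg.Agent.Lib.O83.XNb

/-! The symmetric group of degree six does not occur (package XNc). -/

set_option autoImplicit false
set_option linter.unusedSectionVars false

namespace H12.O83

open Subgroup H20.L43 H69

variable {G : Type*} [Group G] [Finite G] {l : Bool} {f : V4 → G} {s : M4 → G} {i : G}

namespace XNc

set_option synthInstance.maxSize 4096 in
theorem sec : Sec true u2 v3 0 e1 v2 where
  hW := by decide
  sq := by decide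
  f0 := by decide
  f1 := by decide
  fw := by decide
  fy := by decide
  dec := by decide +kernel
  inj := by decide +kernel
  nd := by decide +kernel
  big := ⟨e1 + v3, v3, by decide, by decide, by decide⟩
  two := fun M hM => forall_orth (P := fun M => M * u2 = u2 * M → mv M v3 = v3 → mv M 0 = 0 →
    M ^ 4 = 1 ∧ (mv M e1 = e1 → mv M v2 = v2 → M = 1 ∨ M = u2)) (by decide +kernel) M hM.1

set_option synthInstance.maxSize 4096 in
theorem hm (M : M4) (hM : W true M) : M * u2 = u2 * M → mv M v3 = v3 → mv M 0 = 0 →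
    (mv M e1 = e1 ∨ mv M e1 = -e1) ∧ (mv M v2 = v2 ∨ mv M v2 = -v2) :=
  forall_orth (P := fun M => M * u2 = u2 * M → mv M v3 = v3 → mv M 0 = 0 →
    (mv M e1 = e1 ∨ mv M e1 = -e1) ∧ (mv M v2 = v2 ∨ mv M v2 = -v2)) (by decide +kernel) M hM.1

theorem cm2 {a b : G} (h : Pre f a b) {g : G} {x y : V4} (h1 : g * f x = f x * g)
    (h2 : g * f y = f y * g) (z : V4) (hz : ∃ α β : ZMod 3, z = α • x + β • y) :
    g * f z = f z * g := by
  obtain ⟨α, β, rfl⟩ := hz
  rw [h.add, h.fsmul, h.fsmul]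
  exact ((Commute.pow_right h1 _).mul_right (Commute.pow_right h2 _)).eq

theorem nj (h : St true f s i) {a b : ZMod 3} (ha : a ≠ 0) {g : G} (h3 : g * f v3 = f v3 * g)
    (hg : g * f (a • e1 + b • v2) = f (a • e1 + b • v2) * g) : g ∈ NJ f := by
  have key : ∀ a b : ZMod 3, a ≠ 0 → ∃ α β : ZMod 3,
      Good (α • (a • e1 + b • v2) + β • v3) v3 := by decide
  obtain ⟨α, β, hp⟩ := key a b ha
  exact h.cz hp (cm2 h.toPre hg h3 _ ⟨α, β, rfl⟩) h3

theorem ab {F : Subgroup G} (hF : ∀ φ ∈ F, φ * φ = 1) {a b : G} (ha : a ∈ F) (hb : b ∈ F) :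
    a * b = b * a := by
  have e1 : a⁻¹ = a := inv_eq_of_mul_eq_one_right (hF a ha)
  have e2 : b⁻¹ = b := inv_eq_of_mul_eq_one_right (hF b hb)
  have e3 : (a * b)⁻¹ = a * b := inv_eq_of_mul_eq_one_right (hF _ (F.mul_mem ha hb))
  rw [← e3, mul_inv_rev, e1, e2]

theorem v2_of {a b : G} (h : Pre f a b) {c : ZMod 3} (hc : c ≠ 0) {g : G}
    (hg : g * f ((0 : ZMod 3) • e1 + c • v2) = f ((0 : ZMod 3) • e1 + c • v2) * g) :
    g * f v2 = f v2 * g := by
  have key : ∀ c : ZMod 3, c ≠ 0 → ∃ α β : ZMod 3,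
      v2 = α • ((0 : ZMod 3) • e1 + c • v2) + β • ((0 : ZMod 3) • e1 + c • v2) := by decide
  exact cm2 h hg hg _ (key c hc)

theorem ydx (h : St true f s i) {F' : Subgroup G} (hF' : Fc f (s u2) (f e1) F') :
    ∃ Y, YD f u2 (Lc f (s u2) v3 0) (Uc f (s u2) v3 0) Y e1 v2 := by
  refine h.nine sec (σ := u1) (τ := p2) (by decide) W_p2 (by decide) (by decide) (by decide)
    (by decide) (by decide) (by decide) (by decide) (by decide) (by decide) (by decide) (by decide)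
    (by decide) (by decide) hm ?_ ?_
  · intro g hg e
    refine nj h (a := 1) (b := 0) one_ne_zero (mem_Lc.1 hg).2.1 ?_
    simpa using e
  · intro a b hb
    by_cases ha : a = 0
    · subst ha
      refine ⟨F', fun o ho => mem_Lc.2 ⟨ab hF'.sq ho hF'.aF,
        cm2 h.toPre (hF'.c3 o ho) (hF'.c4 o ho) _ (by decide), by rw [h.toPre.f0]; simp⟩,
        fun o ho => ⟨?_, ?_⟩, fun g hg e => ?_⟩
      · rw [show (4 : ℕ) = 2 * 2 from rfl, pow_mul, pow_two o, hF'.sq o ho, one_pow]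
      · have key : ∀ c : ZMod 3, ∃ α β : ZMod 3, (0 : ZMod 3) • e1 + c • v2 = α • e3 + β • e4 := by
          decide
        exact cm2 h.toPre (hF'.c3 o ho) (hF'.c4 o ho) _ (key b)
      · have h2 := v2_of h.toPre hb e
        have h3 := (mem_Lc.1 hg).2.1
        exact hF'.nF g (mem_Lc.1 hg).1 (cm2 h.toPre h2 h3 _ (by decide))
          (cm2 h.toPre h2 h3 _ (by decide))
    · refine ⟨⊥, bot_le, fun o ho => ?_, fun g hg e => ⟨fun o ho => ?_, 1, one_mem _, ?_⟩⟩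
      · rw [mem_bot.1 ho]; simp
      · rw [mem_bot.1 ho]; simp
      · rw [one_mul]; exact nj h ha (mem_Lc.1 hg).2.1 e

theorem ycen (h : St true f s i) {Y : Subgroup G}
    (hY : YD f u2 (Lc f (s u2) v3 0) (Uc f (s u2) v3 0) Y e1 v2) {k : G} (hk : k ∈ Y) :
    k * f v2 = f v2 * k := by
  have hU : Uc f (s u2) v3 0 ≤ centralizer {f v2} := by
    intro u hu
    have hL : f v2 ∈ Lc f (s u2) v3 0 :=
      mem_Lc.2 ⟨(h.sfc (M := u2) (by decide) (by decide)).symm, h.toPre.fcomm _ _, h.toPre.fcomm _ _⟩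
    exact mem_centralizer_singleton_iff.2 (Uc_cen hL hu).symm
  refine mem_centralizer_singleton_iff.1 (hY.gen (centralizer {f v2}) hU ?_ hk)
  intro a b hab k hk e
  by_cases ha : a = 0
  · subst ha
    exact mem_centralizer_singleton_iff.2 (v2_of h.toPre (fun hb => hab ⟨rfl, hb⟩) e)
  · exact hU (hY.inN k hk (nj h ha (mem_Lc.1 (hY.le hk)).2.1 e))

end XNc

open XNc in
theorem St.xn_c (h : St true f s i) {F F' : Subgroup G} (hF : Fc f (s mT) (f v1) F)
    (h8 : Nat.card F = 8) (hF' : Fc f (s u2) (f e1) F') {φ k : G} (hφ : φ ∈ F)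
    (k3 : k * f e3 = f e3 * k) (k4 : k * f e4 = f e4 * k) (e : k * s u2 * k⁻¹ = φ) : False := by
  obtain ⟨Y, hY⟩ := ydx h hF'
  have hO : W true (mO * mO) := W_mO.mul W_mO
  have kv2 : k * f v2 = f v2 * k := cm2 h.toPre k3 k4 _ (by decide)
  have kv3 : k * f v3 = f v3 * k := cm2 h.toPre k3 k4 _ (by decide)
  have o1 : s (mO * mO) * f v1 * (s (mO * mO))⁻¹ = (f v2)⁻¹ := by
    rw [h.act _ hO, ← h.toPre.fneg]; congr 1
  have o2 : s (mO * mO) * f v2 * (s (mO * mO))⁻¹ = f v3 := by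
    rw [h.act _ hO]; congr 1
  have yt : f v1 * s mT = s mT * f v1 := (h.sfc W_mT (by decide)).symm
  have yF : ∀ χ ∈ F, f v1 * χ * (f v1)⁻¹ ∈ F :=
    (hF.nF _ yt (h.toPre.fcomm _ _) (h.toPre.fcomm _ _)).1
  have main : F ≤ zpowers (s mT) := by
    intro χ hχ
    generalize hω : s (mO * mO) = ω at o1 o2
    have c1 : φ * (ω * χ * ω⁻¹) = ω * χ * ω⁻¹ * φ :=
      h.xn_b hF φ hφ _ (hω ▸ cj_mem _ hχ)
    have χ2 : χ * f v2 = f v2 * χ := cm2 h.toPre (hF.c3 χ hχ) (hF.c4 χ hχ) _ (by decide)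
    have c3 : ω * χ * ω⁻¹ * f v3 = f v3 * (ω * χ * ω⁻¹) := by
      rw [← o2]
      calc ω * χ * ω⁻¹ * (ω * f v2 * ω⁻¹) = ω * (χ * f v2) * ω⁻¹ := by group
        _ = _ := by rw [χ2]; group
    have hb : k⁻¹ * (ω * χ * ω⁻¹) * k ∈ Lc f (s u2) v3 0 := by
      refine mem_Lc.2 ⟨?_, ?_, by rw [h.toPre.f0]; simp⟩
      · have : s u2 = k⁻¹ * φ * k := by rw [← e]; group
        rw [this]
        calc k⁻¹ * (ω * χ * ω⁻¹) * k * (k⁻¹ * φ * k) = k⁻¹ * (ω * χ * ω⁻¹ * φ) * k := by group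
          _ = _ := by rw [← c1]; group
      · exact ((((Commute.symm kv3).inv_right.mul_right (Commute.symm c3)).mul_right
          (Commute.symm kv3)).symm).eq
    have hd : χ * f v1 * χ⁻¹ * (f v1)⁻¹ ∈ F := by
      have := F.mul_mem hχ (yF _ (F.inv_mem hχ))
      simpa [mul_assoc] using this
    have ky : f (-v2) = k⁻¹ * (ω * f v1 * ω⁻¹) * k := by
      rw [o1, h.toPre.fneg, mul_assoc, ← ((Commute.symm kv2).inv_left).eq.symm]; group
    have hc : k⁻¹ * (ω * χ * ω⁻¹) * k * f (-v2) * (k⁻¹ * (ω * χ * ω⁻¹) * k)⁻¹ * (f (-v2))⁻¹ =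
        k⁻¹ * (ω * (χ * f v1 * χ⁻¹ * (f v1)⁻¹) * ω⁻¹) * k := by
      rw [ky]; group
    have hcY := hY.core _ hb (-v2) (by decide) (by
      rw [hc]
      generalize χ * f v1 * χ⁻¹ * (f v1)⁻¹ = d at hd
      have : (k⁻¹ * (ω * d * ω⁻¹) * k) ^ 4 = k⁻¹ * ω * (d * d * (d * d)) * ω⁻¹ * k := by
        simp only [pow_succ, pow_zero]; group
      rw [this, hF.sq d hd]
      simp)
    rw [hc] at hcY
    have hcc := cm2 h.toPre (ycen h hY hcY) (ycen h hY hcY) (-v2) (by decide)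
    rw [ky] at hcc
    have hdy : ∀ d y : G, k⁻¹ * (ω * d * ω⁻¹) * k * (k⁻¹ * (ω * y * ω⁻¹) * k) =
        k⁻¹ * (ω * y * ω⁻¹) * k * (k⁻¹ * (ω * d * ω⁻¹) * k) → y * d * y⁻¹ * d⁻¹ = 1 := by
      intro d y e
      have : d * y = ω⁻¹ * k * (k⁻¹ * (ω * d * ω⁻¹) * k * (k⁻¹ * (ω * y * ω⁻¹) * k)) * k⁻¹ * ω := by
        group
      rw [e] at this
      have e2 : y * d = d * y := by rw [this]; group
      rw [e2]; group
    have f1 := hF.fp _ hd (by rw [hdy _ _ hcc]; exact one_mem _)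
    refine hF.fp χ hχ ?_
    have := inv_mem f1
    simpa [mul_assoc] using this
  have h2 : Nat.card (zpowers (s mT)) ≤ 2 := by
    rw [Nat.card_zpowers]
    exact Nat.le_of_dvd two_pos (orderOf_dvd_of_pow_eq_one (by rw [pow_two, h.t2]))
  have := Subgroup.card_le_of_le main
  omega

theorem St.xn (h : St l f s i) : XN f := by
  cases l with
  | false => exact h.xn_one
  | true =>
    rcases h.xn_or with hX | ⟨F, F', hF, h8, hF', φ, hφ, k, k3, k4, e⟩
    · exact hX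
    · exact (h.xn_c hF h8 hF' hφ k3 k4 e).elim

end H12.O83
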